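import Cfsg.Agent.Lib.Recog.G2Sylow.CentQuot

/-!
# The action on the quotient and the two sides

Conjugation in the centralizer modulo its core acts on the subgroup of index two modulo the central
involution and keeps both sides (owner: helper28).
-/

set_option autoImplicit false
set_option maxHeartbeats 800000

namespace CfsgLib.Recog.G2Sylow

open W
open DihedralGroup (sr r)
open CfsgLib.TwoFusion.DihedralProduct (involClass)
open CfsgLib.TwoFusion.DihedralProduct.Fusion (DG mid)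

universe u

variable {Q : Type u} [Group Q] [Finite Q] {S : Sylow 2 Q} {a : ℕ} {ι : W (2 ^ a) →* Q}

namespace CentCtx

variable (D : CentCtx S ι)

theorem map_conjNormal_Z0 (q : Q) :
    D.Z0.map (MulAut.conjNormal q : MulAut ↥D.C0).toMonoidHom = D.Z0 := by
  have hfix : ∀ (q : Q) (c : ↥D.C0), c ∈ D.Z0 → (MulAut.conjNormal q : MulAut ↥D.C0) c = c := by
    intro q c hc
    refine Subtype.ext ?_
    rw [MulAut.conjNormal_apply]
    rcases D.mem_Z0.1 hc with e | e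
    · rw [e, mul_one, mul_inv_cancel]
    · rw [e, (D.cen q).eq, mul_inv_cancel_right]
  ext c
  exact ⟨fun ⟨d, hd, e⟩ => by rw [← e]; exact (hfix q d hd).symm ▸ hd, fun hc => ⟨c, hc, hfix q c hc⟩⟩

/-- conjugation on the quotient -/
noncomputable def act : Q →* MulAut D.Hq where
  toFun q := QuotientGroup.congr D.Z0 D.Z0 (MulAut.conjNormal q) (D.map_conjNormal_Z0 q)
  map_one' := MulEquiv.ext fun h => by
    obtain ⟨c, rfl⟩ := QuotientGroup.mk'_surjective D.Z0 h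
    show QuotientGroup.mk ((MulAut.conjNormal (1 : Q) : MulAut ↥D.C0) c) = _
    rw [map_one]
    rfl
  map_mul' q q' := MulEquiv.ext fun h => by
    obtain ⟨c, rfl⟩ := QuotientGroup.mk'_surjective D.Z0 h
    show QuotientGroup.mk ((MulAut.conjNormal (q * q') : MulAut ↥D.C0) c) = _
    rw [map_mul]
    rfl

theorem act_proj (q : Q) (c : ↥D.C0) :
    D.act q (D.proj c) = D.proj ((MulAut.conjNormal q : MulAut ↥D.C0) c) := rfl

theorem act_coe (c : ↥D.C0) : D.act (c : Q) = MulAut.conj (D.proj c) := by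
  refine MulEquiv.ext fun h => ?_
  obtain ⟨d, rfl⟩ := QuotientGroup.mk'_surjective D.Z0 h
  show D.act (c : Q) (D.proj d) = _
  rw [D.act_proj, MulAut.conj_apply, show QuotientGroup.mk' D.Z0 d = D.proj d from rfl, ← map_inv, ← map_mul,
    ← map_mul]
  congr 1

/-- the translation by `(1, 0)` -/
noncomputable abbrev xx (_ : CentCtx S ι) : Q := ι (tr 1 0)

theorem act_xx_toH (p p' : ↥(piHom D.le).ker)
    (h : tr 1 0 * (p : W (2 ^ a)) * (tr 1 0)⁻¹ = (p' : W (2 ^ a))) :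
    D.act D.xx (D.toH p) = D.toH p' := by
  refine congrArg D.proj (Subtype.ext ?_)
  refine (MulAut.conjNormal_apply (H := D.C0) D.xx (D.iota0 p)).trans ?_
  show ι (tr 1 0) * ι (p : W (2 ^ a)) * (ι (tr 1 0))⁻¹ = ι (p' : W (2 ^ a))
  rw [← h, map_mul, map_mul, map_inv]

/-- What is used of one side. -/
structure Side (SH : Sylow 2 D.Hq) (Φ : DG (a - 1) × DG (a - 1) →* D.Hq) : Prop where
  halves : Halves SH (a - 1) Φ D.eps
  fix_r : ∀ i, D.act D.xx (Φ (r i, 1)) = Φ (r i, 1)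
  move_sr : D.act D.xx (Φ (sr 0, 1)) = Φ (sr 0 * (r 1)⁻¹, 1)
  cross : ∀ d e, ∃ u v : ↥D.C0, D.proj u = Φ (d, 1) ∧ D.proj v = Φ (1, e) ∧ Commute u v
  quat : a = 2 → ∃ f : QuaternionGroup 2 →* ↥D.C0, Function.Injective f ∧ ∀ q, D.proj (f q) ∈ leftFactor Φ

theorem toH_pow (p : ↥(piHom D.le).ker) (k : ℕ) : D.toH (p ^ k) = D.toH p ^ k := map_pow _ _ _

theorem xx_fix_rho1 : D.act D.xx (D.toH ⟨rho1 a, rho1_mem D.le⟩) = D.toH ⟨rho1 a, rho1_mem D.le⟩ :=
  D.act_xx_toH _ _ (by ext <;> simp [rho1, tr])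

theorem xx_fix_rho2 : D.act D.xx (D.toH ⟨rho2 a, rho2_mem D.le⟩) = D.toH ⟨rho2 a, rho2_mem D.le⟩ :=
  D.act_xx_toH _ _ (by ext <;> simp [rho2, tr])

theorem xx_sig1 : D.act D.xx (D.toH ⟨sig1 a, sig1_mem D.le⟩) =
    D.toH ⟨sig1 a, sig1_mem D.le⟩ * (D.toH ⟨rho1 a, rho1_mem D.le⟩)⁻¹ := by
  rw [← map_inv, ← map_mul]
  exact D.act_xx_toH _ _ (by ext <;> simp [sig1, rho1, e1, us, tr] <;> ring)

theorem xx_sig2 : D.act D.xx (D.toH ⟨sig2 a, sig2_mem D.le⟩) =
    D.toH ⟨sig2 a, sig2_mem D.le⟩ * (D.toH ⟨rho2 a, rho2_mem D.le⟩)⁻¹ := by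
  rw [← map_inv, ← map_mul]
  exact D.act_xx_toH _ _ (by ext <;> simp [sig2, rho2, e1, ss, tr] <;> ring)

theorem phi_left (d : DG (a - 1)) : D.phi (d, 1) = D.toH (lift1 D.le d) := by
  rw [D.phi_apply, show lift2 D.le (1 : DG (a - 1)) = 1 by
    show _ ^ (0 : ZMod (2 ^ (a - 1))).val = 1
    rw [ZMod.val_zero, pow_zero], mul_one]

theorem phi_right (d : DG (a - 1)) : D.phi (1, d) = D.toH (lift2 D.le d) := by
  rw [D.phi_apply, show lift1 D.le (1 : DG (a - 1)) = 1 by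
    show _ ^ (0 : ZMod (2 ^ (a - 1))).val = 1
    rw [ZMod.val_zero, pow_zero], one_mul]

/-- the eight elements of a quaternion side, `a = 2` -/
def quatMap (s rho : W (2 ^ 2)) : QuaternionGroup 2 → W (2 ^ 2)
  | .a k => rho ^ k.val
  | .xa k => s * rho ^ k.val

theorem quatMap_facts :
    ((∀ p q : QuaternionGroup 2, quatMap (sig1 2) (rho1 2) (p * q) =
        quatMap (sig1 2) (rho1 2) p * quatMap (sig1 2) (rho1 2) q) ∧
      ∀ p q : QuaternionGroup 2, quatMap (sig1 2) (rho1 2) p = quatMap (sig1 2) (rho1 2) q → p = q) ∧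
    ((∀ p q : QuaternionGroup 2, quatMap (sig2 2) (rho2 2) (p * q) =
        quatMap (sig2 2) (rho2 2) p * quatMap (sig2 2) (rho2 2) q) ∧
      ∀ p q : QuaternionGroup 2, quatMap (sig2 2) (rho2 2) p = quatMap (sig2 2) (rho2 2) q → p = q) := by
  refine ⟨⟨?_, ?_⟩, ?_, ?_⟩ <;> decide +kernel

theorem sides : ∃ SH : Sylow 2 D.Hq, D.Side SH D.phi ∧ D.Side SH (swapHom D.phi) := by
  obtain ⟨SH, hH⟩ := D.exists_halves
  have h1 : D.phi (r 1, 1) = D.toH ⟨rho1 a, rho1_mem D.le⟩ := by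
    haveI : Fact (1 < 2 ^ (a - 1)) := ⟨Nat.one_lt_two_pow (by have := D.le; omega)⟩
    rw [D.phi_left]; simp only [lift1, ZMod.val_one, pow_one]
  have h2 : D.phi (1, r 1) = D.toH ⟨rho2 a, rho2_mem D.le⟩ := by
    haveI : Fact (1 < 2 ^ (a - 1)) := ⟨Nat.one_lt_two_pow (by have := D.le; omega)⟩
    rw [D.phi_right]; simp only [lift2, ZMod.val_one, pow_one]
  have s1 : D.phi (sr 0, 1) = D.toH ⟨sig1 a, sig1_mem D.le⟩ := by
    rw [D.phi_left]; simp only [lift1, ZMod.val_zero, pow_zero, mul_one]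
  have s2 : D.phi (1, sr 0) = D.toH ⟨sig2 a, sig2_mem D.le⟩ := by
    rw [D.phi_right]; simp only [lift2, ZMod.val_zero, pow_zero, mul_one]
  refine ⟨SH, ⟨hH, fun i => ?_, ?_, fun d e => ?_, ?_⟩, ⟨hH.swap, fun i => ?_, ?_, fun d e => ?_, ?_⟩⟩
  · rw [D.phi_left]
    simp only [lift1, map_pow, D.xx_fix_rho1]
  · rw [s1, D.xx_sig1, ← h1, ← s1, ← map_inv, ← map_mul, Prod.inv_mk, inv_one, Prod.mk_mul_mk, mul_one]
  · exact ⟨D.iota0 (lift1 D.le d), D.iota0 (lift2 D.le e), (D.phi_left d).symm, (D.phi_right e).symm,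
      (show Commute (lift1 D.le d) (lift2 D.le e) from Subtype.ext (lift_commute D.le d e)).map D.iota0⟩
  · rintro rfl
    obtain ⟨⟨hm, hi⟩, -⟩ := quatMap_facts
    let g : QuaternionGroup 2 →* W (2 ^ 2) := MonoidHom.mk' _ hm
    have hg : ∀ q, g q ∈ (piHom D.le).ker := fun q => by
      rcases q with k | k
      · exact pow_mem (rho1_mem D.le) _
      · exact mul_mem (sig1_mem D.le) (pow_mem (rho1_mem D.le) _)
    refine ⟨D.iota0.comp (g.codRestrict _ hg), fun p q h => hi p q ?_, fun q => ?_⟩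
    · exact D.inj (congrArg Subtype.val h)
    · have hk : ∀ k : ℕ, D.toH (⟨rho1 2, rho1_mem D.le⟩ ^ k) ∈ leftFactor D.phi := fun k => by
        rw [map_pow, ← h1]; exact pow_mem (show _ ∈ leftFactor _ from ⟨r 1, rfl⟩) k
      rcases q with k | k
      · exact hk k.val
      · show D.toH (⟨sig1 2, sig1_mem D.le⟩ * ⟨rho1 2, rho1_mem D.le⟩ ^ k.val) ∈ _
        rw [map_mul, ← s1]
        exact mul_mem ⟨sr 0, rfl⟩ (hk k.val)
  · rw [swapHom_apply, D.phi_right]
    simp only [lift2, map_pow, D.xx_fix_rho2]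
  · rw [swapHom_apply, swapHom_apply, s2, D.xx_sig2, ← h2, ← s2, ← map_inv, ← map_mul, Prod.inv_mk, inv_one,
      Prod.mk_mul_mk, one_mul]
  · refine ⟨D.iota0 (lift2 D.le d), D.iota0 (lift1 D.le e), ?_, ?_,
      ((show Commute (lift1 D.le e) (lift2 D.le d) from Subtype.ext (lift_commute D.le e d)).map D.iota0).symm⟩
    · rw [swapHom_apply]; exact (D.phi_right d).symm
    · rw [swapHom_apply]; exact (D.phi_left e).symm
  · rintro rfl
    obtain ⟨-, hm, hi⟩ := quatMap_facts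
    let g : QuaternionGroup 2 →* W (2 ^ 2) := MonoidHom.mk' _ hm
    have hg : ∀ q, g q ∈ (piHom D.le).ker := fun q => by
      rcases q with k | k
      · exact pow_mem (rho2_mem D.le) _
      · exact mul_mem (sig2_mem D.le) (pow_mem (rho2_mem D.le) _)
    refine ⟨D.iota0.comp (g.codRestrict _ hg), fun p q h => hi p q ?_, fun q => ?_⟩
    · exact D.inj (congrArg Subtype.val h)
    · have hk : ∀ k : ℕ, D.toH (⟨rho2 2, rho2_mem D.le⟩ ^ k) ∈ leftFactor (swapHom D.phi) := fun k => by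
        rw [map_pow, ← h2]; exact pow_mem (show _ ∈ leftFactor _ from ⟨r 1, rfl⟩) k
      rcases q with k | k
      · exact hk k.val
      · show D.toH (⟨sig2 2, sig2_mem D.le⟩ * ⟨rho2 2, rho2_mem D.le⟩ ^ k.val) ∈ _
        rw [map_mul, ← s2]
        exact mul_mem ⟨sr 0, rfl⟩ (hk k.val)

variable {D} {SH : Sylow 2 D.Hq} {Φ : DG (a - 1) × DG (a - 1) →* D.Hq}

theorem Side.stable_xx (s : D.Side SH Φ) : (sideN Φ).map (D.act D.xx).toMonoidHom = sideN Φ := by
  have hA : ∀ v ∈ leftFactor Φ, D.act D.xx v ∈ leftFactor Φ := by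
    rintro _ ⟨d, rfl⟩
    rcases d with i | i
    · exact ⟨r i, (s.fix_r i).symm⟩
    · refine ⟨sr 0 * (r 1)⁻¹ * r i, ?_⟩
      show Φ (_, 1) = D.act D.xx (Φ (sr i, 1))
      rw [show ((sr i, 1) : DG (a - 1) × DG (a - 1)) = (sr 0, 1) * (r i, 1) by simp, map_mul, map_mul,
        s.move_sr, s.fix_r, ← map_mul]
      simp
  refine Subgroup.eq_of_le_of_card_ge ?_ (le_of_eq (Subgroup.card_map_of_injective (MulEquiv.injective _)).symm)
  rw [sideN, MonoidHom.map_closure]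
  refine Subgroup.closure_mono ?_
  rintro _ ⟨v, ⟨hv, g, hg⟩, rfl⟩
  refine ⟨(orderOf_injective _ (MulEquiv.injective _) v).trans hv, D.act D.xx g, ?_⟩
  have := hA _ hg
  rwa [map_mul, map_mul, map_inv] at this

theorem Side.stable (s : D.Side SH Φ) (q : Q) : (sideN Φ).map (D.act q).toMonoidHom = sideN Φ := by
  have hC : ∀ c : ↥D.C0, (sideN Φ).map (D.act (c : Q)).toMonoidHom = sideN Φ := fun c => by
    refine Subgroup.eq_of_le_of_card_ge ?_ (le_of_eq (Subgroup.card_map_of_injective (MulEquiv.injective _)).symm)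
    rintro _ ⟨v, hv, rfl⟩
    show D.act (c : Q) v ∈ _
    rw [D.act_coe, MulAut.conj_apply]
    exact (sideN_normal Φ).conj_mem v hv _
  by_cases hq : q ∈ D.C0
  · exact hC ⟨q, hq⟩
  have h := hC ⟨_, D.mul_x_mem hq⟩
  rw [map_mul, show (D.act (ι (tr 1 0)) * D.act q).toMonoidHom =
    (D.act D.xx).toMonoidHom.comp (D.act q).toMonoidHom from rfl, ← Subgroup.map_map] at h
  conv_rhs at h => rw [← s.stable_xx]
  exact Subgroup.map_injective (MulEquiv.injective _) h

/-- the action on a side -/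
noncomputable def Side.actSide (s : D.Side SH Φ) : Q →* MulAut (sideN Φ) where
  toFun q := ((D.act q).subgroupMap (sideN Φ)).trans (MulEquiv.subgroupCongr (s.stable q))
  map_one' := MulEquiv.ext fun v => Subtype.ext (by
    show D.act 1 (v : D.Hq) = v
    rw [map_one]; rfl)
  map_mul' q q' := MulEquiv.ext fun v => Subtype.ext (by
    show D.act (q * q') (v : D.Hq) = D.act q (D.act q' (v : D.Hq))
    rw [map_mul]; rfl)

theorem Side.actSide_coe (s : D.Side SH Φ) (q : Q) (v : sideN Φ) :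
    ((s.actSide q v : sideN Φ) : D.Hq) = D.act q (v : D.Hq) := rfl

end CentCtx

end CfsgLib.Recog.G2Sylow
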