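import Cfsg.Agent.Lib.Recog.G2Sylow.TransferT
import Cfsg.Agent.Lib.TwoFusion.DihedralProduct.Fusion.Frame

/-!
# The centralizer of a central involution modulo its core

When all involutions are fused, three involutions of the kernel of the parity character are conjugate
to the first coordinate involution inside the centraliser of the central involution (owner: helper28).
-/

set_option autoImplicit false
set_option maxHeartbeats 800000

namespace CfsgLib.Recog.G2Sylow

open W
open Subgroup (centralizer)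
open CfsgLib.TwoFusion.DihedralProduct.Fusion (conj_to_central)

universe u

/-- the first coordinate involution -/
def e1 (a : ℕ) : W (2 ^ a) := tr (half a) 0

/-- The centraliser of the central involution modulo its core, as far as it is needed. -/
structure CentCtx {Q : Type u} [Group Q] [Finite Q] (S : Sylow 2 Q) {a : ℕ} (ι : W (2 ^ a) →* Q) : Prop where
  le : 2 ≤ a
  inj : Function.Injective ι
  range : ι.range = (S : Subgroup Q)
  core : Cfsg.oddCore Q = ⊥
  cen : ∀ q : Q, Commute q (ι (zc a))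
  fuse_uu : IsConj (ι uu) (ι (e1 a))
  fuse_u11 : IsConj (ι (tr 1 1 * uu)) (ι (e1 a))
  fuse_ss : IsConj (ι ss) (ι (e1 a))

theorem zc_comm {a : ℕ} (ha : 2 ≤ a) (p : W (2 ^ a)) : Commute (zc a) p := by
  have := two_half ha
  obtain ⟨x, y, c, d⟩ := p
  show _ = _
  cases c <;> cases d <;> ext <;> simp [zc, tr] <;>
    first
      | linear_combination this
      | linear_combination (-1 : ZMod (2 ^ a)) * this
      | linear_combination (0 : ZMod (2 ^ a)) * this

section fusion

variable {G : Type u} [Group G] [Finite G] {S : Sylow 2 G} {a : ℕ} (ι : W (2 ^ a) →* G)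
  (ha : 2 ≤ a) (hinj : Function.Injective ι) (hrange : ι.range = (S : Subgroup G))
  (hone : ∀ x y : G, orderOf x = 2 → orderOf y = 2 → IsConj x y)

include ha hinj hrange hone

theorem orderOf_two {p : W (2 ^ a)} (h1 : p ≠ 1) (h2 : p * p = 1) : orderOf (ι p) = 2 := by
  rw [orderOf_injective ι hinj]
  exact orderOf_eq_prime (by rw [pow_two]; exact h2) h1

/-- An involution is moved onto the central one together with its centraliser in the model. -/
theorem move_to_center {c : W (2 ^ a)} (h1 : c ≠ 1) (h2 : c * c = 1) :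
    ∃ g : G, g * ι c * g⁻¹ = ι (zc a) ∧ ∀ p, Commute p c → ∃ r, ι r = g * ι p * g⁻¹ := by
  have hz2 : zc a * zc a = 1 := by
    ext <;> simp [zc, tr] <;> linear_combination two_half ha
  have hzc : ι (zc a) ∈ centralizer ((S : Subgroup G) : Set G) := Subgroup.mem_centralizer_iff.2 fun x hx => by
    rw [← hrange] at hx
    obtain ⟨r, rfl⟩ := hx
    exact ((zc_comm ha r).map ι).eq.symm
  obtain ⟨g, hg, hgS⟩ := conj_to_central S hzc
    (hone _ _ (orderOf_two ι ha hinj hrange hone h1 h2)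
      (orderOf_two ι ha hinj hrange hone (zc_ne_one ha) hz2))
    (Q := (centralizer ({c} : Set (W (2 ^ a)))).map ι)
    (S.2.to_le (hrange ▸ Subgroup.map_le_range ι _)) (by
      rintro _ ⟨p, hp, rfl⟩
      exact (show Commute p c from Subgroup.mem_centralizer_singleton_iff.1 hp).map ι)
  refine ⟨g, hg, fun p hp => ?_⟩
  have := hgS _ ⟨p, Subgroup.mem_centralizer_singleton_iff.2 hp.eq, rfl⟩
  rwa [← hrange] at this

/-- An element exchanging the first coordinate involution and the central one. -/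
theorem exists_exchange : ∃ τ : G, τ * ι (e1 a) * τ⁻¹ = ι (zc a) ∧ τ * ι (zc a) * τ⁻¹ = ι (e1 a) := by
  have h2 := two_half ha
  have he2 : e1 a * e1 a = 1 := by ext <;> simp [e1, tr] <;> linear_combination h2
  have he1 : e1 a ≠ 1 := fun h => half_ne_zero ha (congrArg W.x h)
  obtain ⟨g, hg, hgS⟩ := move_to_center ι ha hinj hrange hone he1 he2
  -- the translations are kept
  let A : Subgroup (W (2 ^ a)) := (((T (2 ^ a)).map ι).map (MulAut.conj g).toMonoidHom).comap ι
  have hAle : ((T (2 ^ a)).map ι).map (MulAut.conj g).toMonoidHom ≤ ι.range := by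
    rintro _ ⟨y, ⟨p, hp, rfl⟩, rfl⟩
    exact hgS p (T_comm hp (tr_mem_T _ _))
  have hA : A = T (2 ^ a) := by
    refine W.eq_T ha A (fun p hp q hq => ?_) ?_
    · obtain ⟨_, ⟨y, hy, rfl⟩, hyp⟩ := hp
      obtain ⟨_, ⟨y', hy', rfl⟩, hyq⟩ := hq
      refine hinj ?_
      rw [map_mul, map_mul, ← hyp, ← hyq, ← map_mul, ← map_mul, ← map_mul, ← map_mul, T_comm hy hy']
    · rw [← Subgroup.card_map_of_injective (f := ι) (K := A) hinj, Subgroup.map_comap_eq,
        inf_eq_right.2 hAle, Subgroup.card_map_of_injective (MulEquiv.injective _),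
        Subgroup.card_map_of_injective (f := ι) hinj, card_T]
  obtain ⟨r, hr⟩ := hgS (zc a) (zc_comm ha _)
  have hrT : r ∈ T (2 ^ a) := by
    rw [← hA]
    exact ⟨_, ⟨zc a, tr_mem_T _ _, rfl⟩, hr.symm⟩
  have hr2 : r * r = 1 := hinj (by
    rw [map_mul, hr, map_one, show g * ι (zc a) * g⁻¹ * (g * ι (zc a) * g⁻¹) = g * (ι (zc a) * ι (zc a)) * g⁻¹ by group,
      ← map_mul, show zc a * zc a = 1 by ext <;> simp [zc, tr] <;> linear_combination h2, map_one, mul_one,
      mul_inv_cancel])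
  obtain ⟨hra, hrb⟩ := hrT
  have e1' := congrArg W.x hr2
  have e2' := congrArg W.y hr2
  simp [hra, hrb] at e1' e2'
  rcases two_elementary ha ⟨hra, hrb⟩ (show 2 * r.x = 0 by linear_combination e1')
    (show 2 * r.y = 0 by linear_combination e2') with e | e | e | e <;> rw [e] at hr
  · exfalso
    rw [show tr (0 : ZMod (2 ^ a)) 0 = 1 from rfl, map_one, eq_comm, conj_eq_one_iff, ← map_one ι] at hr
    exact zc_ne_one ha (hinj hr)
  · exact ⟨g, hg, hr.symm⟩
  · refine ⟨ι ss * g, ?_, ?_⟩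
    · rw [show ι ss * g * ι (e1 a) * (ι ss * g)⁻¹ = ι ss * (g * ι (e1 a) * g⁻¹) * (ι ss)⁻¹ by group, hg,
        ← map_inv, ← map_mul, ← map_mul]
      congr 1
      ext <;> simp [ss, zc, tr]
    · rw [show ι ss * g * ι (zc a) * (ι ss * g)⁻¹ = ι ss * (g * ι (zc a) * g⁻¹) * (ι ss)⁻¹ by group, ← hr,
        ← map_inv, ← map_mul, ← map_mul]
      congr 1
      ext <;> simp [ss, e1, tr]
  · exfalso
    have h : g * ι (zc a) * g⁻¹ = g * ι (e1 a) * g⁻¹ := by rw [hg, ← hr]; rfl
    exact half_ne_zero ha (congrArg W.y (hinj (mul_left_cancel (mul_right_cancel h))))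

/-- An involution with a square root of the central involution in its centraliser is fused to the
first coordinate involution in the centraliser of the central one. -/
theorem fuse_in_centralizer {c d : W (2 ^ a)} (h1 : c ≠ 1) (hcz : c ≠ zc a) (h2 : c * c = 1)
    (hdc : Commute d c) (hd : d * d = zc a) :
    ∃ m : G, m * ι (zc a) = ι (zc a) * m ∧ m * ι c * m⁻¹ = ι (e1 a) := by
  have h20 := two_half ha
  obtain ⟨g, hg, hgS⟩ := move_to_center ι ha hinj hrange hone h1 h2
  obtain ⟨τ, hτe, hτz⟩ := exists_exchange ι ha hinj hrange hone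
  obtain ⟨r, hr⟩ := hgS d hdc
  have hw : g * ι (zc a) * g⁻¹ = ι (r * r) := by rw [map_mul, hr, ← hd, map_mul]; group
  have hrz : (r * r) * (r * r) = 1 := hinj (by
    rw [map_mul, ← hw, map_one, show g * ι (zc a) * g⁻¹ * (g * ι (zc a) * g⁻¹) = g * (ι (zc a) * ι (zc a)) * g⁻¹ by group,
      ← map_mul, show zc a * zc a = 1 by ext <;> simp [zc, tr] <;> linear_combination h20, map_one, mul_one,
      mul_inv_cancel])
  have e1' := congrArg W.x hrz
  have e2' := congrArg W.y hrz
  have hflag : (r * r).a = false ∧ (r * r).b = false := ⟨by simp, by simp⟩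
  rw [W.mul_x] at e1'
  rw [W.mul_y] at e2'
  simp only [hflag.1, hflag.2, sg_false, one_mul, Bool.false_eq_true, if_false, one_x, one_y] at e1' e2'
  have key : ∀ h : G, h * ι (zc a) * h⁻¹ = ι (e1 a) → h * ι (r * r) * h⁻¹ = ι (zc a) →
      ∃ m : G, m * ι (zc a) = ι (zc a) * m ∧ m * ι c * m⁻¹ = ι (e1 a) := fun h k1 k2 => by
    refine ⟨h * g, ?_, ?_⟩
    · rw [← mul_inv_eq_iff_eq_mul, show h * g * ι (zc a) * (h * g)⁻¹ = h * (g * ι (zc a) * g⁻¹) * h⁻¹ by group,
        hw, k2]
    · rw [show h * g * ι c * (h * g)⁻¹ = h * (g * ι c * g⁻¹) * h⁻¹ by group, hg, k1]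
  rcases two_elementary ha hflag (show 2 * (r * r).x = 0 by linear_combination e1')
    (show 2 * (r * r).y = 0 by linear_combination e2') with e | e | e | e <;> rw [e] at hw key
  · exfalso
    rw [show tr (0 : ZMod (2 ^ a)) 0 = 1 from rfl, map_one, conj_eq_one_iff, ← map_one ι] at hw
    exact zc_ne_one ha (hinj hw)
  · exact key τ hτz hτe
  · refine key (τ * ι ss) ?_ ?_
    · rw [show τ * ι ss * ι (zc a) * (τ * ι ss)⁻¹ = τ * (ι ss * ι (zc a) * (ι ss)⁻¹) * τ⁻¹ by group,
        ← map_inv, ← map_mul, ← map_mul,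
        show ss * zc a * (ss : W (2 ^ a))⁻¹ = zc a by ext <;> simp [ss, zc, tr], hτz]
    · rw [show τ * ι ss * ι (tr 0 (half a)) * (τ * ι ss)⁻¹ = τ * (ι ss * ι (tr 0 (half a)) * (ι ss)⁻¹) * τ⁻¹ by group,
        ← map_inv, ← map_mul, ← map_mul,
        show ss * tr 0 (half a) * (ss : W (2 ^ a))⁻¹ = e1 a by ext <;> simp [ss, e1, tr], hτe]
  · exact absurd (hinj (mul_left_cancel (mul_right_cancel
      (show g * ι c * g⁻¹ = g * ι (zc a) * g⁻¹ by rw [hg, hw]; rfl)))) hcz

/-- The centraliser of the central involution modulo its core. -/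
theorem centCtx : ∃ (SQ : Sylow 2 (↥(centralizer ({ι (zc a)} : Set G)) ⧸
      Cfsg.oddCore ↥(centralizer ({ι (zc a)} : Set G))))
    (ιQ : W (2 ^ a) →* ↥(centralizer ({ι (zc a)} : Set G)) ⧸ Cfsg.oddCore ↥(centralizer ({ι (zc a)} : Set G))),
    CentCtx SQ ιQ := by
  classical
  haveI : Fact (Nat.Prime 2) := ⟨Nat.prime_two⟩
  have h20 := two_half ha
  set C := centralizer ({ι (zc a)} : Set G) with hC
  have hmemC : ∀ p, ι p ∈ C := fun p =>
    Subgroup.mem_centralizer_singleton_iff.2 ((zc_comm ha p).map ι).eq.symm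
  have hSC : (S : Subgroup G) ≤ C := hrange ▸ (by rintro _ ⟨p, rfl⟩; exact hmemC p)
  set π := QuotientGroup.mk' (Cfsg.oddCore C) with hπ
  let ιC : W (2 ^ a) →* C := ι.codRestrict C hmemC
  have hrC : ιC.range = ((S.subtype hSC : Sylow 2 C) : Subgroup C) := by
    ext x
    rw [Sylow.coe_subtype, Subgroup.mem_subgroupOf, ← hrange]
    exact ⟨fun ⟨p, hp⟩ => ⟨p, congrArg Subtype.val hp⟩, fun ⟨p, hp⟩ => ⟨p, Subtype.ext hp⟩⟩
  have hfu : ∀ c d : W (2 ^ a), c ≠ 1 → c ≠ zc a → c * c = 1 → Commute d c → d * d = zc a →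
      IsConj (π (ιC c)) (π (ιC (e1 a))) := fun c d k1 k2 k3 k4 k5 => by
    obtain ⟨m, hm, hmc⟩ := fuse_in_centralizer ι ha hinj hrange hone k1 k2 k3 k4 k5
    refine π.map_isConj (isConj_iff.2 ⟨⟨m, Subgroup.mem_centralizer_singleton_iff.2 hm⟩, Subtype.ext ?_⟩)
    exact hmc
  refine ⟨(S.subtype hSC).mapSurjective (QuotientGroup.mk'_surjective _), π.comp ιC, ha, ?_, ?_, ?_, ?_, ?_, ?_, ?_⟩
  · refine (injective_iff_map_eq_one _).2 fun p hp => hinj ?_
    have hmem : ιC p ∈ Cfsg.oddCore C := (QuotientGroup.eq_one_iff _).1 hp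
    obtain ⟨k, hk⟩ := (S.subtype hSC).2 ⟨ιC p, hrC ▸ ⟨p, rfl⟩⟩
    obtain ⟨j, -, hj⟩ := (Nat.dvd_prime_pow Nat.prime_two).1
      (orderOf_dvd_of_pow_eq_one (show (ιC p) ^ 2 ^ k = 1 from congrArg Subtype.val hk))
    have hodd := (CfsgLib.ZStar.odd_card_oddCore C).of_dvd_nat (Subgroup.orderOf_dvd_natCard _ hmem)
    rw [hj] at hodd
    have hj0 : j = 0 := by
      by_contra hne
      exact absurd hodd (Nat.not_odd_iff_even.2 ((even_two).pow_of_ne_zero hne))
    rw [hj0, pow_zero, orderOf_eq_one_iff] at hj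
    rw [map_one]
    exact congrArg Subtype.val hj
  · rw [MonoidHom.range_comp, hrC, Sylow.coe_mapSurjective]
  · exact CfsgLib.Core.pPrimeCore_quotient_pPrimeCore 2 C
  · intro q
    obtain ⟨c, rfl⟩ := QuotientGroup.mk'_surjective _ q
    exact (show Commute c (ιC (zc a)) from Subtype.ext (Subgroup.mem_centralizer_singleton_iff.1 c.2)).map π
  · refine hfu uu (e1 a * ss) (fun h => by simpa [uu] using congrArg W.a h)
      (fun h => by simpa [uu, zc, tr] using congrArg W.a h) ?_ ?_ ?_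
    · ext <;> simp [uu]
    · show _ = _
      ext <;> simp [uu, ss, e1, tr] <;> linear_combination h20
    · ext <;> simp [e1, ss, zc, tr]
  · refine hfu (tr 1 1 * uu) (e1 a * ss) (fun h => by simpa [uu, tr] using congrArg W.a h)
      (fun h => by simpa [uu, zc, tr] using congrArg W.a h) ?_ ?_ ?_
    · ext <;> simp [uu, tr]
    · show _ = _
      ext <;> simp [uu, ss, e1, tr] <;>
        first
          | linear_combination h20
          | linear_combination (-1 : ZMod (2 ^ a)) * h20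
          | linear_combination (0 : ZMod (2 ^ a)) * h20
    · ext <;> simp [e1, ss, zc, tr]
  · obtain ⟨b, rfl⟩ : ∃ b, a = b + 2 := ⟨a - 2, by omega⟩
    have hq : ((2 ^ b : ℕ) : ZMod (2 ^ (b + 2))) + ((2 ^ b : ℕ) : ZMod (2 ^ (b + 2))) = half (b + 2) := by
      rw [half, ← Nat.cast_add]
      congr 1
      rw [show b + 2 - 1 = b + 1 from rfl, pow_succ, mul_two]
    generalize ((2 ^ b : ℕ) : ZMod (2 ^ (b + 2))) = q at hq
    refine hfu ss (tr q q)
      (fun h => by simpa [ss] using congrArg W.b h) (fun h => by simpa [ss, zc, tr] using congrArg W.b h) ?_ ?_ ?_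
    · ext <;> simp [ss]
    · show _ = _
      ext <;> simp [ss, tr]
    · ext <;> simp [zc, tr] <;> linear_combination hq

end fusion

end CfsgLib.Recog.G2Sylow
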