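import Cfsg.Agent.Lib.Recog.G2Sylow.CentLayer

/-!
# The derived subgroup of the centralizer modulo its core

Two commuting normal `SL(2)` subgroups whose product is the derived subgroup (owner: helper28).
-/

set_option autoImplicit false
set_option maxHeartbeats 800000

namespace CfsgLib.Recog.G2Sylow

open W
open DihedralGroup (sr r)
open CfsgLib.TwoFusion.DihedralProduct.Fusion (DG mid)
open Subgroup (centralizer)
open scoped commutatorElement

universe u

/-- The powers of two kill no element of order three. -/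
theorem eq_one_of_two_pow {M : Type*} [Group M] {x : M} {k : ℕ} (h2 : x ^ 2 ^ k = 1) (h3 : x ^ 3 = 1) :
    x = 1 := by
  have := Nat.dvd_gcd (orderOf_dvd_of_pow_eq_one h2) (orderOf_dvd_of_pow_eq_one h3)
  rw [Nat.Coprime.gcd_eq_one (Nat.Coprime.pow_left k (by norm_num : Nat.Coprime 2 3))] at this
  exact orderOf_eq_one_iff.1 (Nat.dvd_one.1 this)

/-- A member of a group of order three is a power of any other nontrivial one. -/
theorem mem_zpowers_of_card_three {M : Type*} [Group M] {R : Subgroup M} (hR : Nat.card R = 3) {x y : M}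
    (hx : x ∈ R) (hx1 : x ≠ 1) (hy : y ∈ R) : ∃ k : ℤ, x ^ k = y := by
  haveI : Fact (Nat.Prime 3) := ⟨Nat.prime_three⟩
  haveI : Finite R := Nat.finite_of_card_ne_zero (by omega)
  have h := zpowers_eq_top_of_prime_card (g := (⟨x, hx⟩ : R)) hR (fun e => hx1 (congrArg Subtype.val e))
  obtain ⟨k, hk⟩ := Subgroup.mem_zpowers_iff.1 (h.symm ▸ Subgroup.mem_top (⟨y, hy⟩ : R))
  exact ⟨k, congrArg Subtype.val hk⟩

variable {Q : Type u} [Group Q] [Finite Q] {S : Sylow 2 Q} {a : ℕ} {ι : W (2 ^ a) →* Q}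
  {D : CentCtx S ι} {SH : Sylow 2 D.Hq} {Φ : DG (a - 1) × DG (a - 1) →* D.Hq}

omit [Finite Q] in
theorem swapHom_swapHom {H : Type*} [Group H] {n : ℕ} (Φ : DG n × DG n →* H) :
    swapHom (swapHom Φ) = Φ :=
  MonoidHom.ext fun _ => rfl

namespace CentCtx

theorem commutator_mem_C0 (D : CentCtx S ι) (x y : Q) : ⁅x, y⁆ ∈ D.C0 := by
  rw [MonoidHom.mem_ker, map_commutatorElement, commutatorElement_eq_one_iff_mul_comm]
  exact mul_comm _ _

theorem card_Z0 (D : CentCtx S ι) : Nat.card D.Z0 = 2 := by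
  rw [Z0, Nat.card_zpowers, ← Subgroup.orderOf_coe]
  exact D.zc_orderOf

namespace Side

variable (s : D.Side SH Φ) (s' : D.Side SH (swapHom Φ))

include s s'

theorem lowerQ_le_centralizer : D.lowerQ Φ ≤ centralizer (D.lowerQ (swapHom Φ) : Set Q) := by
  rintro _ ⟨u, hu, rfl⟩
  exact Subgroup.mem_centralizer_iff.2 fun _ ⟨v, hv, e⟩ => e ▸ (s.lower_commute s' hu hv).eq.symm

/-- The layer over a perfect side. -/
theorem layer_perfect (hp : ⁅sideN Φ, sideN Φ⁆ = sideN Φ) :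
    (∃ (F : Type) (_ : Field F) (_ : Fintype F), Odd (Fintype.card F) ∧
      Nonempty (D.lowerQ Φ ≃* Matrix.SpecialLinearGroup (Fin 2) F)) ∧
    D.lowerQ Φ ≤ commutator Q := by
  classical
  obtain ⟨F, _, _, hodd, h3, ⟨e⟩⟩ := s.psl hp
  haveI hperf : Group.IsPerfect (D.lower Φ) := Subgroup.isPerfect_iff.2 (s.perfect_lower hp)
  let p : D.lower Φ →* sideN Φ := (D.proj.comp (D.lower Φ).subtype).codRestrict _ fun c => c.2
  let σ := e.toMonoidHom.comp p
  have hs : Function.Surjective σ := by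
    refine e.surjective.comp fun v => ?_
    obtain ⟨c, hc⟩ := D.proj_surjective v
    exact ⟨⟨c, show D.proj c ∈ sideN Φ from hc ▸ v.2⟩, Subtype.ext hc⟩
  have hker : ∀ c : D.lower Φ, c ∈ σ.ker ↔ (c : ↥D.C0) ∈ D.Z0 := fun c => by
    rw [MonoidHom.mem_ker, show σ c = e (p c) from rfl, MulEquiv.map_eq_one_iff, Subtype.ext_iff]
    exact QuotientGroup.eq_one_iff _
  have hZle : D.Z0 ≤ D.lower Φ := fun z hz => by
    show D.proj z ∈ sideN Φ
    rw [show D.proj z = 1 from (QuotientGroup.eq_one_iff z).2 hz]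
    exact one_mem _
  have hc : σ.ker ≤ Subgroup.center (D.lower Φ) := fun c hc => Subgroup.mem_center_iff.2 fun d =>
    Subtype.ext (Subgroup.mem_center_iff.1 (D.Z0_central ((hker c).1 hc)) d)
  have h2 : Nat.card σ.ker = 2 := by
    rw [show σ.ker = D.Z0.subgroupOf (D.lower Φ) from Subgroup.ext fun c =>
      (hker c).trans Subgroup.mem_subgroupOf.symm]
    exact (Nat.card_congr (Subgroup.subgroupOfEquivOfLe hZle).toEquiv).trans D.card_Z0
  obtain ⟨eY⟩ := CfsgLib.GW.Deps.equiv_SL_two Group.IsPerfect.commutator_eq_top hodd h3 σ hs hc h2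
  refine ⟨⟨F, inferInstance, inferInstance, hodd,
    ⟨((D.lower Φ).equivMapOfInjective _ D.C0.subtype_injective).symm.trans eY⟩⟩, ?_⟩
  rw [lowerQ, ← s.perfect_lower hp, Subgroup.map_commutator]
  exact Subgroup.commutator_mono le_top le_top

/-- The layer over a four-group side. -/
theorem layer_four (h1 : a - 1 = 1) (hA : sideN Φ = leftFactor Φ) :
    (∃ (F : Type) (_ : Field F) (_ : Fintype F), Odd (Fintype.card F) ∧
      Nonempty (↥(D.C0 ⊓ centralizer (D.lowerQ (swapHom Φ) : Set Q)) ≃* Matrix.SpecialLinearGroup (Fin 2) F)) ∧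
    D.C0 ⊓ centralizer (D.lowerQ (swapHom Φ) : Set Q) ≤ commutator Q ∧
    ∀ (x y : Q) (c : ↥D.C0), (c : Q) = ⁅x, y⁆ →
      ∃ l : ↥D.C0, (l : Q) ∈ D.C0 ⊓ centralizer (D.lowerQ (swapHom Φ) : Set Q) ∧
        ∀ v ∈ sideN Φ, Commute ((D.proj l)⁻¹ * D.proj c) v := by
  classical
  obtain rfl : a = 2 := by have := D.le; omega
  obtain ⟨θ, hθ, hcard⟩ := s.exists_perm h1 hA
  obtain ⟨-, -, -, -, -⟩ := @perm_facts
  set L := D.C0 ⊓ centralizer (D.lowerQ (swapHom Φ) : Set Q) with hL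
  have hYL : D.lowerQ Φ ≤ L := le_inf (Subgroup.map_subtype_le _) (s.lowerQ_le_centralizer s')
  have hcube : ∀ g, θ g ^ 3 = 1 := fun g => by
    have := pow_card_eq_one' (x := (⟨θ g, g, rfl⟩ : θ.range))
    rw [hcard] at this
    exact congrArg Subtype.val this
  have hfix : ∀ w : D.Hq, θ w = 1 → ∀ v ∈ sideN Φ, Commute w v := by
    intro w hw v hv
    rw [hA] at hv
    obtain ⟨d, rfl⟩ := hv
    show Commute w (Φ (d, 1))
    by_cases hd : d = 1
    · subst hd; rw [← Prod.one_eq_mk, map_one]; exact Commute.one_right _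
    have := hθ w ⟨d, hd⟩
    rw [hw, Equiv.Perm.one_apply] at this
    exact mul_inv_eq_iff_eq_mul.1 this
  -- the kernel of the action inside the layer
  have hkerL : ∀ u : ↥D.C0, (u : Q) ∈ L → θ (D.proj u) = 1 → (u : Q) ∈ D.lowerQ Φ := by
    intro u hu hθu
    have hSu : D.proj u ∈ (SH : Subgroup D.Hq) := s.halves.centralizer_le (by
      rw [Subgroup.mem_centralizer_iff]
      rintro v (hv | hv)
      · exact (hfix _ hθu v hv).eq.symm
      · obtain ⟨w, rfl⟩ := D.proj_surjective v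
        exact ((show Commute u w from Subtype.ext (Subgroup.mem_centralizer_iff.1 hu.2 w ⟨w, hv, rfl⟩).symm).map
          D.proj).eq.symm)
    obtain ⟨⟨d, e⟩, hp⟩ := s.halves.frame.exists_eq hSu
    obtain ⟨u1, hu1⟩ := D.proj_surjective (Φ (d, 1))
    have hv : D.proj (u1⁻¹ * u) = swapHom Φ (e, 1) := by
      rw [map_mul, map_inv, hu1, ← hp, ← map_inv, ← map_mul, swapHom_apply]
      simp
    have he : e = 1 := s'.eq_one_of_commute hv fun w hw => by
      have hw' : w ∈ D.lower (swapHom Φ) := show D.proj w ∈ sideN (swapHom Φ) from s'.halves.left_le hw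
      have k1 : Commute (u : Q) (w : Q) := (Subgroup.mem_centralizer_iff.1 hu.2 w ⟨w, hw', rfl⟩).symm
      have k2 := s.lower_commute s' (s.left_mem_lower hu1) hw'
      rw [Subgroup.coe_mul, Subgroup.coe_inv]
      exact k2.inv_left.mul_left k1
    subst he
    exact ⟨u, s.left_mem_lower hp.symm, rfl⟩
  -- an element of order three
  obtain ⟨c, hcQ, hcB, d, hd⟩ := s.exists_mover s' h1 hA
  have hθc : θ (D.proj c) ≠ 1 := fun h => hd (hfix _ h _ (s.halves.left_le ⟨d, rfl⟩))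
  obtain ⟨k, m, hm, hkm⟩ := Nat.exists_eq_pow_mul_and_not_dvd (orderOf_pos (c : Q)).ne' 2 (by norm_num)
  set g := c ^ 2 ^ k with hg
  have hgo : Odd (orderOf (g : Q)) := by
    rw [hg, SubgroupClass.coe_pow, orderOf_pow, hkm, Nat.gcd_mul_right_left,
      Nat.mul_div_cancel_left _ (Nat.pow_pos (by norm_num : 0 < 2))]
    exact Nat.not_even_iff_odd.1 fun h => hm (even_iff_two_dvd.1 h)
  have hθg : θ (D.proj g) ≠ 1 := fun h => by
    rw [hg, map_pow, map_pow] at h
    exact hθc (eq_one_of_two_pow h (hcube _))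
  have hgC : (g : Q) ∈ commutator Q := by rw [hg, SubgroupClass.coe_pow]; exact pow_mem hcQ _
  have hgL : (g : Q) ∈ L := by
    refine ⟨g.2, Subgroup.mem_centralizer_iff.2 ?_⟩
    rintro _ ⟨w, hw, rfl⟩
    have hp : D.proj ⁅g, w⁆ = 1 := by
      rw [map_commutatorElement, commutatorElement_eq_one_iff_mul_comm, hg, map_pow]
      exact ((hcB _ hw).pow_left _).eq
    show (w : Q) * (g : Q) = (g : Q) * (w : Q)
    refine (CfsgLib.TwoFusion.DihedralProduct.commute_of_central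
      (z := ι (zc 2)) (Subgroup.mem_center_iff.2 fun q => (D.cen q).eq) D.zc_orderOf hgo ?_).eq.symm
    rcases D.proj_eq_one.1 hp with h | h
    · rw [show (g : Q) * (w : Q) * (g : Q)⁻¹ * (w : Q)⁻¹ = 1 from h]; exact one_mem _
    · rw [show (g : Q) * (w : Q) * (g : Q)⁻¹ * (w : Q)⁻¹ = _ from h]; exact Subgroup.mem_zpowers _
  have hgen : ∀ u : ↥D.C0, ∃ j : ℤ, θ (D.proj (g ^ j)) = θ (D.proj u) := fun u => by
    obtain ⟨j, hj⟩ := mem_zpowers_of_card_three hcard ⟨D.proj g, rfl⟩ hθg ⟨D.proj u, rfl⟩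
    exact ⟨j, by rw [map_zpow, map_zpow, hj]⟩
  -- the quaternion group lies in the derived subgroup
  haveI := s.lowerQ_normal
  have hgLj : ∀ j : ℤ, ((g ^ j : ↥D.C0) : Q) ∈ L := fun j => by
    rw [SubgroupClass.coe_zpow]; exact L.zpow_mem hgL j
  let I : Subgroup D.Hq := (((commutator Q).subgroupOf D.C0) ⊓ D.lower Φ).map D.proj
  haveI : I.Normal := by
    haveI : (D.lower Φ).Normal := (sideN_normal Φ).comap D.proj
    exact Subgroup.Normal.map inferInstance _ D.proj_surjective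
  have hd1 : d ≠ 1 := by
    rintro rfl
    exact hd (by rw [← Prod.one_eq_mk, map_one]; exact Commute.one_right _)
  have hdg : θ (D.proj g) ⟨d, hd1⟩ ≠ ⟨d, hd1⟩ := fun h => by
    obtain ⟨j, hj⟩ := mem_zpowers_of_card_three hcard ⟨D.proj g, rfl⟩ hθg ⟨D.proj c, rfl⟩
    have := hθ (D.proj c) ⟨d, hd1⟩
    have hst : θ (D.proj g) ^ j ∈ MulAction.stabilizer (Equiv.Perm {d : DG (2 - 1) // d ≠ 1})
        (⟨d, hd1⟩ : {d : DG (2 - 1) // d ≠ 1}) := Subgroup.zpow_mem _ h j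
    rw [← hj, show (θ (D.proj g) ^ j) ⟨d, hd1⟩ = ⟨d, hd1⟩ from hst] at this
    exact hd (mul_inv_eq_iff_eq_mul.1 this)
  set d' := θ (D.proj g) ⟨d, hd1⟩ with hd'
  have hI : Φ ((d' : DG (2 - 1)) * d⁻¹, 1) ∈ I := by
    obtain ⟨u, hu⟩ := D.proj_surjective (Φ (d, 1))
    refine ⟨⁅g, u⁆, Subgroup.mem_inf.2 ⟨Subgroup.mem_subgroupOf.2 ?_, ?_⟩, ?_⟩
    · exact Subgroup.commutator_mem_commutator (Subgroup.mem_top (g : Q)) (Subgroup.mem_top (u : Q))
    · haveI : (D.lower Φ).Normal := (sideN_normal Φ).comap D.proj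
      rw [commutatorElement_def]
      exact mul_mem ((inferInstance : (D.lower Φ).Normal).conj_mem _ (s.left_mem_lower hu) g)
        (inv_mem (s.left_mem_lower hu))
    · rw [map_commutatorElement, hu, commutatorElement_def, hθ (D.proj g) ⟨d, hd1⟩, ← map_inv, ← map_mul]
      simp [d']
  have hdd : (d' : DG (2 - 1)) * d⁻¹ ≠ 1 := fun h => hdg (Subtype.ext (mul_inv_eq_one.1 h))
  have hIall : ∀ e : DG (2 - 1), Φ (e, 1) ∈ I := by
    intro e
    by_cases he : e = 1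
    · subst he; rw [← Prod.one_eq_mk, map_one]; exact one_mem _
    have hsq : ∀ e : DG (2 - 1), e * e = 1 := CfsgLib.TwoFusion.DihedralProduct.Fusion.four_sq
    obtain ⟨w, hw⟩ := isConj_iff.1
      ((s.halves.transitive _ (hsq _) hdd).symm.trans (s.halves.transitive e (hsq e) he))
    rw [← hw]
    exact (inferInstance : I.Normal).conj_mem _ hI w
  have hYc : D.lowerQ Φ ≤ commutator Q := by
    rintro _ ⟨u, hu, rfl⟩
    have hu' : D.proj u ∈ leftFactor Φ := hA ▸ hu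
    obtain ⟨e, he⟩ := hu'
    obtain ⟨v, ⟨hv, -⟩, hve⟩ := hIall e
    have hp : D.proj (v⁻¹ * u) = 1 := by
      rw [map_mul, map_inv, hve, ← show Φ (e, 1) = D.proj u from he, inv_mul_cancel]
    have hz : ι (zc 2) ∈ commutator Q := by
      obtain ⟨w, ⟨hw, -⟩, hwm⟩ := hIall (mid (2 - 1))
      rw [← s.sq_of_pure hwm (CfsgLib.TwoFusion.DihedralProduct.Fusion.four_sq _)
        (CfsgLib.TwoFusion.DihedralProduct.Fusion.mid_ne_one (n := 1) le_rfl)]
      exact mul_mem hw hw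
    show (u : Q) ∈ commutator Q
    rw [show (u : Q) = (v : Q) * ((v⁻¹ * u : ↥D.C0) : Q) by simp]
    refine mul_mem hv ?_
    rcases D.proj_eq_one.1 hp with h | h
    · rw [h]; exact one_mem _
    · rw [h]; exact hz
  refine ⟨?_, fun u hu => ?_, fun x y c hc => ?_⟩
  rotate_left
  · -- the layer lies in the derived subgroup
    obtain ⟨j, hj⟩ := hgen ⟨u, hu.1⟩
    have hk := hkerL ((g ^ j)⁻¹ * ⟨u, hu.1⟩) (by
      rw [Subgroup.coe_mul, Subgroup.coe_inv]; exact L.mul_mem (L.inv_mem (hgLj j)) hu) (by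
      rw [map_mul, map_mul, map_inv, map_inv, hj, inv_mul_cancel])
    rw [show u = ((g ^ j : ↥D.C0) : Q) * (((g ^ j)⁻¹ * ⟨u, hu.1⟩ : ↥D.C0) : Q) by simp]
    refine mul_mem ?_ (hYc hk)
    rw [SubgroupClass.coe_zpow]
    exact zpow_mem hgC j
  · obtain ⟨j, hj⟩ := hgen c
    refine ⟨g ^ j, hgLj j, fun v hv => hfix _ ?_ v hv⟩
    rw [map_mul, map_inv, hj, inv_mul_cancel]
  · -- recognition
    obtain ⟨f, hfi, hfr⟩ := s.quat rfl
    haveI : Fact (Nat.Prime 3) := ⟨Nat.prime_three⟩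
    haveI : Fact (Nat.Prime 2) := ⟨Nat.prime_two⟩
    have hlowc : Nat.card (D.lower Φ) = 8 := by
      rw [lower, proj, CfsgLib.Core.card_comap_mk', D.card_Z0, hA,
        Nat.card_congr s.halves.equiv_left.some.toEquiv, DihedralGroup.nat_card]
      rfl
    have hfrange : f.range = D.lower Φ := by
      refine Subgroup.eq_of_le_of_card_ge ?_ ?_
      · rintro _ ⟨q, rfl⟩
        exact s.halves.left_le (hfr q)
      · rw [hlowc, ← Nat.card_congr (MonoidHom.ofInjective hfi).toEquiv, Nat.card_eq_fintype_card,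
          QuaternionGroup.card]
    let eQ : QuaternionGroup 2 ≃* (D.lowerQ Φ).subgroupOf L :=
      ((MonoidHom.ofInjective hfi).trans (MulEquiv.subgroupCongr hfrange)).trans
        (((D.lower Φ).equivMapOfInjective _ D.C0.subtype_injective).trans
          (Subgroup.subgroupOfEquivOfLe hYL).symm)
    let ψ : L →* Equiv.Perm {d : DG (2 - 1) // d ≠ 1} :=
      θ.comp (D.proj.comp (Subgroup.inclusion (inf_le_left : L ≤ D.C0)))
    have hker : ψ.ker = (D.lowerQ Φ).subgroupOf L := by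
      ext ⟨u, hu⟩
      rw [MonoidHom.mem_ker, Subgroup.mem_subgroupOf]
      refine ⟨fun h => hkerL ⟨u, hu.1⟩ hu h, fun ⟨w, hw, e⟩ => ?_⟩
      obtain rfl : u = (w : Q) := e.symm
      refine Equiv.ext fun p => Subtype.ext ?_
      have hq : D.proj w ∈ leftFactor Φ := hA ▸ hw
      obtain ⟨e', he'⟩ := hq
      suffices k : Φ ((θ (D.proj w) p : DG (2 - 1)), 1) = Φ ((p : DG (2 - 1)), 1) from
        congrArg Prod.fst (s.halves.frame.inj k)
      rw [← hθ, ← show Φ (e', 1) = D.proj w from he', ← map_inv, ← map_mul, ← map_mul]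
      congr 1
      refine Prod.ext ?_ (by simp)
      show e' * (p : DG (2 - 1)) * e'⁻¹ = p
      rw [(CfsgLib.TwoFusion.DihedralProduct.Fusion.four_comm e' p).eq, mul_inv_cancel_right]
    have hrange : Nat.card ψ.range = 3 := by
      have hle : ψ.range ≤ θ.range := by
        rintro _ ⟨u, rfl⟩; exact ⟨_, rfl⟩
      rcases (Nat.dvd_prime Nat.prime_three).1 (hcard ▸ Subgroup.card_dvd_of_le hle) with h | h
      · exfalso
        have hbot := Subgroup.eq_bot_of_card_eq ψ.range h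
        exact hθg (Subgroup.mem_bot.1 (hbot ▸ (⟨⟨(g : Q), hgL⟩, rfl⟩ : θ (D.proj g) ∈ ψ.range)))
      · exact h
    have hcardL : Nat.card L = 24 := by
      rw [← Subgroup.card_mul_index ψ.ker, Subgroup.index_ker, hrange, hker, ← Nat.card_congr eQ.toEquiv,
        Nat.card_eq_fintype_card, QuaternionGroup.card]
    let gL : L := ⟨g, hgL⟩
    haveI : ((D.lowerQ Φ).subgroupOf L).Normal := s.lowerQ_normal.subgroupOf L
    have hg3 : gL ^ 3 = 1 := by
      have hmem : gL ^ 3 ∈ (D.lowerQ Φ).subgroupOf L := by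
        rw [← hker, MonoidHom.mem_ker, map_pow]
        exact hcube _
      have h8 : (gL ^ 3) ^ 8 = 1 := by
        have := pow_card_eq_one' (x := (⟨gL ^ 3, hmem⟩ : (D.lowerQ Φ).subgroupOf L))
        rw [← Nat.card_congr eQ.toEquiv, Nat.card_eq_fintype_card, QuaternionGroup.card] at this
        exact congrArg Subtype.val this
      have hodd : Odd (orderOf (gL ^ 3)) :=
        ((show Odd (orderOf gL) by rw [← Subgroup.orderOf_coe]; exact hgo)).of_dvd_nat (orderOf_pow_dvd 3)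
      have h1 := Nat.dvd_gcd (orderOf_dvd_of_pow_eq_one h8) (dvd_refl (orderOf (gL ^ 3)))
      rw [show (8 : ℕ) = 2 ^ 3 from rfl,
        Nat.Coprime.gcd_eq_one ((Nat.coprime_two_left.2 hodd).pow_left 3)] at h1
      exact orderOf_eq_one_iff.1 (Nat.dvd_one.1 h1)
    obtain ⟨e⟩ := CfsgLib.Recog.Zassenhaus.nonempty_sl23 hcardL _ eQ.symm hg3 fun hc => by
      obtain ⟨u, hu⟩ := D.proj_surjective (Φ (d, 1))
      have huY : (u : Q) ∈ D.lowerQ Φ := ⟨u, s.left_mem_lower hu, rfl⟩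
      have := Subgroup.mem_centralizer_iff.1 hc ⟨(u : Q), hYL huY⟩ huY
      have hh : Commute g u := Subtype.ext (congrArg (fun w : L => (w : Q)) this).symm
      have hcm := hh.map D.proj
      rw [hu] at hcm
      have := hθ (D.proj g) ⟨d, hd1⟩
      rw [hcm.eq, mul_inv_cancel_right] at this
      exact hdg (Subtype.ext (congrArg Prod.fst (s.halves.frame.inj this)).symm)
    exact ⟨ZMod 3, inferInstance, inferInstance, by rw [ZMod.card]; exact ⟨1, rfl⟩, ⟨e⟩⟩

theorem exists_layer : ∃ L : Subgroup Q, L.Normal ∧ L ≤ D.C0 ∧ D.lowerQ Φ ≤ L ∧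
    L ≤ centralizer (D.lowerQ (swapHom Φ) : Set Q) ∧ L ≤ commutator Q ∧
    (∃ (F : Type) (_ : Field F) (_ : Fintype F), Odd (Fintype.card F) ∧
      Nonempty (L ≃* Matrix.SpecialLinearGroup (Fin 2) F)) ∧
    ∀ (x y : Q) (c : ↥D.C0), (c : Q) = ⁅x, y⁆ →
      ∃ l : ↥D.C0, (l : Q) ∈ L ∧ ∀ v ∈ sideN Φ, Commute ((D.proj l)⁻¹ * D.proj c) v := by
  haveI := s.lowerQ_normal
  haveI := s'.lowerQ_normal
  rcases s.halves.four_or_perfect with ⟨h1, hA⟩ | hp
  · obtain ⟨hF, hle, hin⟩ := s.layer_four s' h1 hA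
    haveI : (centralizer (D.lowerQ (swapHom Φ) : Set Q)).Normal := ⟨fun m hm q =>
      Subgroup.mem_centralizer_iff.2 fun v hv => by
        have hv' := s'.lowerQ_normal.conj_mem v hv q⁻¹
        rw [inv_inv] at hv'
        have := Subgroup.mem_centralizer_iff.1 hm _ hv'
        calc v * (q * m * q⁻¹) = q * (q⁻¹ * v * q * m) * q⁻¹ := by group
          _ = q * (m * (q⁻¹ * v * q)) * q⁻¹ := by rw [this]
          _ = q * m * q⁻¹ * v := by group⟩
    exact ⟨_, inferInstance, inf_le_left,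
      le_inf (Subgroup.map_subtype_le _) (s.lowerQ_le_centralizer s'), inf_le_right, hle, hF, hin⟩
  · obtain ⟨hF, hle⟩ := s.layer_perfect s' hp
    refine ⟨_, s.lowerQ_normal, Subgroup.map_subtype_le _, le_rfl, s.lowerQ_le_centralizer s', hle, hF,
      fun x y c hc => ?_⟩
    obtain ⟨n, hn, hnc⟩ := s.inner_perfect hp x y c hc
    obtain ⟨l, rfl⟩ := D.proj_surjective n
    exact ⟨l, ⟨l, hn, rfl⟩, hnc⟩

end Side

/-- The conclusion. -/
theorem layers (D : CentCtx S ι) : ∃ L₁ L₂ : Subgroup Q, L₁.Normal ∧ L₂.Normal ∧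
    (∃ (F₁ : Type) (_ : Field F₁) (_ : Fintype F₁), Odd (Fintype.card F₁) ∧
      Nonempty (L₁ ≃* Matrix.SpecialLinearGroup (Fin 2) F₁)) ∧
    (∃ (F₂ : Type) (_ : Field F₂) (_ : Fintype F₂), Odd (Fintype.card F₂) ∧
      Nonempty (L₂ ≃* Matrix.SpecialLinearGroup (Fin 2) F₂)) ∧
    ⁅L₁, L₂⁆ = ⊥ ∧ L₁ ⊔ L₂ = commutator Q := by
  classical
  obtain ⟨SH, s, s'⟩ := D.sides
  have s'' : D.Side SH (swapHom (swapHom D.phi)) := (swapHom_swapHom D.phi).symm ▸ s
  obtain ⟨L₁, hn₁, hC₁, hY₁, hcen₁, hc₁, hF₁, hin₁⟩ := s.exists_layer s'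
  obtain ⟨L₂, hn₂, hC₂, hY₂, hcen₂, hc₂, hF₂, hin₂⟩ := s'.exists_layer s''
  rw [swapHom_swapHom] at hcen₂
  have hone : ∀ u ∈ L₁ ⊓ L₂, u ∈ Subgroup.center Q ∧ u * u = 1 := by
    intro u hu
    obtain ⟨u, rfl⟩ : ∃ u' : ↥D.C0, (u' : Q) = u := ⟨⟨u, hC₁ hu.1⟩, rfl⟩
    have hl : ∀ w ∈ D.lower D.phi, Commute (u : Q) (w : Q) := fun w hw =>
      (Subgroup.mem_centralizer_iff.1 (hcen₂ hu.2) w ⟨w, hw, rfl⟩).symm
    have hr : ∀ w ∈ D.lower (swapHom D.phi), Commute (u : Q) (w : Q) := fun w hw =>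
      (Subgroup.mem_centralizer_iff.1 (hcen₁ hu.1) w ⟨w, hw, rfl⟩).symm
    have hSu : D.proj u ∈ (SH : Subgroup D.Hq) := s.halves.centralizer_le (by
      rw [Subgroup.mem_centralizer_iff]
      rintro v (hv | hv) <;> obtain ⟨w, rfl⟩ := D.proj_surjective v
      · exact ((show Commute u w from Subtype.ext (hl w hv).eq).map D.proj).eq.symm
      · exact ((show Commute u w from Subtype.ext (hr w hv).eq).map D.proj).eq.symm)
    obtain ⟨⟨d, e⟩, hp⟩ := s.halves.frame.exists_eq hSu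
    obtain ⟨u1, hu1⟩ := D.proj_surjective (D.phi (d, 1))
    have hv : D.proj (u1⁻¹ * u) = swapHom D.phi (e, 1) := by
      rw [map_mul, map_inv, hu1, ← hp, ← map_inv, ← map_mul, swapHom_apply]
      simp
    have he : e = 1 := s'.eq_one_of_commute hv fun w hw => by
      have hw' : w ∈ D.lower (swapHom D.phi) :=
        show D.proj w ∈ sideN (swapHom D.phi) from s'.halves.left_le hw
      rw [Subgroup.coe_mul, Subgroup.coe_inv]
      exact (s.lower_commute s' (s.left_mem_lower hu1) hw').inv_left.mul_left (hr w hw')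
    subst he
    have hd : d = 1 := s.eq_one_of_commute hp.symm fun w hw =>
      hl w (show D.proj w ∈ sideN D.phi from s.halves.left_le hw)
    subst hd
    rw [← Prod.one_eq_mk, map_one] at hp
    rcases D.proj_eq_one.1 hp.symm with h | h <;> rw [h]
    · exact ⟨one_mem _, one_mul 1⟩
    · refine ⟨Subgroup.mem_center_iff.2 fun q => (D.cen q).eq, ?_⟩
      have h2 := pow_orderOf_eq_one (ι (zc a))
      rw [D.zc_orderOf, pow_two] at h2
      exact h2
  have hcomm : ∀ l₂ ∈ L₂, ∀ l₁ ∈ L₁, Commute l₁ l₂ := by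
    intro l₂ hl₂
    obtain ⟨F, _, _, hodd, ⟨eF⟩⟩ := hF₁
    have hmem : ∀ x ∈ L₁, ⁅x, l₂⁆ ∈ L₁ ⊓ L₂ := fun x hx => by
      rw [commutatorElement_def]
      refine Subgroup.mem_inf.2 ⟨?_, L₂.mul_mem (hn₂.conj_mem _ hl₂ x) (L₂.inv_mem hl₂)⟩
      rw [mul_assoc x l₂, mul_assoc]
      exact L₁.mul_mem hx (hn₁.conj_mem _ (L₁.inv_mem hx) l₂)
    let δ : Matrix.SpecialLinearGroup (Fin 2) F →* Subgroup.center Q :=
      { toFun := fun x => ⟨⁅(eF.symm x : Q), l₂⁆, (hone _ (hmem _ (eF.symm x).2)).1⟩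
        map_one' := Subtype.ext (by simp [commutatorElement_def])
        map_mul' := fun x y => Subtype.ext (by
          show ⁅((eF.symm (x * y) : L₁) : Q), l₂⁆ = ⁅(eF.symm x : Q), l₂⁆ * ⁅(eF.symm y : Q), l₂⁆
          rw [map_mul, Subgroup.coe_mul]
          have hc := Subgroup.mem_center_iff.1 (hone _ (hmem _ (eF.symm y).2)).1 (eF.symm x : Q)
          have hx := Subgroup.mem_center_iff.1 (hone _ (hmem _ (eF.symm x).2)).1 ⁅(eF.symm y : Q), l₂⁆
          calc _ = (eF.symm x : Q) * ⁅(eF.symm y : Q), l₂⁆ * (l₂ * (eF.symm x : Q)⁻¹ * l₂⁻¹) := by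
                simp only [commutatorElement_def]; group
            _ = ⁅(eF.symm y : Q), l₂⁆ * (eF.symm x : Q) * (l₂ * (eF.symm x : Q)⁻¹ * l₂⁻¹) := by rw [hc]
            _ = ⁅(eF.symm y : Q), l₂⁆ * ⁅(eF.symm x : Q), l₂⁆ := by simp only [commutatorElement_def]; group
            _ = _ := hx) }
    have hle : commutator (Matrix.SpecialLinearGroup (Fin 2) F) ≤ δ.ker := by
      rw [_root_.commutator_def, Subgroup.commutator_le]
      intro x _ y _
      rw [MonoidHom.mem_ker, map_commutatorElement, commutatorElement_eq_one_iff_mul_comm]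
      exact mul_comm' _ _
    have hodd' : ¬ 2 ∣ δ.ker.index := fun h =>
      CfsgLib.GW.Deps.QuatTools.sl_abelianization_odd hodd (h.trans (Subgroup.index_dvd_of_le hle))
    have h1 : ∀ x, δ x = 1 := fun x => by
      by_contra hne
      have h2 : orderOf (⟨δ x, x, rfl⟩ : δ.range) = 2 := by
        refine orderOf_eq_prime (Subtype.ext (Subtype.ext ?_)) fun h => hne (congrArg Subtype.val h)
        show (δ x : Q) ^ 2 = 1
        rw [pow_two]
        exact (hone _ (hmem _ (eF.symm x).2)).2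
      exact hodd' (by rw [Subgroup.index_ker]; exact (dvd_of_eq h2.symm).trans (orderOf_dvd_natCard _))
    intro l₁ hl₁
    have := congrArg Subtype.val (h1 (eF ⟨l₁, hl₁⟩))
    change ⁅((eF.symm (eF ⟨l₁, hl₁⟩) : L₁) : Q), l₂⁆ = 1 at this
    rw [eF.symm_apply_apply] at this
    exact commutatorElement_eq_one_iff_mul_comm.1 this
  refine ⟨L₁, L₂, hn₁, hn₂, hF₁, hF₂, ?_, le_antisymm (sup_le hc₁ hc₂) ?_⟩
  · rw [Subgroup.commutator_eq_bot_iff_le_centralizer]
    exact fun l₁ hl₁ => Subgroup.mem_centralizer_iff.2 fun l₂ hl₂ => (hcomm l₂ hl₂ l₁ hl₁).eq.symm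
  rw [_root_.commutator_def, Subgroup.commutator_le]
  intro x _ y _
  obtain ⟨c, hc⟩ : ∃ c : ↥D.C0, (c : Q) = ⁅x, y⁆ := ⟨⟨_, D.commutator_mem_C0 x y⟩, rfl⟩
  obtain ⟨l₁, hl₁, hl₁c⟩ := hin₁ x y c hc
  obtain ⟨l₂, hl₂, hl₂c⟩ := hin₂ x y c hc
  have hcl : Commute (D.proj l₁) (D.proj l₂) :=
    (show Commute l₁ l₂ from Subtype.ext (hcomm _ hl₂ _ hl₁).eq).map D.proj
  set w := l₂⁻¹ * (l₁⁻¹ * c) with hw
  have hS : D.proj w ∈ (SH : Subgroup D.Hq) := s.halves.centralizer_le (by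
    rw [Subgroup.mem_centralizer_iff, hw, map_mul, map_mul, map_inv, map_inv]
    rintro v (hv | hv) <;> obtain ⟨v', rfl⟩ := D.proj_surjective v
    · refine (Commute.mul_left ?_ (hl₁c _ hv)).eq.symm
      exact ((show Commute v' l₂ from Subtype.ext
        (Subgroup.mem_centralizer_iff.1 (hcen₂ hl₂) v' ⟨v', hv, rfl⟩)).map D.proj).symm.inv_left
    · have hk := hl₂c _ hv
      rw [show (D.proj l₂)⁻¹ * ((D.proj l₁)⁻¹ * D.proj c) = (D.proj l₁)⁻¹ * ((D.proj l₂)⁻¹ * D.proj c) by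
        rw [← mul_assoc, ← mul_assoc, hcl.symm.inv_inv.eq]]
      refine (Commute.mul_left ?_ hk).eq.symm
      exact ((show Commute v' l₁ from Subtype.ext
        (Subgroup.mem_centralizer_iff.1 (hcen₁ hl₁) v' ⟨v', hv, rfl⟩)).map D.proj).symm.inv_left)
  obtain ⟨⟨d, e⟩, hp⟩ := s.halves.frame.exists_eq hS
  obtain ⟨u1, hu1⟩ := D.proj_surjective (D.phi (d, 1))
  have hv : D.proj (u1⁻¹ * w) = swapHom D.phi (e, 1) := by
    rw [map_mul, map_inv, hu1, ← hp, ← map_inv, ← map_mul, swapHom_apply]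
    simp
  have hu : (u1 : Q) ∈ L₁ := hY₁ ⟨u1, s.left_mem_lower hu1, rfl⟩
  have hu2 : ((u1⁻¹ * w : ↥D.C0) : Q) ∈ L₂ := hY₂ ⟨_, s'.left_mem_lower hv, rfl⟩
  rw [← hc, show (c : Q) = (l₁ : Q) * ((l₂ : Q) * ((u1 : Q) * ((u1⁻¹ * w : ↥D.C0) : Q))) by
    simp only [hw, Subgroup.coe_mul, Subgroup.coe_inv]; group]
  exact mul_mem (Subgroup.mem_sup_left hl₁) (mul_mem (Subgroup.mem_sup_right hl₂)
    (mul_mem (Subgroup.mem_sup_left hu) (Subgroup.mem_sup_right hu2)))

end CentCtx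

end CfsgLib.Recog.G2Sylow
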