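import Cfsg.Agent.Lib.Recog.G2Sylow.CentAct
import Cfsg.Agent.Lib.GW.Deps.DoubleCover
import Cfsg.Agent.Lib.GW.Deps.QuatTools
import Cfsg.Agent.Lib.Recog.Zassenhaus.SmallRecog
import Cfsg.Agent.S2602

/-!
# The two `SL(2)` layers of the centralizer modulo its core

Each side is the four-group or `PSL(2, q)`; its preimage, extended by an element of order three in
the first case, is `SL(2, q)`, and the two layers make up the derived subgroup (owner: helper28).
-/

set_option autoImplicit false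
set_option maxHeartbeats 800000

namespace CfsgLib.Recog.G2Sylow

open W
open DihedralGroup (sr r)
open CfsgLib.TwoFusion.DihedralProduct (involClass)
open CfsgLib.TwoFusion.DihedralProduct.Fusion (DG mid)
open Subgroup (centralizer)
open scoped commutatorElement

universe u

/-- Automorphisms of `PSL(2, q)`, `q > 3`, commute modulo inner ones. -/
theorem psl_commutator_inn {F : Type} [Field F] [Fintype F] (h4 : 4 ≤ Fintype.card F)
    (β γ : MulAut (Matrix.ProjectiveSpecialLinearGroup (Fin 2) F)) :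
    ⁅β, γ⁆ ∈ Cfsg.Inn (Matrix.ProjectiveSpecialLinearGroup (Fin 2) F) := by
  classical
  obtain ⟨p, hchar⟩ := CharP.exists F
  obtain ⟨f, hp, hf⟩ := FiniteField.card F p
  haveI := Fact.mk hp
  haveI := CfsgLib.Known.AutPSL.inn_normal (Matrix.ProjectiveSpecialLinearGroup (Fin 2) F)
  obtain ⟨φ, -, -, hk⟩ := Cfsg.Agent.S2602.result f.pos hf (hf ▸ h4)
  haveI : NeZero (f : ℕ) := ⟨f.pos.ne'⟩
  have hcen : φ.ker ≤ Subgroup.center _ := by
    intro k hk'
    rw [Subgroup.mem_center_iff]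
    intro g
    by_cases h1 : k = 1
    · rw [h1, mul_one, one_mul]
    have hg : g * k * g⁻¹ ∈ φ.ker := (inferInstance : φ.ker.Normal).conj_mem k hk' g
    have hle : Nat.card φ.ker ≤ 2 := hk ▸ Nat.le_of_dvd (by norm_num) (Nat.gcd_dvd_left 2 _)
    by_contra hne
    have hne1 : g * k * g⁻¹ ≠ 1 := fun h => h1 (conj_eq_one_iff.1 h)
    have hne2 : g * k * g⁻¹ ≠ k := fun h => hne (mul_inv_eq_iff_eq_mul.1 h)
    have h3 : 3 ≤ Nat.card φ.ker := by
      have hinj : Function.Injective (![⟨1, one_mem _⟩, ⟨k, hk'⟩, ⟨g * k * g⁻¹, hg⟩] : Fin 3 → φ.ker) := by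
        intro i j h
        fin_cases i <;> fin_cases j <;> simp_all [eq_comm]
      simpa using Nat.card_le_card_of_injective _ hinj
    omega
  haveI : IsCyclic (Multiplicative (ZMod (f : ℕ))) := inferInstance
  haveI := φ.isMulCommutative_of_isCyclic_of_ker_le_center hcen
  rw [← QuotientGroup.eq_one_iff (N := Cfsg.Inn (Matrix.ProjectiveSpecialLinearGroup (Fin 2) F))]
  show (QuotientGroup.mk' (Cfsg.Inn (Matrix.ProjectiveSpecialLinearGroup (Fin 2) F))) ⁅β, γ⁆ = 1
  rw [map_commutatorElement, commutatorElement_eq_one_iff_mul_comm]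
  exact mul_comm' _ _

/-- A homomorphism from a perfect group to a group whose commutators of the image vanish is trivial. -/
theorem commute_of_central_commutator {M : Type*} [Group M] {K : Subgroup M} (hK : ⁅K, K⁆ = K) {w : M}
    (hz : ∀ x ∈ K, ⁅x, w⁆ ∈ Subgroup.center M) : ∀ x ∈ K, Commute x w := by
  have hmul : ∀ x ∈ K, ∀ y ∈ K, ⁅x * y, w⁆ = ⁅x, w⁆ * ⁅y, w⁆ := fun x hx y hy => by
    have hc := Subgroup.mem_center_iff.1 (hz y hy) x
    calc ⁅x * y, w⁆ = x * ⁅y, w⁆ * (w * x⁻¹ * w⁻¹) := by simp only [commutatorElement_def]; group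
      _ = ⁅y, w⁆ * x * (w * x⁻¹ * w⁻¹) := by rw [hc]
      _ = ⁅y, w⁆ * ⁅x, w⁆ := by simp only [commutatorElement_def]; group
      _ = ⁅x, w⁆ * ⁅y, w⁆ := (Subgroup.mem_center_iff.1 (hz x hx) _)
  intro x hx
  let δ : K →* Subgroup.center M :=
    { toFun := fun k => ⟨⁅(k : M), w⁆, hz k k.2⟩
      map_one' := Subtype.ext (by simp [commutatorElement_def])
      map_mul' := fun k l => Subtype.ext (hmul k k.2 l l.2) }
  have hker : ∀ k l : K, δ ⁅k, l⁆ = 1 := fun k l => by
    rw [map_commutatorElement, commutatorElement_eq_one_iff_mul_comm]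
    exact mul_comm' _ _
  have hle : (⁅K, K⁆ : Subgroup M) ≤ δ.ker.map K.subtype := Subgroup.commutator_le.2 fun k hk l hl =>
    ⟨⁅(⟨k, hk⟩ : K), ⟨l, hl⟩⁆, hker _ _, rfl⟩
  obtain ⟨k, hk, rfl⟩ := hle (hK.symm ▸ hx)
  exact commutatorElement_eq_one_iff_mul_comm.1 (congrArg Subtype.val (MonoidHom.mem_ker.1 hk))

variable {Q : Type u} [Group Q] [Finite Q] {S : Sylow 2 Q} {a : ℕ} {ι : W (2 ^ a) →* Q}
  {D : CentCtx S ι} {SH : Sylow 2 D.Hq} {Φ : DG (a - 1) × DG (a - 1) →* D.Hq}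

namespace CentCtx

/-- the preimage of a side -/
noncomputable def lower (D : CentCtx S ι) (Φ : DG (a - 1) × DG (a - 1) →* D.Hq) : Subgroup ↥D.C0 :=
  (sideN Φ).comap D.proj

/-- the same inside the whole group -/
noncomputable def lowerQ (D : CentCtx S ι) (Φ : DG (a - 1) × DG (a - 1) →* D.Hq) : Subgroup Q :=
  (D.lower Φ).map D.C0.subtype

theorem proj_surjective (D : CentCtx S ι) : Function.Surjective D.proj := QuotientGroup.mk'_surjective _

theorem zc_mem_C0 (D : CentCtx S ι) : ι (zc a) ∈ D.C0 := D.mem_C0_iff.2 (zc_mem D.le)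

theorem proj_zc (D : CentCtx S ι) : D.proj ⟨ι (zc a), D.zc_mem_C0⟩ = 1 := D.proj_eq_one.2 (Or.inr rfl)

theorem center_of_proj_one (D : CentCtx S ι) {c : ↥D.C0} (h : D.proj c = 1) : c ∈ Subgroup.center ↥D.C0 :=
  D.Z0_central (D.mem_Z0.2 (D.proj_eq_one.1 h))

theorem zc_orderOf (D : CentCtx S ι) : orderOf (ι (zc a)) = 2 := by
  rw [orderOf_injective ι D.inj]
  refine orderOf_eq_prime ?_ (zc_ne_one D.le)
  rw [pow_two]; ext <;> simp [zc, tr] <;> linear_combination two_half D.le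

theorem zc_ne_one' (D : CentCtx S ι) : ι (zc a) ≠ 1 := fun h =>
  zc_ne_one D.le (D.inj (h.trans (map_one ι).symm))

namespace Side

variable (s : D.Side SH Φ)

include s

theorem lowerQ_normal : (D.lowerQ Φ).Normal := ⟨by
  rintro _ ⟨c, hc, rfl⟩ q
  refine ⟨(MulAut.conjNormal q : MulAut ↥D.C0) c, ?_, MulAut.conjNormal_apply _ _⟩
  show D.proj _ ∈ sideN Φ
  rw [← D.act_proj]
  exact (s.stable q).le ⟨D.proj c, hc, rfl⟩⟩

omit s in
theorem mem_lowerQ {c : ↥D.C0} : (c : Q) ∈ D.lowerQ Φ ↔ D.proj c ∈ sideN Φ := by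
  refine ⟨fun ⟨d, hd, e⟩ => ?_, fun h => ⟨c, h, rfl⟩⟩
  rwa [← (Subtype.ext e : d = c)]

theorem sq_of_pure {u : ↥D.C0} {d : DG (a - 1)} (hu : D.proj u = Φ (d, 1)) (hd : d * d = 1) (hd1 : d ≠ 1) :
    (u : Q) * u = ι (zc a) := by
  refine (D.eps_proj u).1 (hu ▸ (s.halves.pure_iff (d, 1) ?_ ?_).2 (Or.inr rfl))
  · exact Prod.ext hd (one_mul 1)
  · exact fun e => hd1 (congrArg Prod.fst e)

/-- Only the identity of a factor has a lift commuting with all lifts of the factor. -/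
theorem eq_one_of_commute {v : ↥D.C0} {d : DG (a - 1)} (hv : D.proj v = Φ (d, 1))
    (h : ∀ w : ↥D.C0, D.proj w ∈ leftFactor Φ → Commute (v : Q) (w : Q)) : d = 1 := by
  by_contra hd1
  have hpos : 1 ≤ a - 1 := by have := D.le; omega
  have hcd : ∀ d' : DG (a - 1), Commute d d' := fun d' => by
    obtain ⟨w, hw⟩ := D.proj_surjective (Φ (d', 1))
    have hc : Commute (D.proj v) (D.proj w) :=
      (show Commute v w from Subtype.ext (h w (hw ▸ ⟨d', rfl⟩)).eq).map D.proj
    rw [hv, hw] at hc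
    exact (s.halves.frame.commute_iff.1 hc).map (MonoidHom.fst _ _)
  have hd : d * d = 1 := by
    rcases d with i | i
    · rw [DihedralGroup.r_mul_r, ← two_mul,
        CfsgLib.TwoFusion.DihedralProduct.Fusion.commute_sr_r (hcd (sr 0)).symm]
      rfl
    · exact DihedralGroup.sr_mul_self i
  obtain ⟨d', hd', hd'1, hne⟩ : ∃ d', d' * d' = 1 ∧ d' ≠ 1 ∧ d' ≠ d := by
    by_cases he : d = mid (a - 1)
    · exact ⟨sr 0, DihedralGroup.sr_mul_self 0, CfsgLib.TwoFusion.DihedralProduct.Fusion.sr_ne_one' 0,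
        fun e => CfsgLib.TwoFusion.DihedralProduct.Fusion.mid_ne_sr 0 (he ▸ e.symm)⟩
    · exact ⟨mid (a - 1), CfsgLib.TwoFusion.DihedralProduct.Fusion.mid_sq hpos,
        CfsgLib.TwoFusion.DihedralProduct.Fusion.mid_ne_one hpos, Ne.symm he⟩
  obtain ⟨w, hw⟩ := D.proj_surjective (Φ (d', 1))
  have hc := h w (hw ▸ ⟨d', rfl⟩)
  have hvw : D.proj (v * w) = Φ (d * d', 1) := by
    rw [map_mul, hv, hw, ← map_mul]; simp
  have h3 := s.sq_of_pure hvw (by rw [← pow_two, (hcd d').mul_pow, pow_two, pow_two, hd, hd', one_mul])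
    (fun e => hne ((mul_eq_one_iff_inv_eq.1 e).symm.trans (inv_eq_of_mul_eq_one_right hd)))
  rw [Subgroup.coe_mul, hc.symm.mul_mul_mul_comm, s.sq_of_pure hv hd hd1, s.sq_of_pure hw hd' hd'1] at h3
  exact D.zc_ne_one' (mul_eq_left.1 h3)

/-- The preimages of the factors of the Sylow subgroup inside the sides. -/
theorem left_mem_lower {c : ↥D.C0} {d : DG (a - 1)} (h : D.proj c = Φ (d, 1)) : c ∈ D.lower Φ :=
  show D.proj c ∈ sideN Φ from h ▸ s.halves.left_le ⟨d, rfl⟩

theorem perfect_lower (hp : ⁅sideN Φ, sideN Φ⁆ = sideN Φ) : ⁅D.lower Φ, D.lower Φ⁆ = D.lower Φ := by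
  refine le_antisymm (Subgroup.commutator_le.2 fun x hx y hy =>
    mul_mem (mul_mem (mul_mem hx hy) (inv_mem hx)) (inv_mem hy)) ?_
  have hmap : ⁅D.lower Φ, D.lower Φ⁆.map D.proj = sideN Φ := by
    rw [Subgroup.map_commutator, lower, Subgroup.map_comap_eq_self_of_surjective D.proj_surjective, hp]
  have hpos : 1 ≤ a - 1 := by have := D.le; omega
  obtain ⟨m, hm, hmm⟩ : Φ (mid (a - 1), 1) ∈ ⁅D.lower Φ, D.lower Φ⁆.map D.proj :=
    hmap.symm ▸ s.halves.left_le ⟨_, rfl⟩
  have hz := s.sq_of_pure hmm (CfsgLib.TwoFusion.DihedralProduct.Fusion.mid_sq hpos)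
    (CfsgLib.TwoFusion.DihedralProduct.Fusion.mid_ne_one hpos)
  intro c hc
  obtain ⟨e, he, hec⟩ : D.proj c ∈ ⁅D.lower Φ, D.lower Φ⁆.map D.proj := hmap.symm ▸ hc
  have hd : D.proj (e⁻¹ * c) = 1 := by rw [map_mul, map_inv, hec, inv_mul_cancel]
  rw [show c = e * (e⁻¹ * c) by group]
  refine mul_mem he ?_
  rcases D.proj_eq_one.1 hd with h | h
  · rw [show e⁻¹ * c = 1 from Subtype.ext h]; exact one_mem _
  · rw [show e⁻¹ * c = m * m from Subtype.ext (h.trans hz.symm)]; exact mul_mem hm hm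

/-- The preimages of the two sides commute. -/
theorem lower_commute (s' : D.Side SH (swapHom Φ)) {u v : ↥D.C0} (hu : u ∈ D.lower Φ)
    (hv : v ∈ D.lower (swapHom Φ)) : Commute (u : Q) (v : Q) := by
  have hcen : ∀ x ∈ D.lower Φ, ∀ y ∈ D.lower (swapHom Φ), ⁅x, y⁆ ∈ Subgroup.center ↥D.C0 := fun x hx y hy =>
    D.center_of_proj_one (by
      rw [map_commutatorElement, commutatorElement_eq_one_iff_mul_comm]
      exact (s.halves.halves_commute hx hy).eq)
  rcases s.halves.four_or_perfect with ⟨-, h1⟩ | h1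
  · rcases s'.halves.four_or_perfect with ⟨-, h2⟩ | h2
    · have hu' : D.proj u ∈ leftFactor Φ := h1 ▸ hu
      have hv' : D.proj v ∈ leftFactor (swapHom Φ) := h2 ▸ hv
      obtain ⟨d, hd⟩ := hu'
      obtain ⟨e, he⟩ := hv'
      obtain ⟨u', v', hu1, hv1, hc⟩ := s.cross d e
      have hcu : Commute (u'⁻¹ * u) v' := (Subgroup.mem_center_iff.1 (D.center_of_proj_one (by
        rw [map_mul, map_inv, hu1, ← show Φ (d, 1) = D.proj u from hd, inv_mul_cancel])) v').symm
      have hcv : ∀ x, Commute x (v'⁻¹ * v) := fun x => Subgroup.mem_center_iff.1 (D.center_of_proj_one (by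
        rw [map_mul, map_inv, hv1, ← show Φ (1, e) = D.proj v from he, inv_mul_cancel])) x
      have huv : Commute u v' := by
        have := hc.mul_left hcu
        rwa [mul_inv_cancel_left] at this
      have := huv.mul_right (hcv u)
      rw [mul_inv_cancel_left] at this
      exact congrArg Subtype.val this.eq
    · refine congrArg Subtype.val (commute_of_central_commutator (s'.perfect_lower h2) (w := u) ?_ v hv).eq.symm
      intro x hx
      rw [← commutatorElement_inv]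
      exact inv_mem (hcen u hu x hx)
  · exact congrArg Subtype.val (commute_of_central_commutator (s.perfect_lower h1) (fun x hx => hcen x hx v hv) u hu).eq

/-- A side is not the alternating group of degree seven. -/
theorem psl (hp : ⁅sideN Φ, sideN Φ⁆ = sideN Φ) :
    ∃ (F : Type) (_ : Field F) (_ : Fintype F), Odd (Fintype.card F) ∧ 3 < Fintype.card F ∧
      Nonempty (sideN Φ ≃* Matrix.ProjectiveSpecialLinearGroup (Fin 2) F) := by
  refine (s.halves.psl_or_seven hp).resolve_right fun ⟨e7⟩ => ?_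
  obtain ⟨P, hP⟩ := s.halves.exists_sylow_sideN
  let f : DG (a - 1) →* sideN Φ :=
    (Φ.comp (MonoidHom.inl _ _)).codRestrict _ fun d => s.halves.left_le ⟨d, rfl⟩
  have hf : Function.Injective f := fun d e h =>
    congrArg Prod.fst (s.halves.frame.inj (congrArg Subtype.val h))
  have hfr : f.range = (P : Subgroup (sideN Φ)) := by
    rw [hP]
    ext v
    rw [Subgroup.mem_subgroupOf]
    exact ⟨fun ⟨d, hd⟩ => ⟨d, congrArg Subtype.val hd⟩, fun ⟨d, hd⟩ => ⟨d, Subtype.ext hd⟩⟩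
  haveI : Fact (Nat.Prime 2) := ⟨Nat.prime_two⟩
  have hi : ¬ 2 ∣ f.range.index := hfr ▸ P.not_dvd_index
  have hn : 2 ≤ a - 1 := by
    by_contra hc
    have h1 : a - 1 = 1 := by have := D.le; omega
    have h := f.range.card_mul_index
    rw [← Nat.card_congr (MonoidHom.ofInjective hf).toEquiv, DihedralGroup.nat_card, Nat.card_congr e7.toEquiv,
      nat_card_alternatingGroup, Nat.card_fin, show (7 : ℕ).factorial / 2 = 4 * 630 by rfl, show 2 * 2 ^ (a - 1) = 4 by rw [h1]; rfl] at h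
    have : f.range.index = 630 := by omega
    exact hi (this ▸ by norm_num)
  refine seven_false e7 hn f hf hi (s.actSide D.xx) (Subtype.ext ?_) (Subtype.ext ?_)
  · exact s.fix_r _
  · refine s.move_sr.trans ?_
    show Φ (_, 1) = Φ (sr (-1), 1)
    congr 2
    rw [DihedralGroup.inv_r, DihedralGroup.sr_mul_r, zero_add]

/-- Commutators act on a perfect side as its elements. -/
theorem inner_perfect (hp : ⁅sideN Φ, sideN Φ⁆ = sideN Φ) (x y : Q) (c : ↥D.C0) (hc : (c : Q) = ⁅x, y⁆) :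
    ∃ n ∈ sideN Φ, ∀ v ∈ sideN Φ, Commute (n⁻¹ * D.proj c) v := by
  obtain ⟨F, _, _, -, h3, ⟨e⟩⟩ := s.psl hp
  obtain ⟨w, hw⟩ := psl_commutator_inn (by omega) (MulAut.congr e (s.actSide x)) (MulAut.congr e (s.actSide y))
  refine ⟨(e.symm w : sideN Φ), (e.symm w).2, fun v hv => ?_⟩
  have h1 : MulAut.congr e (s.actSide (c : Q)) = MulAut.conj w := by
    rw [hc, map_commutatorElement, map_commutatorElement]; exact hw.symm
  have h2 : e (s.actSide (c : Q) ⟨v, hv⟩) = w * e ⟨v, hv⟩ * w⁻¹ := by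
    rw [← MulAut.conj_apply, ← h1]
    show _ = e (s.actSide (c : Q) (e.symm (e ⟨v, hv⟩)))
    rw [e.symm_apply_apply]
  have h3 : s.actSide (c : Q) ⟨v, hv⟩ = e.symm w * ⟨v, hv⟩ * (e.symm w)⁻¹ := by
    apply e.injective
    rw [h2, map_mul, map_mul, map_inv, e.apply_symm_apply]
  have h4 := congrArg Subtype.val h3
  rw [s.actSide_coe, D.act_coe, MulAut.conj_apply] at h4
  show _ = _
  rw [← mul_inv_eq_iff_eq_mul]
  calc _ = (e.symm w : D.Hq)⁻¹ * (D.proj c * v * (D.proj c)⁻¹) * (e.symm w : D.Hq) := by group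
    _ = v := by rw [h4]; simp only [Subgroup.coe_mul, Subgroup.coe_inv]; group

/-- The inner automorphisms of the quotient induce permutations of order three on a four-group side. -/
theorem exists_perm (h1 : a - 1 = 1) (hA : sideN Φ = leftFactor Φ) :
    ∃ θ : D.Hq →* Equiv.Perm {d : DG (a - 1) // d ≠ 1},
      (∀ (h : D.Hq) (d : {d : DG (a - 1) // d ≠ 1}), h * Φ ((d : DG (a - 1)), 1) * h⁻¹ = Φ ((θ h d : DG (a - 1)), 1)) ∧
      Nat.card θ.range = 3 := by
  classical
  have himg : ∀ h : D.Hq, ∀ d : {d : DG (a - 1) // d ≠ 1}, ∃ d' : {d : DG (a - 1) // d ≠ 1},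
      h * Φ ((d : DG (a - 1)), 1) * h⁻¹ = Φ ((d' : DG (a - 1)), 1) := by
    intro h d
    have hm : h * Φ ((d : DG (a - 1)), 1) * h⁻¹ ∈ sideN Φ :=
      (sideN_normal Φ).conj_mem _ (s.halves.left_le ⟨d, rfl⟩) h
    rw [hA] at hm
    obtain ⟨d', hd'⟩ := hm
    refine ⟨⟨d', fun e => d.2 ?_⟩, hd'.symm⟩
    rw [e, map_one, eq_comm, conj_eq_one_iff, ← map_one Φ] at hd'
    exact congrArg Prod.fst (s.halves.frame.inj hd')
  choose f hf using himg
  have hinj : ∀ d d' : {d : DG (a - 1) // d ≠ 1},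
      Φ ((d : DG (a - 1)), 1) = Φ ((d' : DG (a - 1)), 1) → d = d' :=
    fun d d' h => Subtype.ext (congrArg Prod.fst (s.halves.frame.inj h))
  have hmul : ∀ h k d, f (h * k) d = f h (f k d) := fun h k d => hinj _ _ (by
    rw [← hf, ← hf, ← hf]; group)
  have hone : ∀ d, f 1 d = d := fun d => hinj _ _ (by rw [← hf]; group)
  let θ : D.Hq →* Equiv.Perm {d : DG (a - 1) // d ≠ 1} :=
    { toFun := fun h => ⟨f h, f h⁻¹, fun d => by rw [← hmul, inv_mul_cancel, hone],
        fun d => by rw [← hmul, mul_inv_cancel, hone]⟩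
      map_one' := Equiv.ext hone
      map_mul' := fun h k => Equiv.ext (hmul h k) }
  refine ⟨θ, hf, ?_⟩
  have hsign : ∀ h, Equiv.Perm.sign (θ h) = 1 := by
    intro h
    by_contra hh
    refine s.halves.nh2 (Equiv.Perm.sign.comp θ).ker inferInstance ?_
    have hs : Function.Surjective (Equiv.Perm.sign.comp θ) := fun c => by
      rcases Int.units_eq_one_or c with rfl | rfl
      · exact ⟨1, map_one _⟩
      · exact ⟨h, (Int.units_eq_one_or _).resolve_left hh⟩
    rw [Subgroup.index_ker, MonoidHom.range_eq_top.2 hs]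
    simp
  have hle : θ.range ≤ alternatingGroup {d : DG (a - 1) // d ≠ 1} := by
    rintro _ ⟨h, rfl⟩; exact Equiv.Perm.mem_alternatingGroup.2 (hsign h)
  have hcard : Nat.card {d : DG (a - 1) // d ≠ 1} = 3 := by
    rw [Nat.card_eq_fintype_card, Fintype.card_subtype_compl, Fintype.card_subtype_eq, DihedralGroup.card, h1]
    norm_num
  haveI : Nontrivial {d : DG (a - 1) // d ≠ 1} := Finite.one_lt_card_iff_nontrivial.1 (by omega)
  have halt : Nat.card (alternatingGroup {d : DG (a - 1) // d ≠ 1}) = 3 := by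
    rw [nat_card_alternatingGroup, hcard]; rfl
  have hdvd : Nat.card θ.range ∣ 3 := halt ▸ Subgroup.card_dvd_of_le hle
  rcases (Nat.dvd_prime Nat.prime_three).1 hdvd with h | h
  · exfalso
    have hpos : 1 ≤ a - 1 := by omega
    obtain ⟨k, hk⟩ := isConj_iff.1 (s.halves.transitive (sr 0) (DihedralGroup.sr_mul_self 0)
      (CfsgLib.TwoFusion.DihedralProduct.Fusion.sr_ne_one' 0))
    let m : {d : DG (a - 1) // d ≠ 1} := ⟨mid (a - 1), CfsgLib.TwoFusion.DihedralProduct.Fusion.mid_ne_one hpos⟩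
    have hbot := Subgroup.eq_bot_of_card_eq θ.range h
    have h2 : θ k = 1 := Subgroup.mem_bot.1 (hbot ▸ (⟨k, rfl⟩ : θ k ∈ θ.range))
    have h3 := hf k m
    rw [show f k m = θ k m from rfl, h2, Equiv.Perm.one_apply, hk] at h3
    exact CfsgLib.TwoFusion.DihedralProduct.Fusion.mid_ne_sr 0
      (congrArg Prod.fst (s.halves.frame.inj h3)).symm
  · exact h

omit s in
theorem perm_facts :
    (∀ σ : Equiv.Perm {d : DG 1 // d ≠ 1}, σ ^ 3 = 1 →
      (∀ p q : {d : DG 1 // d ≠ 1}, (p : DG 1) = sr 0 → (q : DG 1) = sr 1 →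
        ∀ d, σ (Equiv.swap p q d) = Equiv.swap p q (σ d)) → σ = 1) ∧
    (∀ σ : Equiv.Perm {d : DG 1 // d ≠ 1}, σ ^ 3 = 1 →
      ∀ p : {d : DG 1 // d ≠ 1}, (p : DG 1) = sr 0 → σ p = p → σ = 1) ∧
    (∀ d : DG 1, d = 1 ∨ d = mid 1 ∨ d = sr 0 ∨ d = sr 1) ∧ (sr (-1) : DG 1) = sr 1 ∧
    (sr 0 : DG 1) ≠ sr 1 := by
  refine ⟨?_, ?_, ?_, ?_, ?_⟩ <;> decide

/-- An element of the commutator subgroup moving a four-group side and centralising the other one. -/
theorem exists_mover (s' : D.Side SH (swapHom Φ)) (h1 : a - 1 = 1) (hA : sideN Φ = leftFactor Φ) :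
    ∃ c : ↥D.C0, (c : Q) ∈ commutator Q ∧ (∀ v ∈ sideN (swapHom Φ), Commute (D.proj c) v) ∧
      ∃ d, ¬ Commute (D.proj c) (Φ (d, 1)) := by
  obtain rfl : a = 2 := by have := D.le; omega
  obtain ⟨θ, hθ, hcard⟩ := s.exists_perm h1 hA
  obtain ⟨hcent, hfix1, hcases, hsr1, hne01⟩ := perm_facts
  have h3 : ∀ (ψ : D.Hq →* Equiv.Perm {d : DG (2 - 1) // d ≠ 1}), Nat.card ψ.range = 3 →
      ∀ g, ψ g ^ 3 = 1 := fun ψ hψ g => by
    have := pow_card_eq_one' (x := (⟨ψ g, g, rfl⟩ : ψ.range))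
    rw [hψ] at this
    exact congrArg Subtype.val this
  have hcomm : ∀ h : ↥D.C0, ⁅D.xx, (h : Q)⁆ ∈ D.C0 := fun h => by
    rw [commutatorElement_def]
    exact mul_mem ((inferInstance : D.C0.Normal).conj_mem _ h.2 _) (inv_mem h.2)
  have hproj : ∀ h : ↥D.C0, D.proj ⟨_, hcomm h⟩ = D.act D.xx (D.proj h) * (D.proj h)⁻¹ := fun h => by
    rw [D.act_proj, ← map_inv, ← map_mul]
    exact congrArg D.proj (Subtype.ext rfl)
  have hmem : ∀ h : ↥D.C0, ⁅D.xx, (h : Q)⁆ ∈ commutator Q := fun h =>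
    Subgroup.commutator_mem_commutator (Subgroup.mem_top _) (Subgroup.mem_top _)
  let p0 : {d : DG (2 - 1) // d ≠ 1} := ⟨sr 0, CfsgLib.TwoFusion.DihedralProduct.Fusion.sr_ne_one' 0⟩
  let p1 : {d : DG (2 - 1) // d ≠ 1} := ⟨sr 1, CfsgLib.TwoFusion.DihedralProduct.Fusion.sr_ne_one' 1⟩
  have e0 : D.act D.xx (Φ (sr 0, 1)) = Φ (sr 1, 1) := by
    rw [s.move_sr, DihedralGroup.inv_r, DihedralGroup.sr_mul_r, zero_add]
    exact congrArg Φ (Prod.ext hsr1 rfl)
  have e1' : D.act D.xx (Φ (sr 1, 1)) = Φ (sr 0, 1) := by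
    have e3 : Φ (sr 1, 1) = Φ (sr 0, 1) * Φ (r 1, 1) := by rw [← map_mul]; simp
    rw [e3, map_mul, s.move_sr, s.fix_r, ← map_mul]
    simp
    exact congrArg Φ (Prod.ext (by decide) rfl)
  have hswap : ∀ d : {d : DG (2 - 1) // d ≠ 1},
      D.act D.xx (Φ ((d : DG (2 - 1)), 1)) = Φ ((Equiv.swap p0 p1 d : DG (2 - 1)), 1) := by
    rintro ⟨d, hd⟩
    rcases hcases d with e | e | e | e
    · exact absurd e hd
    · have : Equiv.swap p0 p1 ⟨d, hd⟩ = ⟨d, hd⟩ := Equiv.swap_apply_of_ne_of_ne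
        (fun k => CfsgLib.TwoFusion.DihedralProduct.Fusion.mid_ne_sr (n := 1) 0 (e.symm.trans (congrArg Subtype.val k)))
        (fun k => CfsgLib.TwoFusion.DihedralProduct.Fusion.mid_ne_sr (n := 1) 1 (e.symm.trans (congrArg Subtype.val k)))
      rw [this]
      show D.act D.xx (Φ (d, 1)) = Φ (d, 1)
      rw [show d = r (CfsgLib.TwoGroups.half 1) from e]
      exact s.fix_r _
    · rw [show (⟨d, hd⟩ : {d : DG (2 - 1) // d ≠ 1}) = p0 from Subtype.ext e, Equiv.swap_apply_left]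
      exact e0
    · rw [show (⟨d, hd⟩ : {d : DG (2 - 1) // d ≠ 1}) = p1 from Subtype.ext e, Equiv.swap_apply_right]
      exact e1'
  -- the commutator of the outer element with a moving element moves
  have key : ∀ h : ↥D.C0, θ (D.proj h) ≠ 1 → ∃ d, ¬ Commute (D.proj ⟨_, hcomm h⟩) (Φ (d, 1)) := by
    intro h hne
    by_contra hall
    push Not at hall
    refine hne (hcent _ (h3 θ hcard _) fun p q hp hq d => ?_)
    obtain rfl : p = p0 := Subtype.ext hp
    obtain rfl : q = p1 := Subtype.ext hq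
    suffices e : Φ ((θ (D.proj h) (Equiv.swap p0 p1 d) : DG (2 - 1)), 1) =
        Φ ((Equiv.swap p0 p1 (θ (D.proj h) d) : DG (2 - 1)), 1) from
      Subtype.ext (congrArg Prod.fst (s.halves.frame.inj e))
    have k1 := congrArg (D.act D.xx) (hθ (D.proj h) d)
    rw [map_mul, map_mul, map_inv, hswap, hswap] at k1
    have k2 := (hall (θ (D.proj h) (Equiv.swap p0 p1 d) : DG (2 - 1))).eq
    rw [hproj, ← mul_inv_eq_iff_eq_mul, ← hθ] at k2
    rw [← k1, ← hθ]
    refine k2.symm.trans ?_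
    group
  rcases s'.halves.four_or_perfect with ⟨-, hB⟩ | hB
  · -- both sides are four-groups
    obtain ⟨θ', hθ', hcard'⟩ := s'.exists_perm h1 hB
    obtain ⟨g1, hg1⟩ := isConj_iff.1 s.halves.fuse₀
    obtain ⟨g2, hg2⟩ := isConj_iff.1 s.halves.fuse₁
    obtain ⟨hg1A, hg1B⟩ := s.halves.components hg1
    obtain ⟨hg2A, hg2B⟩ := s.halves.components hg2
    obtain ⟨h, hh⟩ := D.proj_surjective (g2 * g1⁻¹)
    have hall : θ' (D.proj h) = 1 := by
      refine hfix1 _ (h3 θ' hcard' _) p0 rfl ?_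
      suffices e : swapHom Φ ((θ' (D.proj h) p0 : DG (2 - 1)), 1) = swapHom Φ ((p0 : DG (2 - 1)), 1) from
        Subtype.ext (congrArg Prod.fst (s'.halves.frame.inj e))
      refine (hθ' _ p0).symm.trans ?_
      rw [swapHom_apply, hh]
      show g2 * g1⁻¹ * Φ (1, sr 0) * (g2 * g1⁻¹)⁻¹ = Φ (1, sr 0)
      conv_lhs => rw [show Φ (1, sr 0) = g1 * Φ (1, mid (2 - 1)) * g1⁻¹ from hg1B.symm]
      conv_rhs => rw [show Φ (1, sr 0) = g2 * Φ (1, mid (2 - 1)) * g2⁻¹ from hg2B.symm]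
      group
    have hfix : ∀ v ∈ sideN (swapHom Φ), Commute (D.proj h) v := by
      intro v hv
      rw [hB] at hv
      obtain ⟨e, rfl⟩ := hv
      show Commute (D.proj h) (swapHom Φ (e, 1))
      by_cases he : e = 1
      · subst he; rw [← Prod.one_eq_mk, map_one]; exact Commute.one_right _
      have := hθ' (D.proj h) ⟨e, he⟩
      rw [hall, Equiv.Perm.one_apply] at this
      exact mul_inv_eq_iff_eq_mul.1 this
    refine ⟨⟨_, hcomm h⟩, hmem h, fun v hv => ?_, key h fun hid => ?_⟩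
    · rw [hproj]
      refine Commute.mul_left ?_ (hfix v hv).inv_left
      obtain ⟨v', hv', rfl⟩ : v ∈ (sideN (swapHom Φ)).map (D.act D.xx).toMonoidHom :=
        (s'.stable D.xx).symm ▸ hv
      exact (hfix v' hv').map (D.act D.xx).toMonoidHom
    · have k := hθ (D.proj h) p0
      rw [hid, Equiv.Perm.one_apply, hh] at k
      suffices e : Φ (sr 0, 1) = Φ (sr 1, 1) from hne01 (congrArg Prod.fst (s.halves.frame.inj e))
      refine k.symm.trans ?_
      conv_lhs => rw [show Φ ((p0 : DG (2 - 1)), 1) = g1 * Φ (mid (2 - 1), 1) * g1⁻¹ from hg1A.symm]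
      refine Eq.trans ?_ hg2A
      group
  · -- the other side is perfect
    obtain ⟨k, hk⟩ := isConj_iff.1 (s.halves.transitive (sr 0) (DihedralGroup.sr_mul_self 0)
      (CfsgLib.TwoFusion.DihedralProduct.Fusion.sr_ne_one' 0))
    obtain ⟨h, hh⟩ := D.proj_surjective k
    have hmove : θ (D.proj h) ≠ 1 := fun hid => by
      have := hθ (D.proj h) ⟨mid (2 - 1), CfsgLib.TwoFusion.DihedralProduct.Fusion.mid_ne_one (n := 1) le_rfl⟩
      rw [hid, Equiv.Perm.one_apply, hh, hk] at this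
      exact CfsgLib.TwoFusion.DihedralProduct.Fusion.mid_ne_sr (n := 1) 0
        (congrArg Prod.fst (s.halves.frame.inj this)).symm
    obtain ⟨d, hd⟩ := key h hmove
    obtain ⟨n, hn, hnc⟩ := s'.inner_perfect hB D.xx (h : Q) ⟨_, hcomm h⟩ rfl
    obtain ⟨m, hm⟩ := D.proj_surjective n
    have hmQ : (m : Q) ∈ commutator Q := by
      have hmL : m ∈ ⁅D.lower (swapHom Φ), D.lower (swapHom Φ)⁆ := by
        rw [s'.perfect_lower hB]; show D.proj m ∈ sideN (swapHom Φ); rw [hm]; exact hn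
      have := Subgroup.mem_map_of_mem D.C0.subtype hmL
      rw [Subgroup.map_commutator] at this
      exact Subgroup.commutator_mono le_top le_top this
    refine ⟨m⁻¹ * ⟨_, hcomm h⟩, ?_, fun v hv => ?_, d, fun hc => hd ?_⟩
    · exact mul_mem (inv_mem hmQ) (hmem h)
    · rw [map_mul, map_inv, hm]; exact hnc v hv
    · rw [map_mul, map_inv, hm] at hc
      have hn' : Commute n (Φ (d, 1)) := (s.halves.halves_commute (s.halves.left_le ⟨d, rfl⟩) hn).symm
      have := hn'.mul_left hc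
      rwa [mul_inv_cancel_left] at this

end Side

end CentCtx

end CfsgLib.Recog.G2Sylow
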