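import Cfsg.Agent.Lib.TwoFusion.DihedralProduct.Fusion.Main
import Cfsg.Agent.Lib.TwoFusion.DihedralProduct.Product
import Cfsg.Agent.Lib.TwoFusion.AbelianFactor.Main
import Cfsg.Agent.Lib.Bender.Gen.Final
import Cfsg.Agent.Lib.GW.Final

/-!
# A product of two dihedral groups with marked factors

A group with trivial core, without normal subgroup of index two, with Sylow 2-subgroup the product
of two dihedral groups of equal order whose involutions in the factors are separated from the mixed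
ones by an invariant, and with three prescribed fusions of the product of the central involutions,
has two commuting normal subgroups around the factors, each the four-group or perfect
(owner: helper28).
-/

set_option autoImplicit false

namespace CfsgLib.Recog.G2Sylow

open Cfsg CfsgLib.TwoFusion.DihedralProduct CfsgLib.TwoFusion.DihedralProduct.Fusion
open DihedralGroup (sr r)
open Subgroup (closure centralizer normalizer)
open scoped commutatorElement

universe u

variable {H : Type u} [Group H] [Finite H]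

/-- The data. -/
structure Halves (S : Sylow 2 H) (n : ℕ) (Φ : DG n × DG n →* H) (ε : H → Prop) : Prop where
  frame : Frame S n n Φ
  core : oddCore H = ⊥
  nh2 : ∀ N : Subgroup H, N.Normal → N.index ≠ 2
  inv : ∀ g h : H, ε h → ε (g * h * g⁻¹)
  pure_iff : ∀ p, p * p = 1 → p ≠ 1 → (ε (Φ p) ↔ p.1 = 1 ∨ p.2 = 1)
  fuse₀ : IsConj (Φ (mid n, mid n)) (Φ (sr 0, sr 0))
  fuse₁ : IsConj (Φ (mid n, mid n)) (Φ (sr 1, sr 0))
  fuse₂ : IsConj (Φ (mid n, mid n)) (Φ (sr 0, sr 1))

/-- the exchange of the factors -/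
def swapHom {n : ℕ} (Φ : DG n × DG n →* H) : DG n × DG n →* H :=
  Φ.comp (MulEquiv.prodComm : DG n × DG n ≃* DG n × DG n).toMonoidHom

omit [Finite H] in
@[simp] theorem swapHom_apply {n : ℕ} (Φ : DG n × DG n →* H) (p : DG n × DG n) :
    swapHom Φ p = Φ (p.2, p.1) := rfl

/-- the first factor -/
def leftFactor {n : ℕ} (Φ : DG n × DG n →* H) : Subgroup H := (Φ.comp (MonoidHom.inl _ _)).range

/-- the second factor -/
def rightFactor {n : ℕ} (Φ : DG n × DG n →* H) : Subgroup H := (Φ.comp (MonoidHom.inr _ _)).range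

omit [Finite H] in
theorem leftFactor_swap {n : ℕ} (Φ : DG n × DG n →* H) : leftFactor (swapHom Φ) = rightFactor Φ := rfl

omit [Finite H] in
theorem rightFactor_swap {n : ℕ} (Φ : DG n × DG n →* H) : rightFactor (swapHom Φ) = leftFactor Φ := rfl

/-- the normal subgroup around the first factor -/
def sideN {n : ℕ} (Φ : DG n × DG n →* H) : Subgroup H := closure (involClass (leftFactor Φ))

instance sideN_normal {n : ℕ} (Φ : DG n × DG n →* H) : (sideN Φ).Normal :=
  CfsgLib.TwoFusion.AbelianFactor.normal_closure_class _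

omit [Finite H] in
theorem mem_left_iff {n : ℕ} {Φ : DG n × DG n →* H} {h : H} :
    h ∈ leftFactor Φ ↔ ∃ a, Φ (a, 1) = h := Iff.rfl

namespace Halves

variable {S : Sylow 2 H} {n : ℕ} {Φ : DG n × DG n →* H} {ε : H → Prop} (D : Halves S n Φ ε)

include D

theorem swap : Halves S n (swapHom Φ) ε :=
  ⟨D.frame.swap, D.core, D.nh2, D.inv, fun p hp hp1 => (D.pure_iff (p.2, p.1)
      (Prod.ext (congrArg Prod.snd hp) (congrArg Prod.fst hp))
      fun e => hp1 (Prod.ext (congrArg Prod.snd e) (congrArg Prod.fst e))).trans or_comm,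
    D.fuse₀, D.fuse₂, D.fuse₁⟩

theorem inv_iff (g h : H) : ε (g * h * g⁻¹) ↔ ε h :=
  ⟨fun e => by have := D.inv g⁻¹ _ e; simpa [mul_assoc] using this, D.inv g h⟩

theorem pure_of_conj {p q : DG n × DG n} (hp : p * p = 1) (hp1 : p ≠ 1) (hq : q * q = 1) (hq1 : q ≠ 1)
    (hc : IsConj (Φ p) (Φ q)) : (p.1 = 1 ∨ p.2 = 1) ↔ (q.1 = 1 ∨ q.2 = 1) := by
  obtain ⟨g, hg⟩ := isConj_iff.1 hc
  rw [← D.pure_iff p hp hp1, ← D.pure_iff q hq hq1, ← hg, D.inv_iff]

theorem class_eight (hn : 2 ≤ n) : ∀ p, p * p = 1 → p ≠ 1 → (IsConj (Φ p) (Φ (mid n, 1)) ↔ p.2 = 1) := by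
  obtain ⟨φ, -, hφm, hφc, hiff⟩ := D.frame.exists_phi_left hn hn D.nh2
  intro p hp hp1
  have hm : ((mid n, 1) : DG n × DG n) * (mid n, 1) = 1 := Prod.ext (mid_sq D.frame.pos₁) (one_mul 1)
  have hm1 : ((mid n, 1) : DG n × DG n) ≠ 1 := fun e => mid_ne_one D.frame.pos₁ (congrArg Prod.fst e)
  refine ⟨fun h => ?_, fun h => ?_⟩
  · rcases (D.pure_of_conj hp hp1 hm hm1 h).2 (Or.inr rfl) with e | e
    · rw [(hiff p hp hp1).1 h, e, map_one]
    · exact e
  · refine (hiff p hp hp1).2 (h.trans ?_)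
    by_contra hne
    have hne1 : p.1 ≠ 1 := fun e => hp1 (Prod.ext e h)
    let p' : DG n × DG n := (p.1, φ p.1)
    have hp' : p' * p' = 1 :=
      Prod.ext (show p.1 * p.1 = 1 from congrArg Prod.fst hp) ((hφc p.1).sq D.frame.pos₂)
    have hp'1 : p' ≠ 1 := fun e => hne1 (congrArg Prod.fst e)
    rcases (D.pure_of_conj hp' hp'1 hm hm1 ((hiff p' hp' hp'1).2 rfl)).2 (Or.inr rfl) with e | e
    · exact hne1 e
    · exact hne e.symm

theorem abelian_of_four (hn : n = 1) (x y : H) (hx : x ∈ (S : Subgroup H)) (hy : y ∈ (S : Subgroup H)) :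
    Commute x y := by
  obtain ⟨p, rfl⟩ := D.frame.exists_eq hx
  obtain ⟨q, rfl⟩ := D.frame.exists_eq hy
  exact (commute_prod (cen_four_iff hn p.1 q.1) (cen_four_iff hn p.2 q.2)).map Φ

/-- The normaliser of an abelian Sylow subgroup keeps the factors. -/
theorem normalizer_fix (hn : n = 1) {g : H} (hg : g ∈ normalizer ((S : Subgroup H) : Set H)) :
    ∀ a, ∃ a', g * Φ (a, 1) * g⁻¹ = Φ (a', 1) := by
  subst hn
  have hsq : ∀ p : DG 1 × DG 1, p * p = 1 := fun p => Prod.ext (four_sq p.1) (four_sq p.2)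
  choose f hf using fun p => D.frame.exists_eq ((Subgroup.mem_normalizer_iff.1 hg _).1 (D.frame.mem p))
  have hmul : ∀ p q, f (p * q) = f p * f q := fun p q => D.frame.inj (by
    rw [hf, map_mul, map_mul, hf, hf]; group)
  have hf1 : ∀ p, f p = 1 → p = 1 := fun p h => D.frame.inj (by
    have := hf p
    rw [h, map_one, eq_comm, conj_eq_one_iff] at this
    rw [this, map_one])
  have hpure : ∀ p, p ≠ 1 → ((p.1 = 1 ∨ p.2 = 1) ↔ ((f p).1 = 1 ∨ (f p).2 = 1)) := fun p hp =>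
    D.pure_of_conj (hsq p) hp (hsq _) (fun h => hp (hf1 p h)) (isConj_iff.2 ⟨g, (hf p).symm⟩)
  by_contra hcon
  push Not at hcon
  obtain ⟨a₀, ha₀⟩ := hcon
  have ha1 : a₀ ≠ 1 := fun e => ha₀ 1 (by rw [e, ← Prod.one_eq_mk, map_one]; group)
  have h1 : (f (a₀, 1)).1 = 1 := by
    rcases (hpure (a₀, 1) fun e => ha1 (congrArg Prod.fst e)).1 (Or.inr rfl) with e | e
    · exact e
    · exact absurd (by rw [← hf, show f (a₀, 1) = ((f (a₀, 1)).1, 1) from Prod.ext rfl e]) (ha₀ _)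
  have hsnd : (f (a₀, 1)).2 ≠ 1 := fun e => ha1 (congrArg Prod.fst (hf1 _ (Prod.ext h1 e)))
  -- every image of the second factor lies in the first
  have hB : ∀ b, (f (1, b)).2 = 1 := by
    intro b
    by_cases hb : b = 1
    · subst hb
      have : f 1 = 1 := by
        have := hmul 1 1
        rwa [one_mul, left_eq_mul] at this
      rw [← Prod.one_eq_mk, this]; rfl
    rcases (hpure (1, b) fun e => hb (congrArg Prod.snd e)).1 (Or.inl rfl) with e | e
    · exfalso
      have hne : ((a₀, b) : DG 1 × DG 1) ≠ 1 := fun h => ha1 (congrArg Prod.fst h)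
      have h3 : (f (a₀, b)).1 = 1 := by
        rw [show ((a₀, b) : DG 1 × DG 1) = (a₀, 1) * (1, b) by simp, hmul, Prod.fst_mul, h1, e, one_mul]
      rcases (hpure (a₀, b) hne).2 (Or.inl h3) with h4 | h4
      · exact ha1 h4
      · exact hb h4
    · exact e
  have hA : ∀ a, (f (a, 1)).1 = 1 := by
    intro a
    by_cases ha : a = 1
    · subst ha
      have : f 1 = 1 := by
        have := hmul 1 1
        rwa [one_mul, left_eq_mul] at this
      rw [← Prod.one_eq_mk, this]; rfl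
    rcases (hpure (a, 1) fun e => ha (congrArg Prod.fst e)).1 (Or.inr rfl) with e | e
    · exact e
    · exfalso
      have hb : (DihedralGroup.sr 0 : DG 1) ≠ 1 := sr_ne_one' 0
      have h3 : (f (a, sr 0)).2 = 1 := by
        rw [show ((a, sr 0) : DG 1 × DG 1) = (a, 1) * (1, sr 0) by simp, hmul, Prod.snd_mul, e, hB, one_mul]
      rcases (hpure (a, sr 0) fun h => ha (congrArg Prod.fst h)).2 (Or.inr h3) with h4 | h4
      · exact ha h4
      · exact hb h4
  -- an odd power of `g` lies in the abelian group `S` and still exchanges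
  obtain ⟨k, ⟨i, rfl⟩, hk⟩ := sylow_pow_mem S hg
  have hev : ∀ (i : ℕ) (a : DG 1), ∃ a', g ^ (2 * i) * Φ (a, 1) * (g ^ (2 * i))⁻¹ = Φ (a', 1) := by
    intro i
    induction i with
    | zero => intro a; exact ⟨a, by simp⟩
    | succ i ih =>
      intro a
      obtain ⟨a', ha'⟩ := ih a
      refine ⟨(f (f (a', 1))).1, ?_⟩
      rw [show g ^ (2 * (i + 1)) * Φ (a, 1) * (g ^ (2 * (i + 1)))⁻¹ =
        g * (g * (g ^ (2 * i) * Φ (a, 1) * (g ^ (2 * i))⁻¹) * g⁻¹) * g⁻¹ by
          rw [show 2 * (i + 1) = 1 + (1 + 2 * i) by ring, pow_add, pow_add, pow_one]; group, ha',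
        ← hf, ← hf]
      congr 1
      refine Prod.ext rfl ?_
      rw [show f (a', 1) = (1, (f (a', 1)).2) from Prod.ext (hA a') rfl]
      exact hB _
  obtain ⟨a', ha'⟩ := hev i a₀
  have hkc : g ^ (2 * i + 1) * Φ (a₀, 1) * (g ^ (2 * i + 1))⁻¹ = Φ (a₀, 1) := by
    rw [(D.abelian_of_four rfl _ _ hk (D.frame.mem _)).eq, mul_inv_cancel_right]
  rw [show g ^ (2 * i + 1) * Φ (a₀, 1) * (g ^ (2 * i + 1))⁻¹ =
    g * (g ^ (2 * i) * Φ (a₀, 1) * (g ^ (2 * i))⁻¹) * g⁻¹ by rw [pow_succ']; group, ha', ← hf] at hkc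
  have := congrArg Prod.fst (D.frame.inj hkc)
  rw [hA] at this
  exact ha1 this.symm

theorem class_four (hn : n = 1) :
    ∀ p, p * p = 1 → p ≠ 1 → (IsConj (Φ p) (Φ (mid n, 1)) ↔ p.2 = 1) := by
  subst hn
  have hcS : ∀ p, Φ p ∈ centralizer ((S : Subgroup H) : Set H) := fun p =>
    D.frame.central fun q => commute_prod (four_comm p.1 q.1) (four_comm p.2 q.2)
  intro p _ hp1
  refine ⟨fun h => ?_, fun h => ?_⟩
  · obtain ⟨g, hg, hgp⟩ := normalizer_conj S (hcS (mid 1, 1)) (hcS p) h.symm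
    obtain ⟨a', ha'⟩ := D.normalizer_fix rfl hg (mid 1)
    rw [ha'] at hgp
    exact (congrArg Prod.snd (D.frame.inj hgp)).symm
  · obtain ⟨a, b⟩ := p
    obtain rfl : b = 1 := h
    have key : ∀ q : DG 1 × DG 1, IsConj (Φ (mid 1, mid 1)) (Φ q) →
        IsConj (Φ (mid 1, 1)) (Φ (q.1, 1)) := by
      intro q hq
      obtain ⟨g, hg, hgq⟩ := normalizer_conj S (hcS _) (hcS q) hq
      obtain ⟨a', ha'⟩ := D.normalizer_fix rfl hg (mid 1)
      obtain ⟨b', hb'⟩ := D.swap.normalizer_fix rfl hg (mid 1)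
      rw [swapHom_apply, swapHom_apply] at hb'
      rw [show ((mid 1, mid 1) : DG 1 × DG 1) = (mid 1, 1) * (1, mid 1) by simp, map_mul,
        show g * (Φ (mid 1, 1) * Φ (1, mid 1)) * g⁻¹ = g * Φ (mid 1, 1) * g⁻¹ * (g * Φ (1, mid 1) * g⁻¹) by group,
        ha', hb', ← map_mul] at hgq
      rw [show q.1 = a' by rw [← D.frame.inj hgq]; simp]
      exact isConj_iff.2 ⟨g, ha'⟩
    have h4 : ∀ a : DG 1, a = 1 ∨ a = mid 1 ∨ a = sr 0 ∨ a = sr 1 := by decide
    rcases h4 a with rfl | rfl | rfl | rfl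
    · exact absurd rfl hp1
    · exact IsConj.refl _
    · exact (key _ D.fuse₀).symm
    · exact (key _ D.fuse₁).symm

theorem class_iff : ∀ p, p * p = 1 → p ≠ 1 → (IsConj (Φ p) (Φ (mid n, 1)) ↔ p.2 = 1) := by
  rcases (Nat.lt_or_ge n 2) with h | h
  · exact D.class_four (by have := D.frame.pos₁; omega)
  · exact D.class_eight h

theorem separated : Separated Φ :=
  ⟨Φ (mid n, 1), Φ (1, mid n), fun p hp hp1 => ⟨D.class_iff p hp hp1,
    D.swap.class_iff (p.2, p.1) (Prod.ext (congrArg Prod.snd hp) (congrArg Prod.fst hp))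
      fun e => hp1 (Prod.ext (congrArg Prod.snd e) (congrArg Prod.fst e))⟩⟩

theorem equiv_left : Nonempty (leftFactor Φ ≃* DG n) :=
  ⟨(MonoidHom.ofInjective (f := Φ.comp (MonoidHom.inl _ _))
    (D.frame.inj.comp fun a b h => congrArg Prod.fst h)).symm⟩

theorem two_le_pow : 2 ≤ 2 ^ n := Nat.le_self_pow (by have := D.frame.pos₁; omega) 2

theorem split : Split (involClass (leftFactor Φ)) (involClass (rightFactor Φ)) S (leftFactor Φ)
    (rightFactor Φ) := by
  obtain ⟨hprod, h1, h2⟩ := D.frame.split D.separated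
  refine ⟨hprod, ?_, ?_, h1, h2⟩
  · exact dih_of_equiv (S.2.to_le hprod.1) D.two_le_pow D.equiv_left.some
  · exact dih_of_equiv (S.2.to_le hprod.2.1) D.two_le_pow D.swap.equiv_left.some

theorem commute_classes {x y : H} (hx : x ∈ involClass (leftFactor Φ))
    (hy : y ∈ involClass (rightFactor Φ)) : Commute x y := by
  have h := D.split
  rcases (Nat.lt_or_ge n 2) with hn | hn
  · obtain rfl : n = 1 := by have := D.frame.pos₁; omega
    have F : CfsgLib.TwoFusion.AbelianFactor.Fib S (leftFactor Φ) (rightFactor Φ) := by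
      refine ⟨h.prod, ⟨h.le₁, ?_⟩, ⟨h.le₂, ?_⟩, fun a ha b hb =>
        D.abelian_of_four rfl a b (h.le₂ ha) (h.le₂ hb), Or.inl ⟨1, le_rfl, ?_⟩⟩
      · intro u hu g hgu
        by_cases hu1 : u = 1
        · subst hu1; simp
        have hu2 : orderOf u = 2 := by
          refine Signalizer.orderOf_eq_two_of hu1 ?_
          obtain ⟨a, rfl⟩ := hu
          rw [← map_mul, four_sq, map_one]
        exact ((h.mem₁ _ hgu).1 (involClass_conj (h.mem_class hu hu2) g)).2
      · intro u hu g hgu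
        by_cases hu1 : u = 1
        · subst hu1; simp
        have hu2 : orderOf u = 2 := by
          refine Signalizer.orderOf_eq_two_of hu1 ?_
          obtain ⟨a, rfl⟩ := hu
          rw [← map_mul, four_sq, map_one]
        exact ((h.mem₂ _ hgu).1 (involClass_conj (h.swap.mem_class hu hu2) g)).2
      · let f : DG 1 → ZMod (2 ^ 1) × ZMod (2 ^ 1) := fun d => match d with
          | .r i => (i, 0)
          | .sr i => (i, 1)
        let fh : DG 1 →* Multiplicative (ZMod (2 ^ 1) × ZMod (2 ^ 1)) :=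
          MonoidHom.mk' (fun d => Multiplicative.ofAdd (f d)) (by decide)
        refine ⟨D.equiv_left.some.trans (MulEquiv.ofBijective fh ?_)⟩
        exact ⟨by decide, by decide⟩
    obtain ⟨hy2, g, hg⟩ := hy
    have hc := CfsgLib.TwoFusion.AbelianFactor.class_commute CfsgLib.Bender.benderGen (Nat.card H + 1) H
      (Nat.lt_succ_self _) S _ _ F D.core _ (involClass_conj hx g) _ hg
    exact (commute_conj_iff g x y).1 hc
  · have c := ctx_of_split h
    obtain ⟨z₁, hz₁, hz₁2, hz₁c⟩ := h.dih₁.exists_center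
    obtain ⟨z₂, hz₂, hz₂2, hz₂c⟩ := h.dih₂.exists_center
    exact (⟨c, h, hz₁, hz₁2, hz₁c, hz₂, hz₂2, hz₂c⟩ :
      Base _ _ S _ _ z₁ z₂).commute_all D.core hn D.equiv_left.some hx hy

theorem inf_sylow : sideN Φ ⊓ (S : Subgroup H) = leftFactor Φ :=
  (ctx_of_split D.split).inf_sylow D.split fun _ hx _ hy => D.commute_classes hx hy

theorem left_le : leftFactor Φ ≤ sideN Φ := D.inf_sylow ▸ inf_le_left

theorem halves_commute {u v : H} (hu : u ∈ sideN Φ) (hv : v ∈ sideN (swapHom Φ)) : Commute u v := by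
  have h1 : ∀ x ∈ involClass (leftFactor Φ), sideN (swapHom Φ) ≤ centralizer {x} := fun x hx =>
    (Subgroup.closure_le _).2 fun y hy =>
      Subgroup.mem_centralizer_singleton_iff.2 (D.commute_classes hx hy).eq.symm
  have h2 : sideN Φ ≤ centralizer {v} := (Subgroup.closure_le _).2 fun x hx =>
    Subgroup.mem_centralizer_singleton_iff.2 (Subgroup.mem_centralizer_singleton_iff.1 (h1 x hx hv)).symm
  exact Subgroup.mem_centralizer_singleton_iff.1 (h2 hu)

omit D [Finite H] in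
theorem odd_of_normal_inf [Finite H] {N : Subgroup H} [N.Normal] (h : N ⊓ (S : Subgroup H) = ⊥) :
    Odd (Nat.card N) := by
  have h1 := odd_relIndex_of_normal S N
  rwa [← Subgroup.inf_relIndex_right, inf_comm, h, Subgroup.relIndex_bot_left] at h1

theorem halves_disjoint : sideN Φ ⊓ sideN (swapHom Φ) = ⊥ := by
  have hS : sideN Φ ⊓ sideN (swapHom Φ) ⊓ (S : Subgroup H) = ⊥ := (Subgroup.eq_bot_iff_forall _).2 fun u hu => by
    have h1 : u ∈ leftFactor Φ := D.inf_sylow ▸ ⟨hu.1.1, hu.2⟩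
    have h2 : u ∈ rightFactor Φ := by rw [← leftFactor_swap, ← D.swap.inf_sylow]; exact ⟨hu.1.2, hu.2⟩
    exact D.split.eq_one h1 h2
  exact le_bot_iff.1 (D.core ▸ CfsgLib.ZStar.le_oddCore inferInstance (odd_of_normal_inf hS))

/-- Conjugation of a product respects the decomposition. -/
theorem components {g : H} {p q : DG n × DG n} (h : g * Φ p * g⁻¹ = Φ q) :
    g * Φ (p.1, 1) * g⁻¹ = Φ (q.1, 1) ∧ g * Φ (1, p.2) * g⁻¹ = Φ (1, q.2) := by
  have hp : Φ p = Φ (p.1, 1) * Φ (1, p.2) := by rw [← map_mul]; simp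
  have hq : Φ q = Φ (q.1, 1) * Φ (1, q.2) := by rw [← map_mul]; simp
  have hu : g * Φ (p.1, 1) * g⁻¹ ∈ sideN Φ :=
    (sideN_normal Φ).conj_mem _ (D.left_le ⟨p.1, rfl⟩) g
  have hv : g * Φ (1, p.2) * g⁻¹ ∈ sideN (swapHom Φ) :=
    (sideN_normal _).conj_mem _ (D.swap.left_le ⟨p.2, rfl⟩) g
  rw [hp, hq, show g * (Φ (p.1, 1) * Φ (1, p.2)) * g⁻¹ =
    g * Φ (p.1, 1) * g⁻¹ * (g * Φ (1, p.2) * g⁻¹) by group] at h
  have e : (Φ (q.1, 1))⁻¹ * (g * Φ (p.1, 1) * g⁻¹) = Φ (1, q.2) * (g * Φ (1, p.2) * g⁻¹)⁻¹ := by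
    rw [inv_mul_eq_iff_eq_mul, ← mul_assoc, eq_mul_inv_iff_mul_eq]; exact h
  have hm : (Φ (q.1, 1))⁻¹ * (g * Φ (p.1, 1) * g⁻¹) ∈ sideN Φ ⊓ sideN (swapHom Φ) :=
    Subgroup.mem_inf.2 ⟨mul_mem (inv_mem (D.left_le ⟨q.1, rfl⟩)) hu, e ▸ mul_mem (D.swap.left_le ⟨q.2, rfl⟩) (inv_mem hv)⟩
  rw [D.halves_disjoint, Subgroup.mem_bot, inv_mul_eq_one] at hm
  refine ⟨hm.symm, ?_⟩
  rw [← hm] at h
  exact mul_left_cancel h

/-- All involutions of a factor are fused. -/
theorem transitive (a : DG n) (ha : a * a = 1) (ha1 : a ≠ 1) :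
    IsConj (Φ (mid n, 1)) (Φ (a, 1)) := by
  have h0 : IsConj (Φ (mid n, 1)) (Φ (sr 0, 1)) := by
    obtain ⟨g, hg⟩ := isConj_iff.1 D.fuse₀
    exact isConj_iff.2 ⟨g, (D.components hg).1⟩
  have h1 : IsConj (Φ (mid n, 1)) (Φ (sr 1, 1)) := by
    obtain ⟨g, hg⟩ := isConj_iff.1 D.fuse₁
    exact isConj_iff.2 ⟨g, (D.components hg).1⟩
  rcases inv_cases D.frame.pos₁ ha with rfl | rfl | ⟨i, rfl⟩
  · exact absurd rfl ha1
  · exact IsConj.refl _
  · obtain ⟨b, hb⟩ := sr_conj i
    rcases hb with hb | hb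
    · rw [← hb] at h0
      exact h0.trans (isConj_iff.2 ⟨(Φ (b, 1))⁻¹, by
        rw [← map_inv, ← map_inv, ← map_mul, ← map_mul]; congr 1; simp [mul_assoc]⟩)
    · rw [← hb] at h1
      exact h1.trans (isConj_iff.2 ⟨(Φ (b, 1))⁻¹, by
        rw [← map_inv, ← map_inv, ← map_mul, ← map_mul]; congr 1; simp [mul_assoc]⟩)

/-- Normal subgroups centralising both halves are 2-groups in the Sylow subgroup. -/
theorem centralizer_le : centralizer ((sideN Φ : Set H) ∪ sideN (swapHom Φ)) ≤ (S : Subgroup H) := by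
  classical
  haveI : Fact (Nat.Prime 2) := ⟨Nat.prime_two⟩
  set M := centralizer ((sideN Φ : Set H) ∪ sideN (swapHom Φ)) with hM
  haveI hMn : M.Normal := ⟨fun m hm g => Subgroup.mem_centralizer_iff.2 fun v hv => by
    have hv' : g⁻¹ * v * g ∈ (sideN Φ : Set H) ∪ sideN (swapHom Φ) := by
      rcases hv with hv | hv
      · left; simpa using (sideN_normal Φ).conj_mem v hv g⁻¹
      · right; simpa using (sideN_normal _).conj_mem v hv g⁻¹
    have := Subgroup.mem_centralizer_iff.1 hm _ hv'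
    calc v * (g * m * g⁻¹) = g * (g⁻¹ * v * g * m) * g⁻¹ := by group
      _ = g * (m * (g⁻¹ * v * g)) * g⁻¹ := by rw [this]
      _ = g * m * g⁻¹ * v := by group⟩
  have hc : ∀ m ∈ M, ∀ s ∈ (S : Subgroup H), Commute s m := by
    intro m hm s hs
    obtain ⟨u, hu, v, hv, rfl⟩ := D.split.exists_mul hs
    exact (show Commute u m from Subgroup.mem_centralizer_iff.1 hm u (Or.inl (D.left_le hu))).mul_left
      (Subgroup.mem_centralizer_iff.1 hm v (Or.inr (D.swap.left_le hv)))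
  have hnd : ¬ 2 ∣ ((S : Subgroup H).subgroupOf M).index :=
    Nat.two_dvd_ne_zero.2 (Nat.odd_iff.1 (odd_relIndex_of_normal S M))
  let P : Sylow 2 M := (S.2.comap_of_injective M.subtype M.subtype_injective :
    IsPGroup 2 ((S : Subgroup H).subgroupOf M)).toSylow hnd
  have hP : normalizer ((P : Subgroup M) : Set M) ≤ centralizer ((P : Subgroup M) : Set M) := fun m _ =>
    Subgroup.mem_centralizer_iff.2 fun s hs => Subtype.ext (hc m m.2 s hs).eq
  set K := (MonoidHom.transferSylow P hP).ker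
  have hK := MonoidHom.ker_transferSylow_isComplement' P hP
  have hKodd : Odd (Nat.card K) := by
    rw [← hK.index_eq_card]
    exact Nat.not_even_iff_odd.1 fun h => P.not_dvd_index (even_iff_two_dvd.1 h)
  have hK1 : K = ⊥ := by
    have hOM : oddCore M = ⊥ := by
      have h := CfsgLib.Core.map_subtype_pPrimeCore_le (p := 2) M
      rw [show pPrimeCore 2 H = ⊥ from D.core, le_bot_iff,
        Subgroup.map_eq_bot_iff_of_injective _ M.subtype_injective] at h
      exact h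
    exact le_bot_iff.1 (hOM ▸ CfsgLib.ZStar.le_oddCore inferInstance hKodd)
  have htop : (P : Subgroup M) = ⊤ := by
    have := hK
    rw [show (MonoidHom.transferSylow P hP).ker = ⊥ from hK1, Subgroup.isComplement'_bot_left] at this
    exact this
  intro m hm
  exact Subgroup.mem_subgroupOf.1 (htop ▸ Subgroup.mem_top (⟨m, hm⟩ : M) : (⟨m, hm⟩ : M) ∈ (P : Subgroup M))

theorem core_sideN : oddCore (sideN Φ) = ⊥ := by
  have h := CfsgLib.Core.map_subtype_pPrimeCore_le (p := 2) (sideN Φ)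
  rw [show pPrimeCore 2 H = ⊥ from D.core, le_bot_iff,
    Subgroup.map_eq_bot_iff_of_injective _ (sideN Φ).subtype_injective] at h
  exact h

theorem exists_sylow_sideN : ∃ P : Sylow 2 (sideN Φ),
    (P : Subgroup (sideN Φ)) = (leftFactor Φ).subgroupOf (sideN Φ) := by
  have hnd : ¬ 2 ∣ ((leftFactor Φ).subgroupOf (sideN Φ)).index := by
    have h := odd_relIndex_of_normal S (sideN Φ)
    rw [← Subgroup.inf_relIndex_right, inf_comm, D.inf_sylow] at h
    exact Nat.two_dvd_ne_zero.2 (Nat.odd_iff.1 h)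
  exact ⟨(((S.2.to_le D.split.le₁).comap_of_injective _ (sideN Φ).subtype_injective) :
    IsPGroup 2 ((leftFactor Φ).subgroupOf (sideN Φ))).toSylow hnd, rfl⟩

/-- Each half is the four-group or perfect. -/
theorem four_or_perfect : (n = 1 ∧ sideN Φ = leftFactor Φ) ∨ ⁅sideN Φ, sideN Φ⁆ = sideN Φ := by
  haveI : Fact (Nat.Prime 2) := ⟨Nat.prime_two⟩
  set N := sideN Φ with hN
  by_cases h : ∃ a : DG n, a * a = 1 ∧ a ≠ 1 ∧ Φ (a, 1) ∈ ⁅N, N⁆
  · right
    obtain ⟨a, ha, ha1, hm⟩ := h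
    refine le_antisymm (Subgroup.commutator_le_left _ _) ((Subgroup.closure_le _).2 fun x hx => ?_)
    obtain ⟨g, hg⟩ := hx.2
    obtain ⟨b, hb⟩ := mem_left_iff.1 hg
    have hb2 : orderOf (Φ (b, 1)) = 2 := by rw [hb, Signalizer.orderOf_conj]; exact hx.1
    obtain ⟨hbb, hb1⟩ := (D.frame.orderOf_eq _).1 hb2
    have hc := ((D.transitive a ha ha1).symm.trans (D.transitive b (congrArg Prod.fst hbb)
      fun e => hb1 (Prod.ext e rfl))).trans
        ((hb ▸ (isConj_iff.2 ⟨g, rfl⟩ : IsConj x (g * x * g⁻¹))).symm : IsConj (Φ (b, 1)) x)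
    obtain ⟨k, rfl⟩ := isConj_iff.1 hc
    exact (inferInstance : ⁅N, N⁆.Normal).conj_mem _ hm k
  · left
    push Not at h
    have hbot : ⁅N, N⁆ ⊓ (S : Subgroup H) = ⊥ := by
      by_contra hne
      obtain ⟨v, hv, hv2⟩ := CfsgLib.Signalizer.exists_involution_of_two_group
        (S.2.to_le inf_le_right) hne
      have hvA : v ∈ leftFactor Φ :=
        D.inf_sylow ▸ ⟨Subgroup.commutator_le_left N N hv.1, hv.2⟩
      obtain ⟨a, ha⟩ := mem_left_iff.1 hvA
      obtain ⟨haa, ha1⟩ := (D.frame.orderOf_eq _).1 (ha ▸ hv2)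
      exact h a (congrArg Prod.fst haa) (fun e => ha1 (Prod.ext e rfl)) (ha ▸ hv.1)
    have h1 : ⁅N, N⁆ = ⊥ :=
      le_bot_iff.1 (D.core ▸ CfsgLib.ZStar.le_oddCore inferInstance (odd_of_normal_inf hbot))
    have hcomm : ∀ x ∈ N, ∀ y ∈ N, Commute x y := fun x hx y hy =>
      commutatorElement_eq_one_iff_mul_comm.1 ((Subgroup.eq_bot_iff_forall _).1 h1 _
        (Subgroup.commutator_mem_commutator hx hy))
    have hP : IsPGroup 2 N :=
      isPGroup_closure (fun x hx => Signalizer.involution_sq hx.1)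
        (fun x hx y hy => hcomm x (Subgroup.subset_closure hx) y (Subgroup.subset_closure hy))
    have hA : N = leftFactor Φ := by
      rw [← D.inf_sylow, ← hN]
      exact (inf_eq_left.2 (hP.le_sylow_of_normal S)).symm
    refine ⟨?_, hA⟩
    by_contra hne
    obtain ⟨a, b, hab⟩ := exists_commutator (show 2 ≤ n by have := D.frame.pos₁; omega)
    refine mid_ne_one D.frame.pos₁ (hab.symm.trans (commutatorElement_eq_one_iff_commute.2 ?_))
    exact (D.frame.commute_iff.1 (hcomm _ (D.left_le ⟨a, rfl⟩) _ (D.left_le ⟨b, rfl⟩))).map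
      (MonoidHom.fst _ _)

/-- A perfect half is `PSL(2, q)` or `A₇`. -/
theorem psl_or_seven (hp : ⁅sideN Φ, sideN Φ⁆ = sideN Φ) :
    (∃ (F : Type) (_ : Field F) (_ : Fintype F), Odd (Fintype.card F) ∧ 3 < Fintype.card F ∧
      Nonempty (sideN Φ ≃* Matrix.ProjectiveSpecialLinearGroup (Fin 2) F)) ∨
      Nonempty (sideN Φ ≃* alternatingGroup (Fin 7)) := by
  obtain ⟨P, hP⟩ := D.exists_sylow_sideN
  haveI : Group.IsPerfect (sideN Φ) := Subgroup.isPerfect_iff.2 hp
  let e : (P : Subgroup (sideN Φ)) ≃* DihedralGroup (2 ^ n) :=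
    ((MulEquiv.subgroupCongr hP).trans (Subgroup.subgroupOfEquivOfLe D.left_le)).trans D.equiv_left.some
  let q : sideN Φ ⧸ oddCore (sideN Φ) ≃* sideN Φ :=
    (QuotientGroup.quotientMulEquivOfEq D.core_sideN).trans QuotientGroup.quotientBot
  rcases CfsgLib.GW.Final.gwStatement (sideN Φ) P (2 ^ n) D.two_le_pow ⟨e⟩ with
    ⟨F, i1, i2, h1, h2, ⟨eF⟩⟩ | ⟨⟨e7⟩⟩
  · exact Or.inl ⟨F, i1, i2, h1, h2, ⟨q.symm.trans eF⟩⟩
  · exact Or.inr ⟨q.symm.trans e7⟩

end Halves

end CfsgLib.Recog.G2Sylow
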