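import Cfsg.Agent.Lib.TwoFusion.DihedralProduct.Fusion.Model
import Cfsg.Agent.Lib.Techniques.Basic
import Mathlib.GroupTheory.SpecificGroups.Alternating

/-!
# `A₇` has no automorphism exchanging the two four-groups of a Sylow 2-subgroup

One four-group of a dihedral Sylow 2-subgroup of `A₇` centralises an element of order three and the
other does not. Also homomorphisms out of dihedral groups (owner: helper28).
-/

set_option autoImplicit false
set_option maxRecDepth 4000

namespace CfsgLib.Recog.G2Sylow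

open CfsgLib.TwoFusion.DihedralProduct.Fusion
open DihedralGroup (sr r)

section lift

variable {M : Type*} [Group M] {m : ℕ} [NeZero m]

theorem conj_pow_eq_inv {x y : M} (h : y * x * y⁻¹ = x⁻¹) (k : ℕ) : y * x ^ k = (x ^ k)⁻¹ * y := by
  rw [← inv_pow, ← h, conj_pow]; group

/-- The homomorphism from a dihedral group given by a rotation and a reflection. -/
def dihLift (x y : M) (hx : x ^ m = 1) (hy : y * y = 1) (h : y * x * y⁻¹ = x⁻¹) :
    DihedralGroup m →* M :=
  MonoidHom.mk' (fun d => match d with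
    | .r i => x ^ i.val
    | .sr i => y * x ^ i.val) (by
  have hadd : ∀ i j : ZMod m, x ^ (i + j).val = x ^ i.val * x ^ j.val := fun i j => by
    rw [ZMod.val_add, ← pow_eq_pow_mod _ hx, pow_add]
  have hsub : ∀ i j : ZMod m, x ^ (i - j).val = x ^ i.val * (x ^ j.val)⁻¹ := fun i j => by
    rw [eq_mul_inv_iff_mul_eq, ← hadd, sub_add_cancel]
  have hk := conj_pow_eq_inv h
  have hk' : ∀ k : ℕ, x ^ k * y = y * (x ^ k)⁻¹ := fun k => by
    rw [eq_mul_inv_iff_mul_eq, mul_assoc, hk, mul_inv_cancel_left]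
  have hc : ∀ i j : ℕ, (x ^ i)⁻¹ * x ^ j = x ^ j * (x ^ i)⁻¹ := fun i j =>
    ((Commute.refl x).pow_pow i j).inv_left.eq
  rintro (i | i) (j | j)
  · simp only [DihedralGroup.r_mul_r, hadd]
  · simp only [DihedralGroup.r_mul_sr, hsub]
    rw [← mul_assoc (x ^ i.val), hk', mul_assoc, hc]
  · simp only [DihedralGroup.sr_mul_r, hadd, mul_assoc]
  · simp only [DihedralGroup.sr_mul_sr, hsub]
    rw [hk i.val, mul_assoc, ← mul_assoc y, hy, one_mul, ← hc])

theorem dihLift_r (x y : M) (hx : x ^ m = 1) (hy : y * y = 1) (h : y * x * y⁻¹ = x⁻¹) (i : ZMod m) :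
    dihLift x y hx hy h (r i) = x ^ i.val := rfl

theorem dihLift_sr (x y : M) (hx : x ^ m = 1) (hy : y * y = 1) (h : y * x * y⁻¹ = x⁻¹) (i : ZMod m) :
    dihLift x y hx hy h (sr i) = y * x ^ i.val := rfl

end lift

/-- the rotation of a Sylow 2-subgroup of `A₇` -/
def rot7 : Equiv.Perm (Fin 7) :=
  Equiv.swap 0 1 * Equiv.swap 1 2 * Equiv.swap 2 3 * Equiv.swap 4 5

/-- the reflection -/
def ref7 : Equiv.Perm (Fin 7) := Equiv.swap 0 1 * Equiv.swap 2 3

/-- a Sylow 2-subgroup of `A₇` -/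
noncomputable def sylow7 : DG 2 →* alternatingGroup (Fin 7) :=
  dihLift (⟨rot7, Equiv.Perm.mem_alternatingGroup.2 (by decide)⟩ : alternatingGroup (Fin 7))
    ⟨ref7, Equiv.Perm.mem_alternatingGroup.2 (by decide)⟩
    (Subtype.ext (by decide)) (Subtype.ext (by decide)) (Subtype.ext (by decide))

theorem sylow7_injective : Function.Injective sylow7 := by
  refine (injective_iff_map_eq_one _).2 fun d hd => ?_
  have h : (sylow7 d : Equiv.Perm (Fin 7)) = 1 := congrArg Subtype.val hd
  rcases d with i | i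
  · rw [sylow7, dihLift_r, SubgroupClass.coe_pow] at h
    have key : ∀ i : ZMod (2 ^ 2), rot7 ^ i.val = 1 → i = 0 := by decide
    rw [key i h]
    rfl
  · rw [sylow7, dihLift_sr, Subgroup.coe_mul, SubgroupClass.coe_pow] at h
    have key : ∀ i : ZMod (2 ^ 2), ref7 * rot7 ^ i.val ≠ 1 := by decide
    exact absurd h (key i)

/-- having an element of order three in the centraliser of a pair -/
def HasThree {N : Type*} [Group N] (w u : N) : Prop :=
  ∃ c : N, c ^ 3 = 1 ∧ c ≠ 1 ∧ Commute c w ∧ Commute c u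

theorem HasThree.map {N N' : Type*} [Group N] [Group N'] (e : N ≃* N') {w u : N} (h : HasThree w u) :
    HasThree (e w) (e u) := by
  obtain ⟨c, h1, h2, h3, h4⟩ := h
  exact ⟨e c, by rw [← map_pow, h1, map_one], fun k => h2 (e.map_eq_one_iff.1 k), h3.map e, h4.map e⟩

theorem hasThree_even (i : ZMod (2 ^ 2)) (hi : i = 0 ∨ i = 2) :
    HasThree (sylow7 (mid 2)) (sylow7 (sr i)) := by
  refine ⟨⟨Equiv.swap 4 5 * Equiv.swap 5 6, Equiv.Perm.mem_alternatingGroup.2 (by decide)⟩, Subtype.ext (by decide), ?_, ?_, ?_⟩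
  · intro h
    have := congrArg Subtype.val h
    revert this
    decide
  · refine Subtype.ext ?_
    simp only [sylow7, mid, dihLift_r, Subgroup.coe_mul, SubgroupClass.coe_pow]
    decide
  · refine Subtype.ext ?_
    simp only [sylow7, dihLift_sr, Subgroup.coe_mul, SubgroupClass.coe_pow]
    rcases hi with rfl | rfl <;> decide

theorem not_hasThree_odd (i : ZMod (2 ^ 2)) (hi : i = 1 ∨ i = 3) :
    ¬ HasThree (sylow7 (mid 2)) (sylow7 (sr i)) := by
  rintro ⟨c, h3, h1, hw, hu⟩
  have hm : (sylow7 (sr 1) : alternatingGroup (Fin 7)) = sylow7 (sr i) ∨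
      sylow7 (sr 1) = sylow7 (sr i) * sylow7 (mid 2) := by
    rcases hi with rfl | rfl
    · exact Or.inl rfl
    · right; rw [← map_mul]; rfl
  have hu1 : Commute c (sylow7 (sr 1)) := by
    rcases hm with e | e <;> rw [e]
    · exact hu
    · exact hu.mul_right hw
  set a := (sylow7 (mid 2) : Equiv.Perm (Fin 7)) with ha
  set b := (sylow7 (sr 1) : Equiv.Perm (Fin 7)) with hb
  have hca : Commute (c : Equiv.Perm (Fin 7)) a := hw.map (alternatingGroup (Fin 7)).subtype
  have hcb : Commute (c : Equiv.Perm (Fin 7)) b := hu1.map (alternatingGroup (Fin 7)).subtype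
  have ea : a = rot7 ^ 2 := rfl
  have eb : b = ref7 * rot7 ^ 1 := rfl
  have key : ∀ p q s : Fin 7, ((rot7 ^ 2) p = p ↔ (rot7 ^ 2) q = q) →
      ((ref7 * rot7 ^ 1) p = p ↔ (ref7 * rot7 ^ 1) q = q) →
      ((rot7 ^ 2) q = q ↔ (rot7 ^ 2) s = s) → ((ref7 * rot7 ^ 1) q = q ↔ (ref7 * rot7 ^ 1) s = s) →
      q ≠ p → s ≠ q → s = p := by decide
  have hfix : ∀ g : Equiv.Perm (Fin 7), Commute (c : Equiv.Perm (Fin 7)) g → ∀ p,
      (g p = p ↔ g ((c : Equiv.Perm (Fin 7)) p) = (c : Equiv.Perm (Fin 7)) p) := fun g hg p => by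
    have e : g ((c : Equiv.Perm (Fin 7)) p) = (c : Equiv.Perm (Fin 7)) (g p) := (DFunLike.congr_fun hg.eq p).symm
    rw [e]
    exact (Equiv.apply_eq_iff_eq _).symm
  have h2 : (c : Equiv.Perm (Fin 7)) ^ 2 = 1 := by
    refine Equiv.ext fun p => ?_
    rw [pow_two, Equiv.Perm.mul_apply, Equiv.Perm.one_apply]
    by_cases hp : (c : Equiv.Perm (Fin 7)) p = p
    · rw [hp, hp]
    · have k1 := hfix a hca p
      have k2 := hfix b hcb p
      have k3 := hfix a hca ((c : Equiv.Perm (Fin 7)) p)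
      have k4 := hfix b hcb ((c : Equiv.Perm (Fin 7)) p)
      rw [ea] at k1 k3
      rw [eb] at k2 k4
      exact key _ _ _ k1 k2 k3 k4 hp fun e => hp ((Equiv.injective _) e)
  refine h1 (Subtype.ext ?_)
  have h3' : (c : Equiv.Perm (Fin 7)) ^ 3 = 1 := by rw [← SubgroupClass.coe_pow, h3]; rfl
  rw [pow_succ, h2, one_mul] at h3'
  exact h3'

/-- An automorphism of `A₇` fixes the class of the four-groups of a dihedral Sylow subgroup. -/
theorem seven_false {N : Type*} [Group N] [Finite N] (e : N ≃* alternatingGroup (Fin 7)) {n : ℕ}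
    (hn : 2 ≤ n) (f : DG n →* N) (hf : Function.Injective f) (hi : ¬ 2 ∣ f.range.index)
    (β : MulAut N) (hmid : β (f (mid n)) = f (mid n)) (hsr : β (f (sr 0)) = f (sr (-1))) : False := by
  classical
  haveI : Fact (Nat.Prime 2) := ⟨Nat.prime_two⟩
  have hcard7 : Nat.card (alternatingGroup (Fin 7)) = 8 * 315 := by
    rw [nat_card_alternatingGroup, Nat.card_fin]; rfl
  have hcardN : Nat.card N = 8 * 315 := by rw [Nat.card_congr e.toEquiv, hcard7]
  have h := f.range.card_mul_index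
  rw [← Nat.card_congr (MonoidHom.ofInjective hf).toEquiv, DihedralGroup.nat_card, hcardN] at h
  obtain rfl : n = 2 := by
    rcases n with _ | _ | _ | n
    · omega
    · omega
    · rfl
    · exfalso
      have hd : 16 ∣ 8 * 315 := h ▸ dvd_mul_of_dvd_left
        (Dvd.intro (2 ^ n) (by rw [pow_succ, pow_succ, pow_succ]; ring) :
          16 ∣ 2 * 2 ^ (n + 1 + 1 + 1)) _
      omega
  -- move the Sylow subgroup onto the model
  let f' : DG 2 →* alternatingGroup (Fin 7) := e.toMonoidHom.comp f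
  have hf' : Function.Injective f' := e.injective.comp hf
  have hM : IsPGroup 2 sylow7.range := IsPGroup.of_card (n := 3) (by
    rw [← Nat.card_congr (MonoidHom.ofInjective sylow7_injective).toEquiv, DihedralGroup.nat_card]; rfl)
  have hMi : ¬ 2 ∣ sylow7.range.index := by
    have h7 := sylow7.range.card_mul_index
    rw [← Nat.card_congr (MonoidHom.ofInjective sylow7_injective).toEquiv, DihedralGroup.nat_card,
      hcard7, show 2 * 2 ^ 2 = 8 from rfl] at h7
    rw [Nat.eq_of_mul_eq_mul_left (by norm_num) h7]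
    norm_num
  have hP : IsPGroup 2 f'.range := IsPGroup.of_card (n := 3) (by
    rw [← Nat.card_congr (MonoidHom.ofInjective hf').toEquiv, DihedralGroup.nat_card]; rfl)
  obtain ⟨k, hk⟩ := CfsgLib.Techniques.exists_conj_le_sylow (hM.toSylow hMi) hP
  let τ : N ≃* alternatingGroup (Fin 7) := e.trans (MulAut.conj k)
  have hmem : ∀ d, τ (f d) ∈ sylow7.range := fun d => hk ⟨f' d, ⟨d, rfl⟩, rfl⟩
  choose φ hφ using hmem
  have hφinj : Function.Injective φ := fun a b h => hf (τ.injective (by rw [← hφ, ← hφ, h]))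
  have hφsur : Function.Surjective φ := Finite.surjective_of_injective hφinj
  have hφmul : ∀ a b, φ (a * b) = φ a * φ b := fun a b => sylow7_injective (by
    rw [map_mul, hφ, hφ, hφ, map_mul, map_mul])
  have hφ1 : φ 1 = 1 := by
    have := hφmul 1 1
    rwa [one_mul, left_eq_mul] at this
  have hmid2 : φ (mid 2) = mid 2 := by
    have key : ∀ d : DG 2, (∀ x, d * x = x * d) → d ≠ 1 → d = mid 2 := by decide
    refine key _ (fun x => ?_) fun h => ?_
    · obtain ⟨y, rfl⟩ := hφsur x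
      rw [← hφmul, ← hφmul, (mid_central (n := 2) (by norm_num) y).eq]
    · exact mid_ne_one (n := 2) (by norm_num) (hφinj (h.trans hφ1.symm))
  have hcases : ∀ d e' : DG 2, d * d = 1 → e' * e' = 1 → d * e' ≠ e' * d →
      ((d = sr 0 ∨ d = sr 2) ∧ (e' = sr 1 ∨ e' = sr 3)) ∨
        ((d = sr 1 ∨ d = sr 3) ∧ (e' = sr 0 ∨ e' = sr 2)) := by decide
  have hne : φ (sr 0) * φ (sr (-1)) ≠ φ (sr (-1)) * φ (sr 0) := by
    rw [← hφmul, ← hφmul]
    intro h'
    have := hφinj h'
    revert this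
    decide
  have hsq : ∀ i, φ (sr i) * φ (sr i) = 1 := fun i => by
    rw [← hφmul, DihedralGroup.sr_mul_self, hφ1]
  have hw : sylow7 (mid 2) = τ (f (mid 2)) := by rw [← hφ, hmid2]
  let β' : alternatingGroup (Fin 7) ≃* alternatingGroup (Fin 7) := τ.symm.trans (MulEquiv.trans β τ)
  have hb : ∀ x, β' (τ x) = τ (β x) := fun x => by
    show τ (β (τ.symm (τ x))) = _
    rw [τ.symm_apply_apply]
  have hiff : HasThree (τ (f (mid 2))) (τ (f (sr 0))) ↔ HasThree (τ (f (mid 2))) (τ (f (sr (-1)))) := by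
    constructor
    · intro h
      have := h.map β'
      rwa [hb, hb, hmid, hsr] at this
    · intro h
      have := h.map β'.symm
      have e1 : β'.symm (τ (f (mid 2))) = τ (f (mid 2)) := by rw [MulEquiv.symm_apply_eq, hb, hmid]
      have e2 : β'.symm (τ (f (sr (-1)))) = τ (f (sr 0)) := by rw [MulEquiv.symm_apply_eq, hb, hsr]
      rwa [e1, e2] at this
  rw [← hw, ← hφ, ← hφ] at hiff
  have hE : ∀ d, d = sr 0 ∨ d = sr 2 → HasThree (sylow7 (mid 2)) (sylow7 d) := by
    rintro d (rfl | rfl)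
    · exact hasThree_even _ (Or.inl rfl)
    · exact hasThree_even _ (Or.inr rfl)
  have hO : ∀ d, d = sr 1 ∨ d = sr 3 → ¬ HasThree (sylow7 (mid 2)) (sylow7 d) := by
    rintro d (rfl | rfl)
    · exact not_hasThree_odd _ (Or.inl rfl)
    · exact not_hasThree_odd _ (Or.inr rfl)
  rcases hcases _ _ (hsq 0) (hsq (-1)) hne with ⟨hd, he⟩ | ⟨hd, he⟩
  · exact hO _ he (hiff.1 (hE _ hd))
  · exact hO _ hd (hiff.2 (hE _ he))

end CfsgLib.Recog.G2Sylow
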