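import Cfsg.Agent.Lib.Recog.G2Sylow.CentCtx
import Cfsg.Agent.Lib.Recog.G2Sylow.Halves
import Cfsg.Agent.Lib.Recog.G2Sylow.Seven

/-!
# The subgroup of index two of the centralizer modulo the central involution

The transfer along the parity character cuts out a subgroup of index two; modulo the central
involution its Sylow 2-subgroup is a product of two dihedral groups with marked factors
(owner: helper28).
-/

set_option autoImplicit false
set_option maxHeartbeats 800000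

namespace CfsgLib.Recog.G2Sylow

open W
open DihedralGroup (sr r)
open CfsgLib.TwoFusion.DihedralProduct.Fusion (DG mid)

universe u

section model

variable {a : ℕ}

theorem par_half_zero (ha : 2 ≤ a) : par ha (half a) = 0 := by
  rw [half, map_natCast, ZMod.natCast_eq_zero_iff]
  exact dvd_pow_self 2 (by omega)

theorem mem_parKer_iff (ha : 2 ≤ a) {p : W (2 ^ a)} :
    p ∈ (piHom ha).ker ↔ par ha (p.x + p.y) = 0 := by
  rw [MonoidHom.mem_ker]
  exact ⟨fun h => Multiplicative.ofAdd.injective h, fun h => congrArg Multiplicative.ofAdd h⟩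

/-- first rotation -/
def rho1 (a : ℕ) : W (2 ^ a) := tr 1 1
/-- second rotation -/
def rho2 (a : ℕ) : W (2 ^ a) := tr 1 (-1)
/-- first reflection -/
def sig1 (a : ℕ) : W (2 ^ a) := e1 a * us
/-- second reflection -/
def sig2 (a : ℕ) : W (2 ^ a) := e1 a * ss

variable (ha : 2 ≤ a)
include ha

theorem rho1_mem : rho1 a ∈ (piHom ha).ker := by
  rw [mem_parKer_iff]; simp [rho1, tr]; decide
theorem rho2_mem : rho2 a ∈ (piHom ha).ker := by rw [mem_parKer_iff]; simp [rho2, tr]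
theorem sig1_mem : sig1 a ∈ (piHom ha).ker := by
  rw [mem_parKer_iff]; simp [sig1, e1, us, tr, par_half_zero ha]
theorem sig2_mem : sig2 a ∈ (piHom ha).ker := by
  rw [mem_parKer_iff]; simp [sig2, e1, ss, tr, par_half_zero ha]
theorem zc_mem : zc a ∈ (piHom ha).ker := by
  rw [mem_parKer_iff]; simp [zc, tr, par_half_zero ha]

theorem rho_half : rho1 a ^ 2 ^ (a - 1) = zc a ∧ rho2 a ^ 2 ^ (a - 1) = zc a := by
  refine ⟨?_, ?_⟩
  · rw [rho1, tr_pow, mul_one]; rfl
  · rw [rho2, tr_pow, mul_one, mul_neg, mul_one]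
    show tr (half a) (-half a) = tr (half a) (half a)
    congr 1
    linear_combination -(two_half ha)

theorem sig_sq : sig1 a * sig1 a = zc a ∧ sig2 a * sig2 a = zc a := by
  refine ⟨?_, ?_⟩ <;> ext <;> simp [sig1, sig2, e1, us, ss, zc, tr]
  linear_combination -(two_half ha)

omit ha in
theorem sig_conj : sig1 a * rho1 a * (sig1 a)⁻¹ = (rho1 a)⁻¹ ∧ sig2 a * rho2 a * (sig2 a)⁻¹ = (rho2 a)⁻¹ := by
  refine ⟨?_, ?_⟩ <;> ext <;> simp [sig1, sig2, rho1, rho2, e1, us, ss, tr] <;> ring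

theorem side_commute : Commute (rho1 a) (rho2 a) ∧ Commute (rho1 a) (sig2 a) ∧ Commute (sig1 a) (rho2 a) ∧
    Commute (sig1 a) (sig2 a) := by
  have h := two_half ha
  refine ⟨?_, ?_, ?_, ?_⟩ <;> show _ = _ <;> ext <;> simp [sig1, sig2, rho1, rho2, e1, us, ss, tr] <;>
    first
      | linear_combination h
      | linear_combination (-1 : ZMod (2 ^ a)) * h
      | linear_combination (0 : ZMod (2 ^ a)) * h

theorem e1_eq : rho1 a ^ 2 ^ (a - 2) * rho2 a ^ 2 ^ (a - 2) = e1 a := by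
  have h : ((2 ^ (a - 2) : ℕ) : ZMod (2 ^ a)) + ((2 ^ (a - 2) : ℕ) : ZMod (2 ^ a)) = half a := by
    rw [half, ← Nat.cast_add]
    congr 1
    rw [← two_mul, ← pow_succ']
    congr 1
    omega
  rw [rho1, rho2, tr_pow, tr_pow]
  generalize ((2 ^ (a - 2) : ℕ) : ZMod (2 ^ a)) = q at h
  ext <;> simp [e1, tr]
  linear_combination h

/-- A subgroup containing the four generators contains the kernel of the parity character. -/
theorem parKer_le {M : Subgroup (W (2 ^ a))} (h1 : rho1 a ∈ M) (h2 : rho2 a ∈ M) (h3 : uu ∈ M)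
    (h4 : ss ∈ M) : (piHom ha).ker ≤ M := by
  intro p hp
  rw [mem_parKer_iff] at hp
  obtain ⟨x, y, c, d⟩ := p
  obtain ⟨j, hj⟩ := exists_two_mul_of_par ha (x := x - y) (by
    rw [map_sub, sub_eq_add_neg, show -par ha y = par ha y from ZMod.neg_eq_self_mod_two _, ← map_add]
    exact hp)
  have e : (⟨x, y, c, d⟩ : W (2 ^ a)) = rho1 a ^ (y + j).val * rho2 a ^ j.val *
      (if c then uu else 1) * (if d then ss else 1) := by
    rw [rho1, rho2, tr_pow, tr_pow, ZMod.natCast_zmod_val, ZMod.natCast_zmod_val]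
    cases c <;> cases d <;> ext <;> simp [tr, uu, ss] <;> linear_combination hj
  rw [e]
  refine mul_mem (mul_mem (mul_mem (pow_mem h1 _) (pow_mem h2 _)) ?_) ?_
  · split_ifs
    · exact h3
    · exact one_mem _
  · split_ifs
    · exact h4
    · exact one_mem _

/-- the element of the kernel of the parity character over a dihedral element of the first side -/
def lift1 : DG (a - 1) → ↥(piHom ha).ker
  | .r i => ⟨rho1 a, rho1_mem ha⟩ ^ i.val
  | .sr i => ⟨sig1 a, sig1_mem ha⟩ * ⟨rho1 a, rho1_mem ha⟩ ^ i.val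

/-- the element of the kernel of the parity character over a dihedral element of the second side -/
def lift2 : DG (a - 1) → ↥(piHom ha).ker
  | .r i => ⟨rho2 a, rho2_mem ha⟩ ^ i.val
  | .sr i => ⟨sig2 a, sig2_mem ha⟩ * ⟨rho2 a, rho2_mem ha⟩ ^ i.val

theorem lift_commute (d e : DG (a - 1)) : Commute (lift1 ha d : W (2 ^ a)) (lift2 ha e : W (2 ^ a)) := by
  obtain ⟨c1, c2, c3, c4⟩ := side_commute ha
  rcases d with i | i <;> rcases e with j | j <;> simp only [lift1, lift2, Subgroup.coe_mul, SubgroupClass.coe_pow]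
  · exact c1.pow_pow _ _
  · exact (c2.pow_left _).mul_right (c1.pow_pow _ _)
  · exact (c3.pow_right _).mul_left (c1.pow_pow _ _)
  · exact (c4.mul_right (c3.pow_right _)).mul_left ((c2.pow_left _).mul_right (c1.pow_pow _ _))

omit ha in
theorem nat_cast_small [NeZero (2 ^ a)] (ha : 2 ≤ a) {k : ℕ} (hk : k < 2 ^ (a - 1))
    (h : (2 * k : ℕ) = (0 : ZMod (2 ^ a))) : k = 0 := by
  rw [ZMod.natCast_eq_zero_iff] at h
  have e : 2 ^ a = 2 * 2 ^ (a - 1) := by rw [← pow_succ', Nat.sub_add_cancel (by omega)]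
  exact Nat.eq_zero_of_dvd_of_lt ((Nat.mul_dvd_mul_iff_left (by norm_num : 0 < 2)).1 (e ▸ h)) hk

/-- The two sides meet in the central involution. -/
theorem lift_cases {d e : DG (a - 1)}
    (h : (lift1 ha d : W (2 ^ a)) * lift2 ha e = 1 ∨ (lift1 ha d : W (2 ^ a)) * lift2 ha e = zc a) :
    d = 1 ∧ e = 1 := by
  have h2 := two_half ha
  have key : ∀ (i j : ZMod (2 ^ (a - 1))) (s t : Bool),
      (if s then sig1 a else 1) * rho1 a ^ i.val * ((if t then sig2 a else 1) * rho2 a ^ j.val) = 1 ∨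
        (if s then sig1 a else 1) * rho1 a ^ i.val * ((if t then sig2 a else 1) * rho2 a ^ j.val) = zc a →
      s = false ∧ t = false ∧ i = 0 ∧ j = 0 := by
    intro i j s t hk
    rw [rho1, rho2, tr_pow, tr_pow] at hk
    have hst : s = false ∧ t = false := by
      rcases hk with hk | hk <;> have ea := congrArg W.a hk <;> have eb := congrArg W.b hk <;>
        cases s <;> cases t <;> simp [sig1, sig2, e1, us, ss, tr, zc] at ea eb ⊢
    obtain ⟨rfl, rfl⟩ := hst
    have hx : ((i.val : ℕ) : ZMod (2 ^ a)) + j.val = 0 ∧ ((i.val : ℕ) : ZMod (2 ^ a)) - j.val = 0 ∨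
        ((i.val : ℕ) : ZMod (2 ^ a)) + j.val = half a ∧ ((i.val : ℕ) : ZMod (2 ^ a)) - j.val = half a := by
      rcases hk with hk | hk <;> have ex := congrArg W.x hk <;> have ey := congrArg W.y hk <;>
        simp [tr, zc, sub_eq_add_neg] at ex ey ⊢
      · exact Or.inl ⟨ex, ey⟩
      · exact Or.inr ⟨ex, ey⟩
    refine ⟨rfl, rfl, ?_, ?_⟩ <;> rw [← ZMod.val_eq_zero]
    · refine nat_cast_small ha (ZMod.val_lt i) ?_
      push_cast
      rcases hx with ⟨x1, x2⟩ | ⟨x1, x2⟩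
      · linear_combination x1 + x2
      · linear_combination x1 + x2 + h2
    · refine nat_cast_small ha (ZMod.val_lt j) ?_
      push_cast
      rcases hx with ⟨x1, x2⟩ | ⟨x1, x2⟩
      · linear_combination x1 - x2
      · linear_combination x1 - x2
  rcases d with i | i <;> rcases e with j | j <;>
    simp only [lift1, lift2, Subgroup.coe_mul, SubgroupClass.coe_pow] at h
  · obtain ⟨-, -, rfl, rfl⟩ := key i j false false (by simpa using h)
    exact ⟨rfl, rfl⟩
  · obtain ⟨-, h', -⟩ := key i j false true (by simpa using h)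
    simp at h'
  · obtain ⟨h', -⟩ := key i j true false (by simpa using h)
    simp at h'
  · obtain ⟨h', -⟩ := key i j true true (by simpa using h)
    simp at h'

/-- An involution of a side lifts to a square root of the central involution. -/
theorem lift_sq {d : DG (a - 1)} (hd : d * d = 1) (hd1 : d ≠ 1) :
    (lift1 ha d : W (2 ^ a)) * lift1 ha d = zc a ∧ (lift2 ha d : W (2 ^ a)) * lift2 ha d = zc a := by
  rcases d with i | i
  · simp only [lift1, lift2, SubgroupClass.coe_pow]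
    rcases CfsgLib.TwoFusion.DihedralProduct.Fusion.inv_cases (show 1 ≤ a - 1 by omega) hd with h | h | ⟨k, h⟩
    · exact absurd h hd1
    · rw [show mid (a - 1) = r (CfsgLib.TwoGroups.half (a - 1)) from rfl] at h
      obtain rfl := DihedralGroup.r.inj h
      have hlt : 2 ^ (a - 1 - 1) < 2 ^ (a - 1) := Nat.pow_lt_pow_right (by norm_num) (by omega)
      have he : 2 ^ (a - 1 - 1) + 2 ^ (a - 1 - 1) = 2 ^ (a - 1) := by
        rw [← two_mul, ← pow_succ']; congr 1; omega
      rw [CfsgLib.TwoGroups.half, ZMod.val_natCast, Nat.mod_eq_of_lt hlt, ← pow_add, ← pow_add, he]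
      exact rho_half ha
    · cases h
  · simp only [lift1, lift2, Subgroup.coe_mul, SubgroupClass.coe_pow, rho1, rho2, tr_pow]
    refine ⟨?_, ?_⟩ <;> ext <;> simp [sig1, sig2, e1, us, ss, zc, tr] <;>
      first
        | linear_combination -(two_half ha)
        | linear_combination (two_half ha)

end model

variable {Q : Type u} [Group Q] [Finite Q] {S : Sylow 2 Q} {a : ℕ} {ι : W (2 ^ a) →* Q}

namespace CentCtx

variable (D : CentCtx S ι)

include D

/-- the transfer along the parity character -/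
noncomputable def chi : Q →* Multiplicative (ZMod 2) :=
  MonoidHom.transfer (flagChar ι D.le D.inj D.range)

theorem chi_x : D.chi (ι (tr 1 0)) = Multiplicative.ofAdd 1 := by
  refine transfer_tr_one ι D.le D.inj D.range fun h => ?_
  obtain ⟨g, hg⟩ := isConj_iff.1 h
  have hg' : g * ι (zc a) * g⁻¹ = ι (zc a) := by rw [(D.cen g).eq, mul_inv_cancel_right]
  have := mul_left_cancel (mul_right_cancel (hg.trans hg'.symm))
  exact half_ne_zero D.le (congrArg W.y (D.inj this)).symm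

theorem chi_e1 : D.chi (ι (e1 a)) = 1 := by
  have hx : tr (1 : ZMod (2 ^ a)) 0 ^ 2 ^ (a - 1) = e1 a := by rw [tr_pow, mul_one, mul_zero]; rfl
  obtain ⟨b, hb⟩ : ∃ b, a - 1 = b + 1 := ⟨a - 2, by have := D.le; omega⟩
  rw [← hx, map_pow, map_pow, D.chi_x, hb, pow_succ', pow_mul, flag_sq, one_pow]

theorem chi_eq (p : W (2 ^ a)) : D.chi (ι p) = piHom D.le p := by
  have hc : ∀ {u v : Q}, IsConj u v → D.chi u = D.chi v := fun h => isConj_iff_eq.1 (D.chi.map_isConj h)
  have hu : D.chi (ι uu) = piHom D.le uu := by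
    rw [hc D.fuse_uu, D.chi_e1]; symm
    exact (mem_parKer_iff D.le).2 (by simp [uu]) |> MonoidHom.mem_ker.1
  have hs : D.chi (ι ss) = piHom D.le ss := by
    rw [hc D.fuse_ss, D.chi_e1]; symm
    exact (mem_parKer_iff D.le).2 (by simp [ss]) |> MonoidHom.mem_ker.1
  have hx : D.chi (ι (tr 1 0)) = piHom D.le (tr 1 0) := by
    rw [D.chi_x]
    show _ = Multiplicative.ofAdd (par D.le ((tr (1 : ZMod (2 ^ a)) 0).x + (tr (1 : ZMod (2 ^ a)) 0).y))
    simp [tr]
  set M := (D.chi.comp ι).eqLocus (piHom D.le) with hM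
  have hxM : tr (1 : ZMod (2 ^ a)) 0 ∈ M := hx
  have hsM : (ss : W (2 ^ a)) ∈ M := hs
  have huM : (uu : W (2 ^ a)) ∈ M := hu
  have he : p = tr 1 0 ^ p.x.val * (ss * tr 1 0 ^ p.y.val * ss) * (if p.a then uu else 1) *
      (if p.b then ss else 1) := by
    rw [tr_pow, tr_pow, ZMod.natCast_zmod_val, ZMod.natCast_zmod_val]
    obtain ⟨x, y, c, d⟩ := p
    cases c <;> cases d <;> ext <;> simp [tr, uu, ss]
  have : p ∈ M := by
    rw [he]
    refine mul_mem (mul_mem (mul_mem (pow_mem hxM _) (mul_mem (mul_mem hsM (pow_mem hxM _)) hsM)) ?_) ?_ <;>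
      split_ifs <;> first | assumption | exact one_mem _
  exact this

/-- the subgroup of index two -/
noncomputable abbrev C0 : Subgroup Q := D.chi.ker

theorem mem_C0_iff {p : W (2 ^ a)} : ι p ∈ D.C0 ↔ p ∈ (piHom D.le).ker := by
  rw [MonoidHom.mem_ker, MonoidHom.mem_ker, D.chi_eq]

theorem x_not_mem : ι (tr 1 0) ∉ D.C0 := fun h =>
  flag_ne_one (MonoidHom.mem_ker.1 h ▸ D.chi_x)

theorem mul_x_mem {g : Q} (hg : g ∉ D.C0) : ι (tr 1 0) * g ∈ D.C0 := by
  rw [MonoidHom.mem_ker, map_mul, D.chi_x, (flag_cases _).resolve_left hg, ← pow_two, flag_sq]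

/-- Fusion with the first coordinate involution takes place inside the subgroup of index two. -/
theorem fuse_C0 {p : W (2 ^ a)} (h : IsConj (ι p) (ι (e1 a))) :
    ∃ g ∈ D.C0, g * ι p * g⁻¹ = ι (e1 a) := by
  obtain ⟨g, hg⟩ := isConj_iff.1 h
  by_cases hgC : g ∈ D.C0
  · exact ⟨g, hgC, hg⟩
  refine ⟨_, D.mul_x_mem hgC, ?_⟩
  rw [show ι (tr 1 0) * g * ι p * (ι (tr 1 0) * g)⁻¹ = ι (tr 1 0) * (g * ι p * g⁻¹) * (ι (tr 1 0))⁻¹ by group,
    hg, ← map_inv, ← map_mul, ← map_mul]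
  congr 1
  ext <;> simp [e1, tr]

theorem fuse_u1m : IsConj (ι (tr 1 (-1) * uu)) (ι (e1 a)) := by
  refine (ι.map_isConj ?_).trans D.fuse_u11
  refine W.conj_of_par D.le (by simp [tr, uu]) (by simp [tr, uu]) (by simp [tr, uu]) (by simp [tr, uu]) ?_ ?_
  · simp [tr, uu]
  · simp [tr, uu]

/-- the kernel of the parity character inside the subgroup of index two -/
noncomputable def iota0 : ↥(piHom D.le).ker →* ↥D.C0 :=
  (ι.comp (Subgroup.subtype _)).codRestrict _ fun p => D.mem_C0_iff.2 p.2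

/-- the central involution there -/
noncomputable def Z0 : Subgroup ↥D.C0 := Subgroup.zpowers (D.iota0 ⟨zc a, zc_mem D.le⟩)

theorem Z0_central : D.Z0 ≤ Subgroup.center ↥D.C0 :=
  Subgroup.zpowers_le.2 (Subgroup.mem_center_iff.2 fun g => Subtype.ext (D.cen g).eq)

instance Z0_normal : D.Z0.Normal :=
  ⟨fun z hz g => by rw [Subgroup.mem_center_iff.1 (D.Z0_central hz) g, mul_inv_cancel_right]; exact hz⟩

theorem mem_Z0 {c : ↥D.C0} : c ∈ D.Z0 ↔ (c : Q) = 1 ∨ (c : Q) = ι (zc a) := by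
  have h2 : D.iota0 ⟨zc a, zc_mem D.le⟩ ^ (2 : ℤ) = 1 := Subtype.ext (by
    rw [zpow_two, Subgroup.coe_mul, Subgroup.coe_one]
    show ι (zc a) * ι (zc a) = 1
    rw [← map_mul, ← map_one ι]
    congr 1
    ext <;> simp [zc, tr] <;> linear_combination two_half D.le)
  constructor
  · rintro ⟨k, rfl⟩
    rcases Int.even_or_odd k with ⟨j, rfl⟩ | ⟨j, rfl⟩
    · left; show ((_ ^ (j + j) : ↥D.C0) : Q) = 1
      rw [← two_mul, zpow_mul, h2, one_zpow]; rfl
    · right; show ((_ ^ (2 * j + 1) : ↥D.C0) : Q) = _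
      rw [zpow_add, zpow_mul, h2, one_zpow, one_mul, zpow_one]; rfl
  · rintro (h | h)
    · rw [show c = 1 from Subtype.ext h]; exact one_mem _
    · rw [show c = D.iota0 ⟨zc a, zc_mem D.le⟩ from Subtype.ext h]; exact Subgroup.mem_zpowers _

/-- the quotient by the central involution -/
abbrev Hq : Type u := ↥D.C0 ⧸ D.Z0

/-- the projection -/
noncomputable def proj : ↥D.C0 →* D.Hq := QuotientGroup.mk' D.Z0

theorem proj_eq_one {c : ↥D.C0} : D.proj c = 1 ↔ (c : Q) = 1 ∨ (c : Q) = ι (zc a) :=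
  (QuotientGroup.eq_one_iff c).trans D.mem_Z0

/-- the kernel of the parity character in the quotient -/
noncomputable def toH : ↥(piHom D.le).ker →* D.Hq := D.proj.comp D.iota0

theorem toH_eq_one {p : ↥(piHom D.le).ker} :
    D.toH p = 1 ↔ (p : W (2 ^ a)) = 1 ∨ (p : W (2 ^ a)) = zc a := by
  refine D.proj_eq_one.trans ?_
  show ι (p : W (2 ^ a)) = 1 ∨ ι (p : W (2 ^ a)) = ι (zc a) ↔ _
  rw [← map_one ι, D.inj.eq_iff, D.inj.eq_iff]

theorem toH_zc : D.toH ⟨zc a, zc_mem D.le⟩ = 1 := D.toH_eq_one.2 (Or.inr rfl)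

/-- the two dihedral sides -/
noncomputable def phi : DG (a - 1) × DG (a - 1) →* D.Hq :=
  MonoidHom.noncommCoprod
    (dihLift (D.toH ⟨rho1 a, rho1_mem D.le⟩) (D.toH ⟨sig1 a, sig1_mem D.le⟩)
      (by rw [← map_pow, show (⟨rho1 a, rho1_mem D.le⟩ : ↥(piHom D.le).ker) ^ 2 ^ (a - 1) = ⟨zc a, zc_mem D.le⟩
        from Subtype.ext (rho_half D.le).1, D.toH_zc])
      (by rw [← map_mul, show (⟨sig1 a, sig1_mem D.le⟩ : ↥(piHom D.le).ker) * ⟨sig1 a, sig1_mem D.le⟩ =
        ⟨zc a, zc_mem D.le⟩ from Subtype.ext (sig_sq D.le).1, D.toH_zc])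
      (by rw [← map_inv, ← map_inv, ← map_mul, ← map_mul]; exact congrArg D.toH (Subtype.ext sig_conj.1)))
    (dihLift (D.toH ⟨rho2 a, rho2_mem D.le⟩) (D.toH ⟨sig2 a, sig2_mem D.le⟩)
      (by rw [← map_pow, show (⟨rho2 a, rho2_mem D.le⟩ : ↥(piHom D.le).ker) ^ 2 ^ (a - 1) = ⟨zc a, zc_mem D.le⟩
        from Subtype.ext (rho_half D.le).2, D.toH_zc])
      (by rw [← map_mul, show (⟨sig2 a, sig2_mem D.le⟩ : ↥(piHom D.le).ker) * ⟨sig2 a, sig2_mem D.le⟩ =
        ⟨zc a, zc_mem D.le⟩ from Subtype.ext (sig_sq D.le).2, D.toH_zc])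
      (by rw [← map_inv, ← map_inv, ← map_mul, ← map_mul]; exact congrArg D.toH (Subtype.ext sig_conj.2)))
    (fun d e => by
      have h : Commute (lift1 D.le d) (lift2 D.le e) := Subtype.ext (lift_commute D.le d e)
      have h' := h.map D.toH
      rcases d with i | i <;> rcases e with j | j <;>
        simp only [lift1, lift2, map_mul, map_pow] at h' <;>
        simp only [dihLift_r, dihLift_sr] <;> exact h')

theorem phi_apply (p : DG (a - 1) × DG (a - 1)) :
    D.phi p = D.toH (lift1 D.le p.1 * lift2 D.le p.2) := by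
  obtain ⟨d, e⟩ := p
  rw [map_mul]
  rcases d with i | i <;> rcases e with j | j <;>
    simp only [phi, MonoidHom.noncommCoprod_apply, lift1, lift2, dihLift_r, dihLift_sr, map_mul, map_pow]

theorem phi_injective : Function.Injective D.phi := by
  refine (injective_iff_map_eq_one _).2 fun p hp => ?_
  rw [D.phi_apply, D.toH_eq_one] at hp
  obtain ⟨h1, h2⟩ := lift_cases D.le hp
  exact Prod.ext h1 h2

theorem phi_mid : D.phi (mid (a - 1), mid (a - 1)) = D.proj ⟨ι (e1 a), D.mem_C0_iff.2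
    (e1_eq D.le ▸ mul_mem (pow_mem (rho1_mem D.le) _) (pow_mem (rho2_mem D.le) _))⟩ := by
  rw [D.phi_apply]
  refine congrArg D.proj (Subtype.ext (congrArg ι ?_))
  rw [show mid (a - 1) = r (CfsgLib.TwoGroups.half (a - 1)) from rfl]
  simp only [lift1, lift2, Subgroup.coe_mul, SubgroupClass.coe_pow]
  have hlt : 2 ^ (a - 1 - 1) < 2 ^ (a - 1) := Nat.pow_lt_pow_right (by norm_num) (by have := D.le; omega)
  rw [CfsgLib.TwoGroups.half, ZMod.val_natCast, Nat.mod_eq_of_lt hlt, show a - 1 - 1 = a - 2 by omega]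
  exact e1_eq D.le

/-- the parity kernel as Sylow subgroup of the subgroup of index two -/
theorem exists_sylow0 : ∃ P : Sylow 2 ↥D.C0, (P : Subgroup ↥D.C0) = D.iota0.range := by
  haveI : Fact (Nat.Prime 2) := ⟨Nat.prime_two⟩
  have he : D.iota0.range = (S : Subgroup Q).subgroupOf D.C0 := by
    ext c
    rw [Subgroup.mem_subgroupOf, ← D.range]
    constructor
    · rintro ⟨p, rfl⟩; exact ⟨p, rfl⟩
    · rintro ⟨p, hp⟩
      exact ⟨⟨p, D.mem_C0_iff.1 (hp ▸ c.2)⟩, Subtype.ext hp⟩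
  have hnd : ¬ 2 ∣ ((S : Subgroup Q).subgroupOf D.C0).index :=
    Nat.two_dvd_ne_zero.2 (Nat.odd_iff.1
      (CfsgLib.TwoFusion.DihedralProduct.odd_relIndex_of_normal S D.C0))
  exact ⟨((S.2.comap_of_injective D.C0.subtype D.C0.subtype_injective) :
    IsPGroup 2 ((S : Subgroup Q).subgroupOf D.C0)).toSylow hnd, he.symm⟩

theorem no_index_two (N : Subgroup ↥D.C0) [N.Normal] : N.index ≠ 2 := by
  intro hN
  obtain ⟨P, hP⟩ := D.exists_sylow0
  -- membership in `N` is constant on classes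
  have hconst : ∀ p : W (2 ^ a), ∀ hp : ι p ∈ D.C0, IsConj (ι p) (ι (e1 a)) →
      ∀ he : ι (e1 a) ∈ D.C0, ((⟨ι p, hp⟩ : ↥D.C0) ∈ N ↔ (⟨ι (e1 a), he⟩ : ↥D.C0) ∈ N) := by
    intro p hp h he
    obtain ⟨g, hg, hgp⟩ := D.fuse_C0 h
    have e : (⟨ι (e1 a), he⟩ : ↥D.C0) = ⟨g, hg⟩ * ⟨ι p, hp⟩ * ⟨g, hg⟩⁻¹ := Subtype.ext hgp.symm
    rw [e]
    refine ⟨fun k => ‹N.Normal›.conj_mem _ k _, fun k => ?_⟩
    have := ‹N.Normal›.conj_mem _ k (⟨g, hg⟩ : ↥D.C0)⁻¹
    rwa [show (⟨g, hg⟩ : ↥D.C0)⁻¹ * (⟨g, hg⟩ * ⟨ι p, hp⟩ * ⟨g, hg⟩⁻¹) * (⟨g, hg⟩ : ↥D.C0)⁻¹⁻¹ = ⟨ι p, hp⟩ by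
      group] at this
  let M : Subgroup (W (2 ^ a)) := (N.map D.C0.subtype).comap ι
  have hM : ∀ p : W (2 ^ a), p ∈ M ↔ ∃ hp : ι p ∈ D.C0, (⟨ι p, hp⟩ : ↥D.C0) ∈ N := fun p =>
    ⟨fun ⟨c, hc, e⟩ => ⟨(show (c : Q) = ι p from e) ▸ c.2,
      (Subtype.ext e : c = ⟨ι p, (show (c : Q) = ι p from e) ▸ c.2⟩) ▸ hc⟩,
      fun ⟨hp, h⟩ => ⟨_, h, rfl⟩⟩
  have he1 : e1 a ∈ (piHom D.le).ker :=
    e1_eq D.le ▸ mul_mem (pow_mem (rho1_mem D.le) _) (pow_mem (rho2_mem D.le) _)
  have huu : (uu : W (2 ^ a)) ∈ (piHom D.le).ker := by rw [mem_parKer_iff]; simp [uu]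
  have hss : (ss : W (2 ^ a)) ∈ (piHom D.le).ker := by rw [mem_parKer_iff]; simp [ss]
  have hiff : ∀ p, p ∈ (piHom D.le).ker → IsConj (ι p) (ι (e1 a)) → (p ∈ M ↔ e1 a ∈ M) := fun p hp h => by
    rw [hM, hM]
    exact ⟨fun ⟨_, k⟩ => ⟨_, (hconst p (D.mem_C0_iff.2 hp) h (D.mem_C0_iff.2 he1)).1 k⟩,
      fun ⟨_, k⟩ => ⟨_, (hconst p (D.mem_C0_iff.2 hp) h (D.mem_C0_iff.2 he1)).2 k⟩⟩
  have hrho : ∀ t, t ∈ (piHom D.le).ker → IsConj (ι (t * uu)) (ι (e1 a)) → t ∈ M := by
    intro t ht h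
    have h1 := hiff uu huu D.fuse_uu
    have h2 := hiff (t * uu) (mul_mem ht huu) h
    rw [hM] at h1 h2 ⊢
    refine ⟨D.mem_C0_iff.2 ht, ?_⟩
    have e : (⟨ι t, D.mem_C0_iff.2 ht⟩ : ↥D.C0) =
        ⟨ι (t * uu), D.mem_C0_iff.2 (mul_mem ht huu)⟩ * ⟨ι uu, D.mem_C0_iff.2 huu⟩ := Subtype.ext (by
      show ι t = ι (t * uu) * ι uu
      rw [← map_mul, mul_assoc, show (uu : W (2 ^ a)) * uu = 1 by ext <;> simp [uu], mul_one])
    rw [e, Subgroup.mul_mem_iff_of_index_two hN]
    exact ⟨fun k => (h1.2 (h2.1 ⟨_, k⟩)).2, fun k => (h2.2 (h1.1 ⟨_, k⟩)).2⟩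
  have h1 : rho1 a ∈ M := hrho _ (rho1_mem D.le) D.fuse_u11
  have h2 : rho2 a ∈ M := hrho _ (rho2_mem D.le) D.fuse_u1m
  have he : e1 a ∈ M := e1_eq D.le ▸ mul_mem (pow_mem h1 _) (pow_mem h2 _)
  have hle := parKer_le D.le h1 h2 ((hiff uu huu D.fuse_uu).2 he) ((hiff ss hss D.fuse_ss).2 he)
  have hPN : (P : Subgroup ↥D.C0) ≤ N := by
    rw [hP]
    rintro _ ⟨p, rfl⟩
    obtain ⟨hp, h⟩ := (hM _).1 (hle p.2)
    exact h
  exact P.not_dvd_index ((dvd_of_eq hN.symm).trans (Subgroup.index_dvd_of_le hPN))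

/-- the marking: the square roots of the central involution -/
def eps (h : D.Hq) : Prop := ∀ c : ↥D.C0, D.proj c = h → (c : Q) * c = ι (zc a)

theorem eps_proj (c : ↥D.C0) : D.eps (D.proj c) ↔ (c : Q) * c = ι (zc a) := by
  refine ⟨fun h => h c rfl, fun h d hd => ?_⟩
  have hz : ι (zc a) * ι (zc a) = 1 := by
    rw [← map_mul, ← map_one ι]; congr 1; ext <;> simp [zc, tr] <;> linear_combination two_half D.le
  have hd' : D.proj (c⁻¹ * d) = 1 := by rw [map_mul, map_inv, hd, inv_mul_cancel]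
  rcases D.proj_eq_one.1 hd' with e | e
  · have : (d : Q) = c := (inv_mul_eq_one.1 e).symm
    rw [this]; exact h
  · have : (d : Q) = c * ι (zc a) := inv_mul_eq_iff_eq_mul.1 e
    rw [this, mul_assoc (c : Q), ← mul_assoc (ι (zc a)), ← (D.cen c).eq, mul_assoc (c : Q), hz, mul_one, h]

theorem exists_halves : ∃ SH : Sylow 2 D.Hq, Halves SH (a - 1) D.phi D.eps := by
  haveI : Fact (Nat.Prime 2) := ⟨Nat.prime_two⟩
  obtain ⟨P, hP⟩ := D.exists_sylow0
  refine ⟨P.mapSurjective (QuotientGroup.mk'_surjective _), ?_⟩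
  have hcard : Nat.card ↥(piHom D.le).ker = 2 * (2 ^ a) ^ 2 := by
    have h := (piHom D.le).ker.card_mul_index
    have hs : Function.Surjective (piHom D.le) := fun c => by
      rcases flag_cases c with rfl | rfl
      · exact ⟨1, map_one _⟩
      · exact ⟨tr 1 0, by
          show Multiplicative.ofAdd (par D.le ((tr (1 : ZMod (2 ^ a)) 0).x + (tr (1 : ZMod (2 ^ a)) 0).y)) = _
          simp [tr]⟩
    rw [Subgroup.index_ker, MonoidHom.range_eq_top.2 hs, W.card_eq,
      show Nat.card (⊤ : Subgroup (Multiplicative (ZMod 2))) = 2 by simp] at h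
    omega
  have hsub : D.phi.range ≤ D.toH.range := by
    rintro _ ⟨p, rfl⟩; rw [D.phi_apply]; exact ⟨_, rfl⟩
  have hrange : D.phi.range = D.toH.range := by
    refine Subgroup.eq_of_le_of_card_ge hsub ?_
    have hk : 2 * Nat.card D.toH.range ≤ Nat.card ↥(piHom D.le).ker := by
      rw [← Subgroup.card_mul_index D.toH.ker, ← Subgroup.index_ker]
      refine Nat.mul_le_mul_right _ ?_
      refine Nat.succ_le_of_lt (Finite.one_lt_card_iff_nontrivial.2 ?_)
      refine ⟨⟨1, ⟨⟨zc a, zc_mem D.le⟩, D.toH_zc⟩, fun e => zc_ne_one D.le ?_⟩⟩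
      exact (congrArg (fun w : D.toH.ker => ((w : ↥(piHom D.le).ker) : W (2 ^ a))) e).symm
    rw [hcard] at hk
    rw [← Nat.card_congr (MonoidHom.ofInjective D.phi_injective).toEquiv, Nat.card_prod,
      DihedralGroup.nat_card]
    have e : 2 * 2 ^ (a - 1) = 2 ^ a := by rw [← pow_succ', Nat.sub_add_cancel (by have := D.le; omega)]
    rw [e, ← pow_two]
    omega
  have hpure : ∀ p : DG (a - 1) × DG (a - 1), p * p = 1 → p ≠ 1 →
      (D.eps (D.phi p) ↔ p.1 = 1 ∨ p.2 = 1) := by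
    intro p hp hp1
    rw [D.phi_apply]
    refine (D.eps_proj _).trans ?_
    show ι _ * ι _ = ι (zc a) ↔ _
    rw [← map_mul, D.inj.eq_iff, Subgroup.subtype_apply, Subgroup.coe_mul]
    obtain ⟨d, e⟩ := p
    have hc := lift_commute D.le d e
    rw [hc.symm.mul_mul_mul_comm]
    have hz : zc a * zc a = 1 := by ext <;> simp [zc, tr] <;> linear_combination two_half D.le
    have hd : d * d = 1 := congrArg Prod.fst hp
    have he : e * e = 1 := congrArg Prod.snd hp
    by_cases h1 : d = 1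
    · subst h1
      have he1 : e ≠ 1 := fun h => hp1 (Prod.ext rfl h)
      rw [(lift_sq D.le he he1).2, show lift1 D.le (1 : DG (a - 1)) = 1 by
        show _ ^ (0 : ZMod (2 ^ (a - 1))).val = 1
        rw [ZMod.val_zero, pow_zero], Subgroup.coe_one, one_mul, one_mul]
      exact iff_of_true rfl (Or.inl rfl)
    · rw [(lift_sq D.le hd h1).1]
      by_cases h2 : e = 1
      · subst h2
        rw [show lift2 D.le (1 : DG (a - 1)) = 1 by
          show _ ^ (0 : ZMod (2 ^ (a - 1))).val = 1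
          rw [ZMod.val_zero, pow_zero], Subgroup.coe_one, one_mul, mul_one]
        exact iff_of_true rfl (Or.inr rfl)
      · rw [(lift_sq D.le he h2).2, hz]
        exact iff_of_false (fun h => zc_ne_one D.le h.symm) (by simp [h1, h2])
  have hfuse : ∀ (p : DG (a - 1) × DG (a - 1)) (q : W (2 ^ a)), IsConj (ι q) (ι (e1 a)) →
      ((lift1 D.le p.1 : W (2 ^ a)) * lift2 D.le p.2 = q ∨
        (lift1 D.le p.1 : W (2 ^ a)) * lift2 D.le p.2 = zc a * q) →
      IsConj (D.phi (mid (a - 1), mid (a - 1))) (D.phi p) := by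
    intro p q hq hpq
    obtain ⟨g, hg, hgq⟩ := D.fuse_C0 hq
    have hmem : ι q ∈ D.C0 := by
      rw [show ι q = g⁻¹ * ι (e1 a) * g by rw [← hgq]; group]
      exact mul_mem (mul_mem (inv_mem hg) (D.mem_C0_iff.2 (e1_eq D.le ▸
        mul_mem (pow_mem (rho1_mem D.le) _) (pow_mem (rho2_mem D.le) _)))) hg
    have hp : D.phi p = D.proj ⟨ι q, hmem⟩ := by
      rw [D.phi_apply]
      rcases hpq with e | e
      · exact congrArg D.proj (Subtype.ext (congrArg ι e))
      · have : D.iota0 (lift1 D.le p.1 * lift2 D.le p.2) =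
            D.iota0 ⟨zc a, zc_mem D.le⟩ * ⟨ι q, hmem⟩ := Subtype.ext (by
          show ι _ = ι (zc a) * ι q
          rw [← map_mul, Subgroup.subtype_apply, Subgroup.coe_mul, e])
        show D.proj (D.iota0 _) = _
        rw [this, map_mul, show D.proj (D.iota0 ⟨zc a, zc_mem D.le⟩) = 1 from D.toH_zc, one_mul]
    rw [D.phi_mid, hp]
    refine (D.proj.map_isConj (isConj_iff.2 ⟨⟨g, hg⟩, Subtype.ext ?_⟩)).symm
    exact hgq
  have hl0 : ((lift1 D.le (sr 0) : W (2 ^ a)), (lift2 D.le (sr 0) : W (2 ^ a))) = (sig1 a, sig2 a) := by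
    simp only [lift1, lift2, Subgroup.coe_mul, SubgroupClass.coe_pow, ZMod.val_zero, pow_zero, mul_one]
  have hl1 : ((lift1 D.le (sr 1) : W (2 ^ a)), (lift2 D.le (sr 1) : W (2 ^ a))) =
      (sig1 a * rho1 a, sig2 a * rho2 a) := by
    haveI : Fact (1 < 2 ^ (a - 1)) := ⟨Nat.one_lt_two_pow (by have := D.le; omega)⟩
    simp only [lift1, lift2, Subgroup.coe_mul, SubgroupClass.coe_pow, ZMod.val_one, pow_one]
  obtain ⟨l10, l20⟩ := Prod.ext_iff.1 hl0
  obtain ⟨l11, l21⟩ := Prod.ext_iff.1 hl1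
  simp only at l10 l20 l11 l21
  refine ⟨⟨by have := D.le; omega, by have := D.le; omega, D.phi_injective, ?_⟩, ?_, ?_, ?_, hpure, ?_, ?_, ?_⟩
  · rw [hrange, Sylow.coe_mapSurjective, hP]
    exact MonoidHom.range_comp _ _
  · haveI : D.C0.Normal := inferInstance
    refine CfsgLib.TwoFusion.DihedralProduct.oddCore_quotient_central D.Z0 D.Z0_central ?_ ?_
    · refine IsPGroup.of_card (n := 1) ?_
      rw [Z0, Nat.card_zpowers, pow_one]
      refine orderOf_eq_prime ?_ fun e => zc_ne_one D.le (D.inj ?_)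
      · have h := D.toH_eq_one.2 (Or.inr rfl : ((⟨zc a, zc_mem D.le⟩ : ↥(piHom D.le).ker) : W (2 ^ a)) = 1 ∨ _)
        rw [← map_pow]
        refine (congrArg D.iota0 (Subtype.ext ?_)).trans (map_one _)
        show zc a ^ 2 = 1
        rw [pow_two]; ext <;> simp [zc, tr] <;> linear_combination two_half D.le
      · rw [map_one]; exact congrArg Subtype.val e
    · have h := CfsgLib.Core.map_subtype_pPrimeCore_le (p := 2) D.C0
      rw [show Cfsg.pPrimeCore 2 Q = ⊥ from D.core, le_bot_iff,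
        Subgroup.map_eq_bot_iff_of_injective _ D.C0.subtype_injective] at h
      exact h
  · intro N hN hi
    haveI := hN
    refine D.no_index_two (N.comap D.proj) ?_
    rw [Subgroup.index_comap_of_surjective (f := D.proj) _ (QuotientGroup.mk'_surjective _), hi]
  · intro g h hh c hc
    obtain ⟨g', rfl⟩ := QuotientGroup.mk'_surjective D.Z0 g
    have := hh (g'⁻¹ * c * g') (by
      rw [map_mul, map_mul, map_inv, hc]; show (D.proj g')⁻¹ * (D.proj g' * h * (D.proj g')⁻¹) * D.proj g' = h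
      group)
    rw [show (c : Q) * c = (g' : Q) * (((g'⁻¹ * c * g' : ↥D.C0) : Q) * ((g'⁻¹ * c * g' : ↥D.C0) : Q)) *
      (g' : Q)⁻¹ by simp only [Subgroup.coe_mul, Subgroup.coe_inv]; group, this, (D.cen _).eq,
      mul_inv_cancel_right]
  · refine hfuse _ uu D.fuse_uu (Or.inr ?_)
    rw [l10, l20]
    ext <;> simp [sig1, sig2, e1, us, ss, uu, zc, tr] <;>
      first
        | linear_combination -(two_half D.le)
        | linear_combination (two_half D.le)
  · refine hfuse (sr 1, sr 0) (⟨-1, -1, true, false⟩ : W (2 ^ a))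
      ((ι.map_isConj (W.conj_of_par D.le rfl rfl (by simp [tr, uu]) (by simp [tr, uu]) (by simp [tr, uu])
        (by simp [tr, uu]))).trans D.fuse_u11) (Or.inr ?_)
    rw [l11, l20]
    ext <;> simp [sig1, sig2, rho1, e1, us, ss, zc, tr] <;>
      first
        | linear_combination -(two_half D.le)
        | linear_combination (two_half D.le)
        | linear_combination (0 : ZMod (2 ^ a)) * two_half D.le
  · refine hfuse (sr 0, sr 1) (⟨-1, 1, true, false⟩ : W (2 ^ a))
      ((ι.map_isConj (W.conj_of_par D.le rfl rfl (by simp [tr, uu]) (by simp [tr, uu]) (by simp [tr, uu])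
        (by simp [tr, uu]))).trans D.fuse_u11) (Or.inr ?_)
    rw [l10, l21]
    ext <;> simp [sig1, sig2, rho2, e1, us, ss, zc, tr] <;>
      first
        | linear_combination -(two_half D.le)
        | linear_combination (two_half D.le)
        | linear_combination (0 : ZMod (2 ^ a)) * two_half D.le

end CentCtx

end CfsgLib.Recog.G2Sylow
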