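import Cfsg.Agent.Lib.Recog.G2Sylow.Model
import Cfsg.Agent.Lib.Lie.Rel.SL2
import Cfsg.Agent.Lib.Lie.Rel.Inst
import Cfsg.Agent.Lib.Lie.Chev.All
import Cfsg.Agent.Lib.Lie.Twisted.G2Torus
import Cfsg.Agent.Lib.Known.TrialityTorus.Tools
import Cfsg.Agent.Lib.Known.ClassSquare.G2

/-!
# `G₂(F)` receives the pairs of elements of `GL₂(F)` with equal determinant

The two commuting root subgroups `SL₂` belong to `a` and `3a + 2b`; the torus supplies the common
determinant (owner: helper28).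
-/

set_option autoImplicit false
set_option maxRecDepth 20000

namespace CfsgLib.Recog.G2Sylow

open Cfsg.Lie CfsgLib.Lie.Chev CfsgLib.Lie.Chev.TwGroups
open scoped MatrixGroups

variable {F : Type*} [Field F]

theorem mem_of_gens (H : Subgroup SL(2, F)) (hX : ∀ t, Rel.slX t ∈ H) (hW : Rel.slW ∈ H) (g : SL(2, F)) :
    g ∈ H := by
  have hY : ∀ t, Rel.slW * Rel.slX (-t) * (Rel.slW * Rel.slW * Rel.slW) ∈ H := fun t =>
    mul_mem (mul_mem hW (hX _)) (mul_mem (mul_mem hW hW) hW)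
  have hdet : g.1 0 0 * g.1 1 1 - g.1 0 1 * g.1 1 0 = 1 := by rw [← Matrix.det_fin_two]; exact g.2
  have hm : ∀ g h : SL(2, F), (g * h).1 = g.1 * h.1 := fun _ _ => rfl
  by_cases hc : g.1 1 0 = 0
  · have ha : g.1 0 0 ≠ 0 := fun h => by rw [h, hc] at hdet; simp at hdet
    have e : g = Rel.slX (g.1 0 0) * (Rel.slW * Rel.slX (-(-(g.1 0 0)⁻¹)) * (Rel.slW * Rel.slW * Rel.slW)) *
        Rel.slX (g.1 0 0) * Rel.slW * Rel.slX (g.1 0 1 / g.1 0 0) := by
      apply Subtype.ext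
      ext i j
      fin_cases i <;> fin_cases j <;>
        simp [Rel.slX_val, Rel.slW_val, hm, Matrix.mul_apply, Fin.sum_univ_two, hc, ha]
      · field_simp
      · rw [hc] at hdet
        field_simp
        linear_combination hdet
    rw [e]
    exact mul_mem (mul_mem (mul_mem (mul_mem (hX _) (hY _)) (hX _)) hW) (hX _)
  · have e : g = Rel.slX (g.1 0 0 / g.1 1 0) * (Rel.slX (-(g.1 1 0)⁻¹) *
        (Rel.slW * Rel.slX (-(g.1 1 0)) * (Rel.slW * Rel.slW * Rel.slW)) * Rel.slX (-(g.1 1 0)⁻¹)) *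
        Rel.slX (g.1 1 1 / g.1 1 0) := by
      apply Subtype.ext
      ext i j
      fin_cases i <;> fin_cases j <;>
        simp [Rel.slX_val, Rel.slW_val, hm, Matrix.mul_apply, Fin.sum_univ_two, hc]
      · field_simp
        linear_combination -hdet
      · field_simp
    rw [e]
    exact mul_mem (mul_mem (hX _) (mul_mem (mul_mem (hX _) (hY _)) (hX _))) (hX _)

theorem sl_hom_ext {M : Type*} [Group M] {φ ψ : SL(2, F) →* M}
    (hX : ∀ t, φ (Rel.slX t) = ψ (Rel.slX t)) (hW : φ Rel.slW = ψ Rel.slW) : φ = ψ :=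
  MonoidHom.ext fun g => mem_of_gens (φ.eqLocus ψ) hX hW g

theorem dataG2 : chevG2.nroots = 12 ∧ chevG2.neg 7 = 4 ∧ chevG2.neg 11 = 0 ∧ auxG2.w 1 10 = 11 ∧
    chevG2.cartan 0 7 = 2 ∧ chevG2.cartan 1 7 = -1 ∧ chevG2.cartan 0 11 = 0 ∧ chevG2.cartan 1 11 = 1 ∧
    chevG2.cartan 0 6 = -3 ∧ chevG2.cartan 1 6 = 2 ∧
    ([(7, 11), (7, 0), (4, 11), (4, 0)].all fun p =>
      CfsgLib.Lie.Chev.TwoGen.indep chevG2 p.1 p.2 && (chevG2.commTerms p.1 p.2).isEmpty) = true := by
  decide +kernel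

/-- the short root `a` -/
def rA : Fin chevG2.nroots := ⟨7, by rw [dataG2.1]; norm_num⟩

/-- the long root `3a + 2b` -/
def rC : Fin chevG2.nroots := ⟨11, by rw [dataG2.1]; norm_num⟩

theorem commute_roots (t u : F) :
    Commute ((chevRel certG2 F).xe 7 t) ((chevRel certG2 F).xe 11 u) ∧
    Commute ((chevRel certG2 F).xe 7 t) ((chevRel certG2 F).xe 0 u) ∧
    Commute ((chevRel certG2 F).xe 4 t) ((chevRel certG2 F).xe 11 u) ∧
    Commute ((chevRel certG2 F).xe 4 t) ((chevRel certG2 F).xe 0 u) := by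
  have h := dataG2.2.2.2.2.2.2.2.2.2.2
  simp only [List.all_cons, List.all_nil, Bool.and_true, Bool.and_eq_true, List.isEmpty_iff] at h
  obtain ⟨⟨h1, e1⟩, ⟨h2, e2⟩, ⟨h3, e3⟩, h4, e4⟩ := h
  open CfsgLib.Known.ClassSquare.Chev in
  exact ⟨indep_commute _ h1 e1 t u, indep_commute _ h2 e2 t u, indep_commute _ h3 e3 t u,
    indep_commute _ h4 e4 t u⟩

theorem commute_ne {x : ↥(chevG2.group F)} {r : ℕ}
    (h1 : ∀ t, Commute x ((chevRel certG2 F).xe r t))
    (h2 : ∀ t, Commute x ((chevRel certG2 F).xe (chevG2.neg r) t)) (c : F) :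
    Commute x ((chevRel certG2 F).ne r c) :=
  ((h1 _).mul_right (h2 _)).mul_right (h1 _)

theorem sl_commute (g h : SL(2, F)) :
    Commute ((chevRel certG2 F).slHom rA g) ((chevRel certG2 F).slHom rC h) := by
  have n7 : chevG2.neg (rA : ℕ) = 4 := dataG2.2.1
  have n11 : chevG2.neg (rC : ℕ) = 0 := dataG2.2.2.1
  have hA : ∀ (g : SL(2, F)) (x : ↥(chevG2.group F)), (∀ t, Commute x ((chevRel certG2 F).xe 7 t)) →
      (∀ t, Commute x ((chevRel certG2 F).xe 4 t)) → Commute x ((chevRel certG2 F).slHom rA g) := by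
    intro g x h1 h2
    refine mem_of_gens ((Subgroup.centralizer {x}).comap ((chevRel certG2 F).slHom rA)) (fun t => ?_) ?_ g |>
      fun hm => (Subgroup.mem_centralizer_singleton_iff.1 hm).symm
    · rw [Subgroup.mem_comap, Subgroup.mem_centralizer_singleton_iff]
      show (chevRel certG2 F).slMap rA _ * x = x * (chevRel certG2 F).slMap rA _
      rw [(chevRel certG2 F).slMap_slX]
      exact (h1 t).symm
    · rw [Subgroup.mem_comap, Subgroup.mem_centralizer_singleton_iff]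
      show (chevRel certG2 F).slMap rA _ * x = x * (chevRel certG2 F).slMap rA _
      rw [(chevRel certG2 F).slMap_slW]
      exact (commute_ne h1 (by rw [show chevG2.neg 7 = 4 from n7]; exact h2) (-1)).symm
  have hC : ∀ t, Commute ((chevRel certG2 F).slHom rA g) ((chevRel certG2 F).xe 11 t) ∧
      Commute ((chevRel certG2 F).slHom rA g) ((chevRel certG2 F).xe 0 t) := fun t =>
    ⟨(hA g _ (fun u => (commute_roots u t).1.symm) fun u => (commute_roots u t).2.2.1.symm).symm,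
      (hA g _ (fun u => (commute_roots u t).2.1.symm) fun u => (commute_roots u t).2.2.2.symm).symm⟩
  refine mem_of_gens ((Subgroup.centralizer {(chevRel certG2 F).slHom rA g}).comap
    ((chevRel certG2 F).slHom rC)) (fun t => ?_) ?_ h |>
      fun hm => (Subgroup.mem_centralizer_singleton_iff.1 hm).symm
  · rw [Subgroup.mem_comap, Subgroup.mem_centralizer_singleton_iff]
    show (chevRel certG2 F).slMap rC _ * _ = _ * (chevRel certG2 F).slMap rC _
    rw [(chevRel certG2 F).slMap_slX]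
    exact (hC t).1.symm
  · rw [Subgroup.mem_comap, Subgroup.mem_centralizer_singleton_iff]
    show (chevRel certG2 F).slMap rC _ * _ = _ * (chevRel certG2 F).slMap rC _
    rw [(chevRel certG2 F).slMap_slW]
    exact (commute_ne (fun u => (hC u).1) (by
      rw [show chevG2.neg 11 = 0 from n11]; exact fun u => (hC u).2) (-1)).symm

/-- the torus element with both parameters `δ` -/
noncomputable def dHom : Fˣ →* ↥(chevG2.group F) where
  toFun δ := (chevRel certG2 F).torusG (tupG2 δ δ)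
  map_one' := by
    rw [show tupG2 (1 : Fˣ) 1 = 1 from funext fun i => by
      unfold tupG2
      rcases i with ⟨_ | _ | n, hn⟩ <;> simp, map_one]
  map_mul' a b := by
    rw [← map_mul]
    congr 1
    funext i
    unfold tupG2
    rcases i with ⟨_ | _ | n, hn⟩ <;> simp

/-- conjugation of `SL₂` by `diag(δ, 1)` -/
def conjD (δ : Fˣ) : SL(2, F) →* SL(2, F) where
  toFun g := ⟨!![g.1 0 0, (δ : F) * g.1 0 1; (↑δ⁻¹ : F) * g.1 1 0, g.1 1 1], by
    have h := g.2
    rw [Matrix.det_fin_two] at h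
    rw [Matrix.det_fin_two_of, mul_mul_mul_comm, Units.mul_inv, one_mul, h]⟩
  map_one' := by
    apply Subtype.ext
    ext i j
    fin_cases i <;> fin_cases j <;> simp
  map_mul' g h := by
    apply Subtype.ext
    have hm : ∀ g h : SL(2, F), (g * h).1 = g.1 * h.1 := fun _ _ => rfl
    have hδ : (δ : F) ≠ 0 := δ.ne_zero
    show !![(g * h).1 0 0, (δ : F) * (g * h).1 0 1; (↑δ⁻¹ : F) * (g * h).1 1 0, (g * h).1 1 1] =
      !![g.1 0 0, (δ : F) * g.1 0 1; (↑δ⁻¹ : F) * g.1 1 0, g.1 1 1] *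
        !![h.1 0 0, (δ : F) * h.1 0 1; (↑δ⁻¹ : F) * h.1 1 0, h.1 1 1]
    ext i j
    fin_cases i <;> fin_cases j <;> simp [hm, Matrix.mul_apply, Fin.sum_univ_two] <;> field_simp

theorem conjD_val (δ : Fˣ) (g : SL(2, F)) :
    (conjD δ g).1 = !![g.1 0 0, (δ : F) * g.1 0 1; (↑δ⁻¹ : F) * g.1 1 0, g.1 1 1] := rfl

theorem dHom_scalar (δ : Fˣ) : ∃ a, (chevRel certG2 F).IsMon (dHom δ) 1 a ∧
    a rA = (δ : F) ∧ a rC = (δ : F) := by
  refine ⟨_, CfsgLib.Known.TrialityTorus.isMon_torusHom (chevRel certG2 F) (tupG2 δ δ), ?_, ?_⟩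
  all_goals
    have hsum : ∀ f : Fin chevG2.rank → Fˣ, ∏ i, f i = f ⟨0, by decide⟩ * f ⟨1, by decide⟩ := fun f =>
      Fin.prod_univ_two (f := f)
    obtain ⟨-, -, -, -, k1, k2, k3, k4, -⟩ := dataG2
    simp only [hsum, tupG2, rA, rC, k1, k2, k3, k4, List.getD_cons_zero, List.getD_cons_succ]
    simp <;> field_simp

theorem dHom_conj {r : Fin chevG2.nroots} (δ : Fˣ)
    (hr : ∀ a, (chevRel certG2 F).IsMon (dHom δ) 1 a → a r = (δ : F)) (g : SL(2, F)) :
    dHom δ * (chevRel certG2 F).slHom r g * (dHom δ)⁻¹ = (chevRel certG2 F).slHom r (conjD δ g) := by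
  obtain ⟨a, ha, -, -⟩ := dHom_scalar δ
  have har := hr a ha
  have key : (MulAut.conj (dHom δ)).toMonoidHom.comp ((chevRel certG2 F).slHom r) =
      ((chevRel certG2 F).slHom r).comp (conjD δ) := by
    refine sl_hom_ext (fun t => ?_) ?_
    · show dHom δ * (chevRel certG2 F).slMap r _ * (dHom δ)⁻¹ = (chevRel certG2 F).slMap r _
      rw [show conjD δ (Rel.slX t) = Rel.slX ((δ : F) * t) from Subtype.ext (by
        ext i j; fin_cases i <;> fin_cases j <;> simp [conjD_val, Rel.slX_val]),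
        (chevRel certG2 F).slMap_slX, (chevRel certG2 F).slMap_slX, (ha r).2.2.2, har, Equiv.Perm.one_apply]
    · show dHom δ * (chevRel certG2 F).slMap r _ * (dHom δ)⁻¹ = (chevRel certG2 F).slHom r _
      rw [(chevRel certG2 F).slMap_slW, Rel.IsMon.conj_ne _ ha r (-1), har, Equiv.Perm.one_apply,
        CfsgLib.Known.TrialityTorus.slHom_of_ne _ r (conjD δ Rel.slW) (a := 0) (b := -(δ : F)) (c := (δ : F)⁻¹)
          (d := 0) (by ext i j; fin_cases i <;> fin_cases j <;> simp [conjD_val, Rel.slW_val]) (by simp),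
        zero_div, (chevRel certG2 F).xe_zero, one_mul, mul_one, inv_inv, mul_neg, mul_one]
  exact DFunLike.congr_fun key g

/-- the scalar matrices -/
def sc : Fˣ →* GL (Fin 2) F := Units.map (Matrix.scalar (Fin 2)).toMonoidHom

/-- pairs of equal determinant -/
def pairs (F : Type*) [Field F] : Subgroup (GL (Fin 2) F × GL (Fin 2) F) :=
  (Matrix.GeneralLinearGroup.det.comp (MonoidHom.fst _ _)).eqLocus
    (Matrix.GeneralLinearGroup.det.comp (MonoidHom.snd _ _))

/-- the part of determinant one -/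
def slPart (g : GL (Fin 2) F) : SL(2, F) :=
  ⟨!![(↑(Matrix.GeneralLinearGroup.det g)⁻¹ : F) * g.1 0 0, (↑(Matrix.GeneralLinearGroup.det g)⁻¹ : F) * g.1 0 1;
      g.1 1 0, g.1 1 1], by
    rw [Matrix.det_fin_two_of, mul_assoc, mul_assoc, ← mul_sub, ← Matrix.det_fin_two,
      ← Matrix.GeneralLinearGroup.val_det_apply]
    exact Units.inv_mul _⟩

theorem slPart_val (g : GL (Fin 2) F) : (slPart g).1 =
    !![(↑(Matrix.GeneralLinearGroup.det g)⁻¹ : F) * g.1 0 0, (↑(Matrix.GeneralLinearGroup.det g)⁻¹ : F) * g.1 0 1;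
      g.1 1 0, g.1 1 1] := rfl

theorem slPart_mul (g h : GL (Fin 2) F) :
    slPart (g * h) = conjD (Matrix.GeneralLinearGroup.det h)⁻¹ (slPart g) * slPart h := by
  apply Subtype.ext
  have hm : ∀ g h : SL(2, F), (g * h).1 = g.1 * h.1 := fun _ _ => rfl
  rw [hm]
  have hg : ((Matrix.GeneralLinearGroup.det g : Fˣ) : F) ≠ 0 := Units.ne_zero _
  have hh : ((Matrix.GeneralLinearGroup.det h : Fˣ) : F) ≠ 0 := Units.ne_zero _
  have hh' : (h : Matrix (Fin 2) (Fin 2) F).det ≠ 0 := hh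
  ext i j
  fin_cases i <;> fin_cases j <;>
    simp [slPart_val, conjD_val, Matrix.mul_apply, Fin.sum_univ_two, Units.val_mul, hh'] <;> field_simp

theorem slPart_one : slPart (1 : GL (Fin 2) F) = 1 := by
  apply Subtype.ext
  ext i j
  fin_cases i <;> fin_cases j <;> simp [slPart]

/-- The map from the pairs into `G₂(F)`. -/
noncomputable def psi : ↥(pairs F) →* ↥(chevG2.group F) :=
  MonoidHom.mk' (fun p => dHom (Matrix.GeneralLinearGroup.det p.1.1) *
    ((chevRel certG2 F).slHom rA (slPart p.1.1) * (chevRel certG2 F).slHom rC (slPart p.1.2)))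
    fun p q => by
      have hq : Matrix.GeneralLinearGroup.det q.1.2 = Matrix.GeneralLinearGroup.det q.1.1 := q.2.symm
      obtain ⟨a, ha, haA, haC⟩ := dHom_scalar (Matrix.GeneralLinearGroup.det q.1.1)⁻¹
      have hA := dHom_conj (r := rA) (Matrix.GeneralLinearGroup.det q.1.1)⁻¹ (fun b hb => by
        rw [((chevRel certG2 F).isMon_unique hb ha).2]; exact haA) (slPart p.1.1)
      have hC := dHom_conj (r := rC) (Matrix.GeneralLinearGroup.det q.1.1)⁻¹ (fun b hb => by
        rw [((chevRel certG2 F).isMon_unique hb ha).2]; exact haC) (slPart p.1.2)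
      simp only [Subgroup.coe_mul, Prod.fst_mul, Prod.snd_mul, slPart_mul, map_mul, hq]
      rw [← hA, ← hC, map_inv, inv_inv]
      have hc := (sl_commute (slPart q.1.1) (conjD (Matrix.GeneralLinearGroup.det q.1.1)⁻¹ (slPart p.1.2))).eq
      rw [← hC, map_inv, inv_inv] at hc
      generalize dHom (Matrix.GeneralLinearGroup.det p.1.1) = dp
      generalize (chevRel certG2 F).slHom rA (slPart p.1.1) = Ap
      generalize (chevRel certG2 F).slHom rA (slPart q.1.1) = Aq at hc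
      generalize (chevRel certG2 F).slHom rC (slPart p.1.2) = Cp at hc
      generalize (chevRel certG2 F).slHom rC (slPart q.1.2) = Cq
      generalize dHom (Matrix.GeneralLinearGroup.det q.1.1) = dq at hc
      calc dp * dq * (dq⁻¹ * Ap * dq * Aq * (dq⁻¹ * Cp * dq * Cq))
          = dp * Ap * dq * (Aq * (dq⁻¹ * Cp * dq)) * Cq := by group
        _ = dp * Ap * dq * ((dq⁻¹ * Cp * dq) * Aq) * Cq := by rw [hc]
        _ = dp * (Ap * Cp) * (dq * (Aq * Cq)) := by group

theorem he11_eq {c : F} (hc : c ≠ 0) :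
    (chevRel certG2 F).he 11 c = (chevRel certG2 F).he 7 c * (chevRel certG2 F).he 6 (c ^ (2 : ℕ)) := by
  obtain ⟨⟨s0, s1⟩, -⟩ := simpleG2
  obtain ⟨-, -, -, w11, -, -, -, -, k06, k16, -⟩ := dataG2
  have l0 : 0 < chevG2.rank := by decide
  have l1 : 1 < chevG2.rank := by decide
  have h1 := (chevRel certG2 F).he_conj ((chevRel certG2 F).isMon_ne_simple ⟨1, l1⟩ one_ne_zero)
    ⟨10, by rw [dataG2.1]; norm_num⟩ hc
  have h2 := (chevRel certG2 F).ne_conj_he_eq ⟨0, l0⟩ ⟨1, l1⟩ hc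
  have h3 := (chevRel certG2 F).ne_conj_he_eq ⟨1, l1⟩ ⟨1, l1⟩ hc
  simp only [Rel.wperm_apply, w11, s0, s1] at h1 h2 h3 k06
  rw [k06] at h2
  rw [k16] at h3
  rw [he10_eq hc, conj_mul.symm, h2, h3] at h1
  rw [← h1]
  have hH : ∀ {d : F}, d ≠ 0 → (chevRel certG2 F).he 6 d ∈ (chevRel certG2 F).HS := fun {d} hd => by
    have := (chevRel certG2 F).he_mem_HS ⟨1, l1⟩ hd; rwa [show chevG2.simple 1 = 6 from s1] at this
  have hH7 : ∀ {d : F}, d ≠ 0 → (chevRel certG2 F).he 7 d ∈ (chevRel certG2 F).HS := fun {d} hd => by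
    have := (chevRel certG2 F).he_mem_HS ⟨0, l0⟩ hd; rwa [show chevG2.simple 0 = 7 from s0] at this
  have hmul : ∀ {d e : F}, d ≠ 0 → e ≠ 0 → (chevRel certG2 F).he 6 d * (chevRel certG2 F).he 6 e =
      (chevRel certG2 F).he 6 (d * e) := fun {d e} hd he' =>
    (chevRel certG2 F).he_mul ⟨6, by rw [dataG2.1]; norm_num⟩ hd he'
  have hi : c⁻¹ ^ (2 : ℤ) ≠ 0 := zpow_ne_zero _ (inv_ne_zero hc)
  have hi3 : c⁻¹ ^ (-3 : ℤ) ≠ 0 := zpow_ne_zero _ (inv_ne_zero hc)
  rw [hmul hc hi, ← mul_assoc,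
    (chevRel certG2 F).HS_isMulCommutative (hH (mul_ne_zero hc hi)) (hH7 hc), mul_assoc,
    hmul (mul_ne_zero hc hi) hi3]
  congr 2
  simp only [zpow_neg, inv_zpow, inv_inv, zpow_ofNat, inv_pow]
  field_simp

theorem slPart_sc (t : Fˣ) : (slPart (sc t)).1 = !![((t : F))⁻¹, 0; 0, ((t : F)⁻¹)⁻¹] := by
  have hd : ((Matrix.GeneralLinearGroup.det (sc t) : Fˣ) : F) = (t : F) * t := by
    rw [Matrix.GeneralLinearGroup.val_det_apply]
    simp [sc, Matrix.det_fin_two, pow_two]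
  ext i j
  fin_cases i <;> fin_cases j <;> simp [slPart, hd] <;> simp [sc]

theorem psi_scalar (t : Fˣ) (h : ((sc t, sc t) : GL (Fin 2) F × GL (Fin 2) F) ∈ pairs F) :
    psi ⟨(sc t, sc t), h⟩ = 1 := by
  show dHom (Matrix.GeneralLinearGroup.det (sc t)) *
    ((chevRel certG2 F).slHom rA (slPart (sc t)) * (chevRel certG2 F).slHom rC (slPart (sc t))) = 1
  rw [CfsgLib.Known.TrialityTorus.slHom_diag _ rA _ (slPart_sc t),
    CfsgLib.Known.TrialityTorus.slHom_diag _ rC _ (slPart_sc t),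
    show Matrix.GeneralLinearGroup.det (sc t) = t * t from Units.ext (by
      rw [Matrix.GeneralLinearGroup.val_det_apply]; simp [sc, Matrix.det_fin_two, pow_two])]
  show (chevRel certG2 F).torusG (tupG2 (t * t) (t * t)) * ((chevRel certG2 F).he 7 _ *
    (chevRel certG2 F).he 11 _) = 1
  have e1 : (chevRel certG2 F).he 7 (t : F)⁻¹ * (chevRel certG2 F).he 11 (t : F)⁻¹ =
      (chevRel certG2 F).torusG (tupG2 (t⁻¹ * t⁻¹) (t⁻¹ * t⁻¹)) := by
    rw [he11_eq (inv_ne_zero t.ne_zero), ← mul_assoc, tupG2_val]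
    congr 1
    · rw [(chevRel certG2 F).he_mul ⟨7, by rw [dataG2.1]; norm_num⟩ (inv_ne_zero t.ne_zero)
        (inv_ne_zero t.ne_zero)]
      simp
    · simp [pow_two]
  rw [e1, ← map_mul]
  convert map_one (chevRel certG2 F).torusG
  funext i
  unfold tupG2
  rcases i with ⟨_ | _ | n, hn⟩ <;> simp [mul_comm]

theorem psi_neg_one_ne (h2 : (2 : F) ≠ 0)
    (h : ((sc (-1), 1) : GL (Fin 2) F × GL (Fin 2) F) ∈ pairs F) :
    psi ⟨(sc (-1), 1), h⟩ ≠ 1 := by
  show dHom (Matrix.GeneralLinearGroup.det (sc (-1 : Fˣ))) *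
    ((chevRel certG2 F).slHom rA (slPart (sc (-1))) * (chevRel certG2 F).slHom rC (slPart 1)) ≠ 1
  rw [slPart_one, map_one, mul_one, CfsgLib.Known.TrialityTorus.slHom_diag _ rA _ (slPart_sc (-1)),
    show Matrix.GeneralLinearGroup.det (sc (-1 : Fˣ)) = 1 from Units.ext (by
      rw [Matrix.GeneralLinearGroup.val_det_apply]; simp [sc, Matrix.det_fin_two, pow_two]), map_one, one_mul]
  show (chevRel certG2 F).he 7 _ ≠ 1
  rw [show (((-1 : Fˣ) : F))⁻¹ = ((-1 : Fˣ) : F) by norm_num]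
  intro h1
  have e : (chevRel certG2 F).torusG (tupG2 (-1 : Fˣ) 1) = 1 := by
    rw [tupG2_val, h1, Units.val_one, (chevRel certG2 F).he_one, one_mul]
  have h0 := congrFun (mem_kerG2 _ (show tupG2 (-1 : Fˣ) 1 ∈ (chevRel certG2 F).torusHom.ker from
    MonoidHom.mem_ker.2 (Subtype.ext e))) ⟨0, by decide⟩
  have h1' : (-1 : F) = 1 := by simpa [tupG2] using congrArg Units.val h0
  exact h2 (by linear_combination -h1')

end CfsgLib.Recog.G2Sylow
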