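import Cfsg.Agent.Lib.Recog.G2Sylow.Struct
import Cfsg.Agent.Lib.Recog.G2Sylow.Pairs
import Cfsg.Agent.Lib.PGroups.Basic
import Cfsg.Agent.S1059

/-!
# The Sylow 2-subgroups of `G₂(q)`, `q` odd (owner: helper28)
-/

set_option autoImplicit false
set_option maxHeartbeats 800000

namespace CfsgLib.Recog.G2Sylow

open W Cfsg.Lie
open scoped MatrixGroups

universe u

theorem W.center_cases {a : ℕ} (ha : 2 ≤ a) {p : W (2 ^ a)} (hp : p ∈ Subgroup.center (W (2 ^ a))) :
    p = 1 ∨ p = tr (half a) (half a) := by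
  have h1 := Subgroup.mem_center_iff.1 hp (tr 1 0)
  have h2 := Subgroup.mem_center_iff.1 hp uu
  have h3 := Subgroup.mem_center_iff.1 hp ss
  have hne : (1 : ZMod (2 ^ a)) ≠ 0 := fun h => by
    have := congrArg (par ha) h
    rw [map_one, map_zero] at this
    exact one_ne_zero this
  have h2ne : (2 : ZMod (2 ^ a)) ≠ 0 := fun h => by
    have := par_of_four_mul (a := a)
    have h' : half a * 1 = half a := mul_one _
    rcases eq_or_lt_of_le ha with rfl | h3'
    · exact absurd h (by decide)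
    · have := par_of_four_mul h3' (x := (1 : ZMod (2 ^ a))) (by linear_combination 2 * h)
      rw [map_one] at this
      exact one_ne_zero this
  obtain ⟨x, y, c, d⟩ := p
  have e1 := congrArg W.x h1
  have e2 := congrArg W.y h1
  cases d
  · cases c
    · have f1 := congrArg W.x h2
      have f2 := congrArg W.x h3
      simp [uu, ss] at f1 f2
      subst f2
      rcases eq_zero_or_half ha (show 2 * y = 0 by linear_combination -f1) with rfl | rfl
      · exact Or.inl rfl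
      · exact Or.inr rfl
    · simp [tr] at e1
      exact absurd (show (2 : ZMod (2 ^ a)) = 0 by linear_combination e1) h2ne
  · cases c <;> simp [tr] at e2
    · exact absurd e2 hne
    · exact absurd e2 hne

/-- A homomorphism out of the model from an inversion and a swap. -/
theorem exists_hom {G : Type u} [Group G] {n : ℕ} [NeZero n] {e₁ e₂ u s : G} (h1 : e₁ ^ n = 1)
    (hc : Commute e₁ e₂) (hu : u * u = 1) (hs : s * s = 1) (hus : Commute u s)
    (hue : u * e₁ * u⁻¹ = e₁⁻¹) (hse : s * e₁ * s⁻¹ = e₂) :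
    ∃ ι : W n →* G, ι (tr 1 1) = e₁ * e₂ := by
  have hs' : s⁻¹ = s := inv_eq_of_mul_eq_one_right hs
  have hse2 : s * e₂ * s⁻¹ = e₁ := by
    rw [← hse, hs']
    calc s * (s * e₁ * s) * s = (s * s) * e₁ * (s * s) := by group
      _ = e₁ := by rw [hs, one_mul, mul_one]
  have hue2 : u * e₂ * u⁻¹ = e₂⁻¹ := by
    rw [← hse]
    calc u * (s * e₁ * s⁻¹) * u⁻¹ = (u * s) * e₁ * (u * s)⁻¹ := by group
      _ = (s * u) * e₁ * (s * u)⁻¹ := by rw [hus.eq]
      _ = s * (u * e₁ * u⁻¹) * s⁻¹ := by group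
      _ = _ := by rw [hue]; group
  have h2 : e₂ ^ n = 1 := by rw [← hse, conj_pow, h1, mul_one, mul_inv_cancel]
  let τ : ZMod n → ZMod n → G := fun x y => e₁ ^ x.val * e₂ ^ y.val
  have hval : ∀ {e : G}, e ^ n = 1 → ∀ x y : ZMod n, e ^ (x + y).val = e ^ x.val * e ^ y.val := by
    intro e he x y
    rw [ZMod.val_add, ← pow_add, ← pow_eq_pow_mod _ he]
  have hneg : ∀ {e : G}, e ^ n = 1 → ∀ x : ZMod n, e ^ (-x).val = (e ^ x.val)⁻¹ := by
    intro e he x
    refine eq_inv_of_mul_eq_one_left ?_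
    rw [← hval he, neg_add_cancel, ZMod.val_zero, pow_zero]
  have hτ : ∀ x y x' y', τ x y * τ x' y' = τ (x + x') (y + y') := by
    intro x y x' y'
    show e₁ ^ x.val * e₂ ^ y.val * (e₁ ^ x'.val * e₂ ^ y'.val) = _ * _
    rw [hval h1, hval h2, Commute.mul_mul_mul_comm ((hc.pow_pow _ _).symm)]
  have hτu : ∀ x y, u * τ x y = τ (-x) (-y) * u := by
    intro x y
    show u * (e₁ ^ x.val * e₂ ^ y.val) = e₁ ^ (-x).val * e₂ ^ (-y).val * u
    rw [hneg h1, hneg h2, ← inv_pow, ← inv_pow, ← hue, ← hue2, conj_pow, conj_pow]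
    group
  have hτs : ∀ x y, s * τ x y = τ y x * s := by
    intro x y
    have a1 : ∀ k : ℕ, s * e₁ ^ k = e₂ ^ k * s := fun k => by rw [← hse, conj_pow]; group
    have a2 : ∀ k : ℕ, s * e₂ ^ k = e₁ ^ k * s := fun k => by rw [← hse2, conj_pow]; group
    show s * (e₁ ^ x.val * e₂ ^ y.val) = e₁ ^ y.val * e₂ ^ x.val * s
    rw [← mul_assoc, a1, mul_assoc, a2, ← mul_assoc, (hc.pow_pow _ _).eq]
  let ν : Bool → Bool → G := fun c d => (if c then u else 1) * (if d then s else 1)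
  have hν : ∀ c d c' d', ν c d * ν c' d' = ν (xor c c') (xor d d') := by
    intro c d c' d'
    have hsu : ∀ z, s * (u * z) = u * (s * z) := fun z => by rw [← mul_assoc, ← hus.eq, mul_assoc]
    have huu : ∀ z, u * (u * z) = z := fun z => by rw [← mul_assoc, hu, one_mul]
    cases c <;> cases d <;> cases c' <;> cases d' <;>
      simp [ν, mul_assoc, hu, hs, hsu, huu, hus.eq.symm]
  have hντ : ∀ c d x y, ν c d * τ x y =
      τ (sg n c * (if d then y else x)) (sg n c * (if d then x else y)) * ν c d := by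
    intro c d x y
    cases c <;> cases d <;> simp [ν]
    · exact hτs x y
    · exact hτu x y
    · rw [mul_assoc, hτs, ← mul_assoc, hτu, mul_assoc]
  refine ⟨MonoidHom.mk' (fun p => τ p.x p.y * ν p.a p.b) fun p r => ?_, ?_⟩
  · show τ (p * r).x (p * r).y * ν (p * r).a (p * r).b = τ p.x p.y * ν p.a p.b * (τ r.x r.y * ν r.a r.b)
    rw [mul_x, mul_y, mul_a, mul_b, ← hτ, ← hν, mul_assoc (τ p.x p.y), ← mul_assoc (τ _ _) (ν p.a p.b),
      ← hντ]
    simp only [mul_assoc]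
  · show τ (1 : ZMod n) 1 * ν false false = _
    have hval1 : ∀ {e : G}, e ^ n = 1 → e ^ (1 : ZMod n).val = e := by
      intro e he
      rw [← Nat.cast_one (R := ZMod n), ZMod.val_natCast, ← pow_eq_pow_mod _ he, pow_one]
    simp [τ, ν, hval1 h1, hval1 h2]

variable {F : Type u} [Field F]

/-- The matrices used for the embedding. -/
def Data (F : Type u) [Field F] (a : ℕ) : Prop :=
  ∃ ρ j : GL (Fin 2) F, Matrix.GeneralLinearGroup.det j = 1 ∧ j * j = sc (-1) ∧
    j * ρ * j⁻¹ = sc (Matrix.GeneralLinearGroup.det ρ) * ρ⁻¹ ∧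
    (ρ * ρ * (sc (Matrix.GeneralLinearGroup.det ρ))⁻¹) ^ 2 ^ (a - 1) = sc (-1)

theorem sc_comm (t : Fˣ) (g : GL (Fin 2) F) : sc t * g = g * sc t :=
  Units.ext (Matrix.scalar_commute (t : F) (fun _ => Commute.all _ _) (g : Matrix (Fin 2) (Fin 2) F)).eq

theorem det_sc (t : Fˣ) : Matrix.GeneralLinearGroup.det (sc t) = t * t :=
  Units.ext (by rw [Matrix.GeneralLinearGroup.val_det_apply]; simp [sc, Matrix.det_fin_two, pow_two])

theorem exists_embedding {a : ℕ} (ha : 2 ≤ a) (h2 : (2 : F) ≠ 0) (hD : Data F a) :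
    ∃ ι : W (2 ^ a) →* ↥(chevG2.group F), Function.Injective ι := by
  obtain ⟨ρ, j, hdj, hjj, hjρ, hr⟩ := hD
  set δ := Matrix.GeneralLinearGroup.det ρ with hδ
  set r := ρ * ρ * (sc δ)⁻¹ with hrdef
  set i := r ^ 2 ^ (a - 2) with hidef
  set ρ' := j * ρ * j⁻¹ with hρ'
  have hscinv : ∀ t : Fˣ, (sc t)⁻¹ = sc t⁻¹ := fun t => (map_inv sc t).symm
  have hdr : Matrix.GeneralLinearGroup.det r = 1 := by
    rw [hrdef, map_mul, map_mul, map_inv, det_sc, ← hδ, mul_inv_cancel]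
  have hdi : Matrix.GeneralLinearGroup.det i = 1 := by rw [hidef, map_pow, hdr, one_pow]
  have hii : i * i = sc (-1) := by
    rw [hidef, ← pow_add, show 2 ^ (a - 2) + 2 ^ (a - 2) = 2 ^ (a - 1) by
      rw [← two_mul, ← pow_succ']; congr 1; omega, hr]
  have hρr : Commute ρ r := ((Commute.refl ρ).mul_right (Commute.refl ρ)).mul_right
    ((show Commute ρ (sc δ) from (sc_comm δ ρ).symm).inv_right)
  have hρi : i * ρ * i⁻¹ = ρ := by
    rw [((hρr.pow_right (2 ^ (a - 2))).symm : Commute i ρ).eq, mul_inv_cancel_right]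
  have hρ'ρ : Commute ρ ρ' := by
    rw [hjρ]
    exact (show Commute ρ (sc δ) from (sc_comm δ ρ).symm).mul_right (Commute.refl ρ).inv_right
  have hjr : j * r * j⁻¹ = r⁻¹ := by
    rw [hrdef, show j * (ρ * ρ * (sc δ)⁻¹) * j⁻¹ = (j * ρ * j⁻¹) * (j * ρ * j⁻¹) * (j * (sc δ)⁻¹ * j⁻¹) by group,
      ← hρ', hjρ, hscinv, ← sc_comm, mul_inv_cancel_right, ← hscinv]
    have hc : Commute (sc δ) ρ⁻¹ := (show Commute (sc δ) ρ from sc_comm δ ρ).inv_right
    calc sc δ * ρ⁻¹ * (sc δ * ρ⁻¹) * (sc δ)⁻¹ = sc δ * (ρ⁻¹ * sc δ) * ρ⁻¹ * (sc δ)⁻¹ := by group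
      _ = sc δ * (sc δ * ρ⁻¹) * ρ⁻¹ * (sc δ)⁻¹ := by rw [hc.eq]
      _ = sc δ * sc δ * (ρ⁻¹ * ρ⁻¹ * (sc δ)⁻¹) := by group
      _ = sc δ * sc δ * ((sc δ)⁻¹ * (ρ⁻¹ * ρ⁻¹)) := by
          rw [((hc.mul_right hc).inv_left).eq]
      _ = _ := by group
  have hji : j * i = i⁻¹ * j := by
    rw [← mul_inv_eq_iff_eq_mul, hidef, ← conj_pow, hjr, inv_pow]
  have hsc1 : sc (-1 : Fˣ) * sc (-1) = 1 := by rw [← map_mul]; simp
  have hiinv : i⁻¹ = sc (-1) * i :=
    inv_eq_of_mul_eq_one_right (by rw [← mul_assoc, ← sc_comm, mul_assoc, hii, hsc1])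
  have hdρ' : Matrix.GeneralLinearGroup.det ρ' = δ := by
    rw [hρ', map_mul, map_mul, map_inv, hdj, one_mul, inv_one, mul_one]
  let mk : ∀ g h : GL (Fin 2) F, Matrix.GeneralLinearGroup.det g = Matrix.GeneralLinearGroup.det h →
      ↥(pairs F) := fun g h e => ⟨(g, h), e⟩
  have hscal : ∀ t (h : ((sc t, sc t) : GL (Fin 2) F × GL (Fin 2) F) ∈ pairs F), psi ⟨_, h⟩ = 1 := psi_scalar
  have hk : ∀ (p q : ↥(pairs F)) (t : Fˣ), p.1.1 = sc t * q.1.1 → p.1.2 = sc t * q.1.2 → psi p = psi q := by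
    intro p q t e1 e2
    have hm : ((sc t, sc t) : GL (Fin 2) F × GL (Fin 2) F) ∈ pairs F := rfl
    rw [show p = ⟨_, hm⟩ * q from Subtype.ext (Prod.ext e1 e2), map_mul, hscal, one_mul]
  let E₁ := psi (mk ρ ρ rfl)
  let E₂ := psi (mk ρ ρ' hdρ'.symm)
  let U := psi (mk j (j * i) (by rw [map_mul, hdi, mul_one]))
  let S := psi (mk i j (by rw [hdi, hdj]))
  have hpow : ∀ k : ℕ, (r ^ k, r ^ k) ∈ pairs F := fun k => rfl
  have h1 : E₁ ^ 2 ^ a = 1 := by
    rw [show 2 ^ a = 2 * 2 ^ (a - 1) by rw [← pow_succ']; congr 1; omega, pow_mul]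
    show (psi _ ^ 2) ^ _ = 1
    rw [← map_pow, ← map_pow]
    rw [hk _ ⟨_, hpow (2 ^ (a - 1))⟩ (δ ^ 2 ^ (a - 1)) ?_ ?_, show (⟨_, hpow (2 ^ (a - 1))⟩ : ↥(pairs F)) =
      ⟨(sc (-1), sc (-1)), rfl⟩ from Subtype.ext (Prod.ext hr hr)]
    · exact hscal _ _
    all_goals
      show (ρ ^ 2) ^ 2 ^ (a - 1) = sc (δ ^ 2 ^ (a - 1)) * r ^ 2 ^ (a - 1)
      rw [map_pow, ← (show Commute (sc δ) r from sc_comm δ r).mul_pow, hrdef, pow_two,
        ← (show Commute (sc δ) (ρ * ρ) from sc_comm δ _).inv_left.eq, ← mul_assoc (sc δ), mul_inv_cancel,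
        one_mul]
  obtain ⟨ι, hι⟩ := exists_hom (e₁ := E₁) (e₂ := E₂) (u := U) (s := S) h1
    (by
      show psi _ * psi _ = psi _ * psi _
      rw [← map_mul, ← map_mul]
      exact congrArg psi (Subtype.ext (Prod.ext rfl hρ'ρ.eq)))
    (by
      show psi _ * psi _ = 1
      rw [← map_mul, hk _ 1 (-1) ?_ ?_, map_one]
      · show j * j = sc (-1) * 1
        rw [mul_one, hjj]
      · show j * i * (j * i) = sc (-1) * 1
        rw [mul_one]
        calc j * i * (j * i) = i⁻¹ * j * (j * i) := by rw [hji]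
          _ = i⁻¹ * ((j * j) * i) := by group
          _ = i⁻¹ * (i * sc (-1)) := by rw [hjj, sc_comm]
          _ = sc (-1) := by group)
    (by
      show psi _ * psi _ = 1
      rw [← map_mul, hk _ 1 (-1) ?_ ?_, map_one]
      · show i * i = sc (-1) * 1
        rw [mul_one, hii]
      · show j * j = sc (-1) * 1
        rw [mul_one, hjj])
    (by
      show psi _ * psi _ = psi _ * psi _
      refine (map_mul psi _ _).symm.trans ((hk _ _ (-1) ?_ ?_).trans (map_mul psi _ _))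
      · show j * i = sc (-1) * (i * j)
        rw [hji, hiinv, mul_assoc]
      · show j * i * j = sc (-1) * (j * (j * i))
        calc j * i * j = i⁻¹ * (j * j) := by rw [hji, mul_assoc]
          _ = sc (-1) * i * sc (-1) := by rw [hjj, hiinv]
          _ = sc (-1) * (sc (-1) * i) := by rw [mul_assoc, ← sc_comm]
          _ = sc (-1) * (j * j * i) := by rw [hjj]
          _ = _ := by rw [mul_assoc j j i])
    (by
      show psi _ * psi _ * (psi _)⁻¹ = (psi _)⁻¹
      rw [← map_inv, ← map_inv, ← map_mul, ← map_mul]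
      refine hk _ _ δ ?_ ?_
      · show j * ρ * j⁻¹ = sc δ * ρ⁻¹
        exact hjρ
      · show j * i * ρ * (j * i)⁻¹ = sc δ * ρ⁻¹
        rw [show j * i * ρ * (j * i)⁻¹ = j * (i * ρ * i⁻¹) * j⁻¹ by group, hρi]
        exact hjρ)
    (by
      show psi _ * psi _ * (psi _)⁻¹ = psi _
      rw [← map_inv, ← map_mul, ← map_mul]
      exact congrArg psi (Subtype.ext (Prod.ext hρi rfl)))
  refine ⟨ι, ?_⟩
  have hz : ι (tr (half a) (half a)) ≠ 1 := by
    have e : tr (half a) (half a) = tr (1 : ZMod (2 ^ a)) 1 ^ 2 ^ (a - 1) := by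
      rw [tr_pow, mul_one]; rfl
    rw [e, map_pow, hι]
    show (psi _ * psi _) ^ 2 ^ (a - 1) ≠ 1
    rw [← map_mul, ← map_pow]
    have hm : ((sc (-1), 1) : GL (Fin 2) F × GL (Fin 2) F) ∈ pairs F := by
      show Matrix.GeneralLinearGroup.det (sc (-1 : Fˣ)) = Matrix.GeneralLinearGroup.det 1
      rw [det_sc, map_one]; simp
    rw [hk _ ⟨_, hm⟩ (δ ^ 2 ^ (a - 1)) ?_ ?_]
    · exact psi_neg_one_ne h2 hm
    · show (ρ * ρ) ^ 2 ^ (a - 1) = sc (δ ^ 2 ^ (a - 1)) * sc (-1)
      rw [map_pow, ← hr, ← (show Commute (sc δ) r from sc_comm δ r).mul_pow, hrdef,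
        ← (show Commute (sc δ) (ρ * ρ) from sc_comm δ _).inv_left.eq, ← mul_assoc (sc δ), mul_inv_cancel,
        one_mul]
    · show (ρ * ρ') ^ 2 ^ (a - 1) = sc (δ ^ 2 ^ (a - 1)) * 1
      rw [map_pow, mul_one, hjρ, ← mul_assoc, ← sc_comm, mul_inv_cancel_right]
  rw [← MonoidHom.ker_eq_bot_iff]
  by_contra hker
  have : Fact (Nat.Prime 2) := ⟨Nat.prime_two⟩
  have hWp : IsPGroup 2 (W (2 ^ a)) := by
    refine IsPGroup.of_card (n := 2 + a * 2) ?_
    rw [card_eq, pow_add, pow_mul]; norm_num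
  obtain ⟨⟨p, hpk, hpc⟩, hp⟩ := Subgroup.ne_bot_iff_exists_ne_one.1
    (CfsgLib.PGroups.inf_center_ne_bot hWp hker)
  rcases W.center_cases ha hpc with rfl | rfl
  · exact hp rfl
  · exact hz hpk

theorem data_one_mod_four [Fintype F] {a : ℕ} {o : ℕ} (ha : 2 ≤ a)
    (hq : Fintype.card F - 1 = 2 ^ a * o) : Data F a := by
  classical
  have ho : o ≠ 0 := by
    rintro rfl
    have := Fintype.one_lt_card (α := F)
    omega
  obtain ⟨g, hg⟩ := IsCyclic.exists_generator (α := Fˣ)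
  have hord : orderOf g = 2 ^ a * o := by
    rw [orderOf_eq_card_of_forall_mem_zpowers hg, Nat.card_eq_fintype_card, Fintype.card_units, hq]
  set l := g ^ o with hl
  have hlN : orderOf l = 2 ^ a := by
    rw [hl, orderOf_pow' _ ho, hord, Nat.gcd_mul_left_left, Nat.mul_div_cancel _ (Nat.pos_of_ne_zero ho)]
  have hhalf : (l : F) ^ 2 ^ (a - 1) = -1 := by
    have e : ((l : F) ^ 2 ^ (a - 1)) * ((l : F) ^ 2 ^ (a - 1)) = 1 := by
      rw [← pow_add, ← two_mul, ← pow_succ', show a - 1 + 1 = a by omega, ← hlN, ← Units.val_pow_eq_pow_val,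
        pow_orderOf_eq_one, Units.val_one]
    refine (mul_self_eq_one_iff.1 e).resolve_left fun h => ?_
    have h' : orderOf l ∣ 2 ^ (a - 1) := orderOf_dvd_of_pow_eq_one (Units.ext (by simpa using h))
    rw [hlN, Nat.pow_dvd_pow_iff_le_right (by norm_num)] at h'
    omega
  let ρ : GL (Fin 2) F := Matrix.GeneralLinearGroup.mkOfDetNeZero !![(l : F), 0; 0, 1]
    (by simp [Matrix.det_fin_two_of])
  let j : GL (Fin 2) F := Matrix.GeneralLinearGroup.mkOfDetNeZero !![0, -1; 1, 0]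
    (by simp [Matrix.det_fin_two_of])
  have hdρ : Matrix.GeneralLinearGroup.det ρ = l := Units.ext (by
    rw [Matrix.GeneralLinearGroup.val_det_apply]; simp [ρ, Matrix.det_fin_two])
  refine ⟨ρ, j, Units.ext (by rw [Matrix.GeneralLinearGroup.val_det_apply]; simp [j, Matrix.det_fin_two]),
    ?_, ?_, ?_⟩
  · refine Units.ext ?_
    ext i k
    fin_cases i <;> fin_cases k <;> simp [j, sc, Matrix.mul_apply, Fin.sum_univ_two]
  · rw [hdρ, eq_mul_inv_iff_mul_eq]
    have e : j * ρ * j⁻¹ * ρ = sc l := by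
      have hjinv : j⁻¹ = Matrix.GeneralLinearGroup.mkOfDetNeZero !![0, 1; -1, (0 : F)]
          (by simp [Matrix.det_fin_two_of]) := by
        refine inv_eq_of_mul_eq_one_right (Units.ext ?_)
        ext i k
        fin_cases i <;> fin_cases k <;> simp [j, Matrix.mul_apply, Fin.sum_univ_two]
      rw [hjinv]
      refine Units.ext ?_
      ext i k
      fin_cases i <;> fin_cases k <;> simp [j, ρ, sc, Matrix.mul_apply, Fin.sum_univ_two]
    exact e
  · rw [hdρ]
    have hr : ρ * ρ * (sc l)⁻¹ = Matrix.GeneralLinearGroup.mkOfDetNeZero !![(l : F), 0; 0, (l : F)⁻¹]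
        (by simp [Matrix.det_fin_two_of]) := by
      rw [mul_inv_eq_iff_eq_mul]
      refine Units.ext ?_
      ext i k
      fin_cases i <;> fin_cases k <;> simp [ρ, sc, Matrix.mul_apply, Fin.sum_univ_two]
    rw [hr]
    refine Units.ext ?_
    rw [Units.val_pow_eq_pow_val]
    show (!![(l : F), 0; 0, (l : F)⁻¹] : Matrix (Fin 2) (Fin 2) F) ^ _ = _
    rw [show (!![(l : F), 0; 0, (l : F)⁻¹] : Matrix (Fin 2) (Fin 2) F) = Matrix.diagonal ![(l : F), (l : F)⁻¹] by
      ext i k; fin_cases i <;> fin_cases k <;> simp, Matrix.diagonal_pow]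
    ext i k
    fin_cases i <;> fin_cases k <;> simp [sc, hhalf, inv_pow]

/-- the complex-number matrix -/
def cMat (z : QuadraticAlgebra F (-1) 0) : Matrix (Fin 2) (Fin 2) F := !![z.re, -z.im; z.im, z.re]

/-- the complex-number matrices, as a homomorphism -/
def cHom : QuadraticAlgebra F (-1) 0 →* Matrix (Fin 2) (Fin 2) F where
  toFun := cMat
  map_one' := by ext i k; fin_cases i <;> fin_cases k <;> simp [cMat, QuadraticAlgebra.re_one, QuadraticAlgebra.im_one]
  map_mul' z w := by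
    ext i k
    fin_cases i <;> fin_cases k <;> simp [cMat, Matrix.mul_apply, Fin.sum_univ_two] <;> ring

theorem data_three_mod_four [Fintype F] {a o : ℕ} (ha : 2 ≤ a) (hq : Fintype.card F + 1 = 2 ^ a * o)
    (ho : Odd o) (hm1 : ¬ IsSquare (-1 : F)) : Data F a := by
  classical
  have hfact : Fact (∀ r : F, r ^ 2 ≠ (-1) + 0 * r) := ⟨fun r h => hm1 ⟨r, by rw [← pow_two, h]; ring⟩⟩
  have : Finite (QuadraticAlgebra F (-1 : F) 0) := Finite.of_equiv _ (QuadraticAlgebra.equivProd (-1 : F) 0).symm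
  obtain ⟨g, hg⟩ := IsCyclic.exists_generator (α := (QuadraticAlgebra F (-1 : F) 0)ˣ)
  have hq3 : 3 ≤ Fintype.card F := by
    have : 2 ^ 2 ≤ 2 ^ a := Nat.pow_le_pow_right (by norm_num) ha
    have h1 : 2 ^ a ≤ 2 ^ a * o := Nat.le_mul_of_pos_right _ ho.pos
    omega
  obtain ⟨k, hk⟩ : ∃ k, Fintype.card F = 2 * k + 1 ∧ Odd k := by
    have h4 : 4 ∣ Fintype.card F + 1 := by
      rw [hq]; exact dvd_mul_of_dvd_left (pow_dvd_pow 2 ha : 2 ^ 2 ∣ 2 ^ a) o
    refine ⟨(Fintype.card F - 1) / 2, ?_, ?_⟩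
    · omega
    · rw [Nat.odd_iff]; omega
  have hord : orderOf g = 2 ^ (a + 1) * (k * o) := by
    rw [orderOf_eq_card_of_forall_mem_zpowers hg, Nat.card_units,
      Nat.card_congr (QuadraticAlgebra.equivProd (-1 : F) 0), Nat.card_prod, Nat.card_eq_fintype_card]
    have e : Fintype.card F * Fintype.card F = 2 * k * (Fintype.card F + 1) + 1 := by rw [hk.1]; ring
    rw [e, Nat.add_sub_cancel, hq]; ring
  set w := g ^ (k * o) with hwdef
  have hko : k * o ≠ 0 := Nat.mul_ne_zero (Nat.pos_iff_ne_zero.1 hk.2.pos) (Nat.pos_iff_ne_zero.1 ho.pos)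
  have hw : orderOf w = 2 ^ (a + 1) := by
    rw [hwdef, orderOf_pow' _ hko, hord, Nat.gcd_mul_left_left, Nat.mul_div_cancel _ (Nat.pos_of_ne_zero hko)]
  -- `w ^ 2 ^ a` is `-1`
  have hhalf : ((w : QuadraticAlgebra F (-1 : F) 0)) ^ 2 ^ a = -1 := by
    have e : ((w : QuadraticAlgebra F (-1 : F) 0) ^ 2 ^ a) * ((w : QuadraticAlgebra F (-1 : F) 0) ^ 2 ^ a) = 1 := by
      rw [← pow_add, ← two_mul, ← pow_succ', ← hw, ← Units.val_pow_eq_pow_val, pow_orderOf_eq_one, Units.val_one]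
    refine (mul_self_eq_one_iff.1 e).resolve_left fun h => ?_
    have h' : orderOf w ∣ 2 ^ a := orderOf_dvd_of_pow_eq_one (Units.ext (by simpa using h))
    rw [hw, Nat.pow_dvd_pow_iff_le_right (by norm_num)] at h'
    omega
  -- its norm is `-1`
  have hnorm : QuadraticAlgebra.norm ((g : QuadraticAlgebra F (-1 : F) 0)) ^ (k * o) = -1 := by
    let N : (QuadraticAlgebra F (-1 : F) 0)ˣ →* Fˣ := Units.map QuadraticAlgebra.norm
    -- the norm is onto, as `-1` times a square is a sum of two squares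
    have hsum : ∀ c : F, ∃ x y : F, x * x + y * y = c := by
      intro c
      obtain ⟨x, y, hxy⟩ := FiniteField.exists_root_sum_quadratic (R := F)
        (f := Polynomial.X ^ 2) (g := Polynomial.X ^ 2 - Polynomial.C c)
        (Polynomial.degree_X_pow 2) (Polynomial.degree_X_pow_sub_C (by norm_num) c)
        (by rw [hk.1]; omega)
      simp at hxy
      exact ⟨x, y, by linear_combination hxy⟩
    have hN : Function.Surjective N := by
      intro c
      obtain ⟨x, y, hxy⟩ := hsum (c : F)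
      have h0 : (⟨x, y⟩ : QuadraticAlgebra F (-1 : F) 0) ≠ 0 := fun h => c.ne_zero (by
        rw [← hxy, show x = 0 from congrArg QuadraticAlgebra.re h,
          show y = 0 from congrArg QuadraticAlgebra.im h]; ring)
      exact ⟨Units.mk0 _ h0, Units.ext (by
        show QuadraticAlgebra.norm (⟨x, y⟩ : QuadraticAlgebra F (-1 : F) 0) = c
        rw [QuadraticAlgebra.norm_def, ← hxy]; ring)⟩
    have hgen : ∀ c : Fˣ, c ∈ Subgroup.zpowers (N g) := by
      intro c
      obtain ⟨z, rfl⟩ := hN c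
      obtain ⟨m, rfl⟩ := Subgroup.mem_zpowers_iff.1 (hg z)
      exact ⟨m, (map_zpow N g m).symm⟩
    have hNord : orderOf (N g) = 2 * k := by
      rw [orderOf_eq_card_of_forall_mem_zpowers hgen, Nat.card_eq_fintype_card, Fintype.card_units, hk.1]
      omega
    have hsq : (N g ^ k : Fˣ) * N g ^ k = 1 := by rw [← pow_add, ← two_mul, ← hNord, pow_orderOf_eq_one]
    have hne : (N g ^ k : Fˣ) ≠ 1 := fun h => by
      have := Nat.le_of_dvd hk.2.pos (orderOf_dvd_of_pow_eq_one h)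
      rw [hNord] at this
      have := hk.2.pos
      omega
    have hkm : ((N g ^ k : Fˣ) : F) = -1 := (mul_self_eq_one_iff.1 (by
      rw [← Units.val_mul, hsq, Units.val_one])).resolve_left fun h => hne (Units.ext h)
    rw [Units.val_pow_eq_pow_val] at hkm
    rw [pow_mul, show QuadraticAlgebra.norm ((g : QuadraticAlgebra F (-1 : F) 0)) ^ k = -1 from hkm,
      ho.neg_one_pow]
  have hwn : (w : QuadraticAlgebra F (-1 : F) 0).re * (w : QuadraticAlgebra F (-1 : F) 0).re +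
      (w : QuadraticAlgebra F (-1 : F) 0).im * (w : QuadraticAlgebra F (-1 : F) 0).im = -1 := by
    refine Eq.trans ?_ hnorm
    rw [← map_pow, ← Units.val_pow_eq_pow_val, ← hwdef, QuadraticAlgebra.norm_def]; ring
  set x := (w : QuadraticAlgebra F (-1 : F) 0).re
  set y := (w : QuadraticAlgebra F (-1 : F) 0).im
  let ρ : GL (Fin 2) F := Units.map cHom w
  let j : GL (Fin 2) F := Matrix.GeneralLinearGroup.mkOfDetNeZero !![x, y; y, -x]
    (by rw [Matrix.det_fin_two_of]; intro h; exact one_ne_zero (α := F) (by linear_combination h + hwn))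
  have hjsq : j * j = sc (-1) := by
    refine Units.ext ?_
    ext i l
    fin_cases i <;> fin_cases l <;> simp [j, sc, Matrix.mul_apply, Fin.sum_univ_two] <;>
      first
        | linear_combination hwn
        | ring
  have hdρ : Matrix.GeneralLinearGroup.det ρ = -1 := Units.ext (by
    rw [Matrix.GeneralLinearGroup.val_det_apply]
    show (cMat (w : QuadraticAlgebra F (-1 : F) 0)).det = _
    simp only [cMat, Matrix.det_fin_two_of, Units.val_neg, Units.val_one]
    linear_combination hwn)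
  refine ⟨ρ, j, Units.ext ?_, hjsq, ?_, ?_⟩
  · rw [Matrix.GeneralLinearGroup.val_det_apply]
    show (!![x, y; y, -x]).det = _
    rw [Matrix.det_fin_two_of, Units.val_one]
    linear_combination -hwn
  · rw [hdρ, eq_mul_inv_iff_mul_eq, show j⁻¹ = sc (-1) * j from inv_eq_of_mul_eq_one_right (by
      rw [← mul_assoc, ← sc_comm, mul_assoc, hjsq, ← map_mul]; simp)]
    refine Units.ext ?_
    ext i l
    fin_cases i <;> fin_cases l <;>
      simp [j, sc, ρ, cHom, cMat, Matrix.mul_apply, Fin.sum_univ_two, x, y] <;>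
      simp only [x, y] at hwn <;>
      first
        | linear_combination (-(w : QuadraticAlgebra F (-1 : F) 0).re ^ 2 - (w : QuadraticAlgebra F (-1 : F) 0).im ^ 2 + 1) * hwn
        | ring
  · rw [hdρ, ← map_inv sc, show ((-1 : Fˣ))⁻¹ = -1 by simp, ← sc_comm,
      (show Commute (sc (-1 : Fˣ)) (ρ * ρ) from sc_comm _ _).mul_pow, ← map_pow,
      show (-1 : Fˣ) ^ 2 ^ (a - 1) = 1 from Even.neg_one_pow (Nat.even_pow.2 ⟨by decide, by omega⟩),
      map_one, one_mul, ← pow_two, ← pow_mul, ← pow_succ', show a - 1 + 1 = a by omega]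
    refine Units.ext ?_
    rw [show (ρ ^ 2 ^ a : GL (Fin 2) F).1 = cHom ((w : QuadraticAlgebra F (-1 : F) 0) ^ 2 ^ a) by
      rw [map_pow, Units.val_pow_eq_pow_val]; rfl, hhalf]
    ext i l
    fin_cases i <;> fin_cases l <;> simp [cHom, cMat, sc, QuadraticAlgebra.re_one, QuadraticAlgebra.im_one]

/-- The Sylow 2-subgroups are images of the model. -/
theorem exists_model [Fintype F] (hF : Odd (Fintype.card F)) (P : Sylow 2 ↥(chevG2.group F)) :
    ∃ a, 2 ≤ a ∧ Nonempty (W (2 ^ a) ≃* ↥(P : Subgroup ↥(chevG2.group F))) := by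
  classical
  have : Fact (Nat.Prime 2) := ⟨Nat.prime_two⟩
  set q := Fintype.card F with hq
  have hq1 : 1 < q := Fintype.one_lt_card
  have h2 : (2 : F) ≠ 0 := Ring.two_ne_zero (fun h => by
    have := FiniteField.even_card_of_char_two h
    rw [← hq] at this
    exact absurd hF (Nat.not_odd_iff_even.2 (Nat.even_iff.2 this)))
  obtain ⟨a, o₁, o₂, ha, ho₁, ho₂, hD, hsplit⟩ : ∃ a o₁ o₂ : ℕ, 2 ≤ a ∧ Odd o₁ ∧ Odd o₂ ∧ Data F a ∧
      (q - 1) * (q + 1) = 2 ^ (a + 1) * (o₁ * o₂) := by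
    have hq2 : q % 2 = 1 := Nat.odd_iff.1 hF
    rcases (show q % 4 = 1 ∨ q % 4 = 3 by omega) with h4 | h4
    · obtain ⟨a, o, ho, hao⟩ := Nat.exists_eq_two_pow_mul_odd (n := q - 1) (by omega)
      have ha : 2 ≤ a := by
        by_contra hc
        interval_cases a <;> (obtain ⟨m, rfl⟩ := ho; omega)
      exact ⟨a, o, (q + 1) / 2, ha, ho, by rw [Nat.odd_iff]; omega, data_one_mod_four ha hao, by
        rw [hao]; conv_lhs => rw [show q + 1 = 2 * ((q + 1) / 2) by omega]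
        ring⟩
    · obtain ⟨a, o, ho, hao⟩ := Nat.exists_eq_two_pow_mul_odd (n := q + 1) (by omega)
      have ha : 2 ≤ a := by
        by_contra hc
        interval_cases a <;> (obtain ⟨m, rfl⟩ := ho; omega)
      refine ⟨a, (q - 1) / 2, o, ha, by rw [Nat.odd_iff]; omega, ho,
        data_three_mod_four ha hao ho (fun h => (FiniteField.isSquare_neg_one_iff.1 h) h4), by
        rw [hao]; conv_lhs => rw [show q - 1 = 2 * ((q - 1) / 2) by omega]
        ring⟩
  obtain ⟨ι, hι⟩ := exists_embedding ha h2 hD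
  refine ⟨a, ha, ?_⟩
  have hcard : Nat.card ↥(chevG2.group F) = q ^ 6 * (q ^ 2 - 1) * (q ^ 6 - 1) := Cfsg.Agent.S1059.result rfl
  obtain ⟨m, hm, hfac⟩ : ∃ m, Odd m ∧ Nat.card ↥(chevG2.group F) = 2 ^ (2 * a + 2) * m := by
    have e2 : q ^ 2 - 1 = 2 ^ (a + 1) * (o₁ * o₂) := by
      rw [← hsplit, show q ^ 2 - 1 = q ^ 2 - 1 ^ 2 by norm_num, Nat.sq_sub_sq, mul_comm]
    have e6 : q ^ 6 - 1 = (q ^ 2 - 1) * (q ^ 4 + q ^ 2 + 1) := by
      have h1 : 1 ≤ q ^ 2 := Nat.one_le_pow _ _ (by omega)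
      obtain ⟨r, hr⟩ := Nat.exists_eq_add_of_le h1
      rw [show q ^ 6 = (q ^ 2) ^ 3 by ring, show q ^ 4 = (q ^ 2) ^ 2 by ring, hr, Nat.add_sub_cancel_left,
        show (1 + r) ^ 3 = r * ((1 + r) ^ 2 + (1 + r) + 1) + 1 by ring, Nat.add_sub_cancel]
    refine ⟨q ^ 6 * (o₁ * o₂) * ((o₁ * o₂) * (q ^ 4 + q ^ 2 + 1)), ?_, ?_⟩
    · have h46 : Odd (q ^ 4 + q ^ 2 + 1) := (hF.pow.add_odd hF.pow).add_one
      exact (hF.pow.mul (ho₁.mul ho₂)).mul ((ho₁.mul ho₂).mul h46)
    · rw [hcard, e6, e2]; ring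
  have hcop : Nat.Coprime (2 ^ (2 * a + 2)) m := Nat.Coprime.pow_left _ (Nat.coprime_two_left.2 hm)
  have hWc : Nat.card (W (2 ^ a)) = 2 ^ (2 * a + 2) := by rw [card_eq]; ring
  have hRcard : Nat.card ↥ι.range = 2 ^ (Nat.card ↥(chevG2.group F)).factorization 2 := by
    rw [← Nat.card_congr (MonoidHom.ofInjective hι).toEquiv, hWc, hfac,
      Nat.factorization_mul (by positivity) (Nat.pos_iff_ne_zero.1 hm.pos), Finsupp.add_apply,
      Nat.Prime.factorization_pow Nat.prime_two, Finsupp.single_eq_same,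
      Nat.factorization_eq_zero_of_not_dvd (fun h => Nat.not_even_iff_odd.2 hm (even_iff_two_dvd.2 h)),
      add_zero]
  exact ⟨(MonoidHom.ofInjective hι).trans (Sylow.equiv (Sylow.ofCard ι.range hRcard) P)⟩

end CfsgLib.Recog.G2Sylow
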