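import Mathlib

/-!
# Transfer of an element with a centralising abelian 2-subgroup

If every conjugation carrying the 2-subgroup `P ≤ C(x)` into the Sylow subgroup sends `x` to an element
of value `c`, and the powers of `x` met on the larger orbits have trivial value, then the transfer of
`x` is `c` (owner: helper28).
-/

set_option autoImplicit false

namespace CfsgLib.Recog.G2Sylow

open MulAction

universe u

theorem flag_cases : ∀ c : Multiplicative (ZMod 2), c = 1 ∨ c = Multiplicative.ofAdd 1 := by decide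

theorem flag_ne_one : (1 : Multiplicative (ZMod 2)) ≠ Multiplicative.ofAdd 1 := by decide

theorem flag_sq : (Multiplicative.ofAdd (1 : ZMod 2)) ^ 2 = 1 := by decide

theorem transfer_eq_flag {G : Type u} [Group G] [Finite G] (S : Sylow 2 G)
    (φ : (S : Subgroup G) →* Multiplicative (ZMod 2)) {x : G} {P : Subgroup G} (hP : IsPGroup 2 P)
    (hxP : x ∈ P) (hPx : ∀ y ∈ P, Commute y x)
    (hfix : ∀ g : G, (∀ y ∈ P, g⁻¹ * y * g ∈ (S : Subgroup G)) →
      ∀ h : g⁻¹ * x * g ∈ (S : Subgroup G), φ ⟨_, h⟩ = Multiplicative.ofAdd 1)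
    (horb : ∀ (g : G) (n : ℕ) (P₀ : Subgroup G), P₀ ≤ P → x ^ n ∈ P₀ → 2 ≤ n →
      Nat.card P = n * Nat.card P₀ → (∀ y ∈ P₀, g⁻¹ * y * g ∈ (S : Subgroup G)) →
      ∀ h : g⁻¹ * x ^ n * g ∈ (S : Subgroup G), φ ⟨_, h⟩ = 1) :
    MonoidHom.transfer φ x = Multiplicative.ofAdd 1 := by
  classical
  have : Fact (Nat.Prime 2) := ⟨Nat.prime_two⟩
  let Q := Quotient (orbitRel (Subgroup.zpowers x) (G ⧸ (S : Subgroup G)))
  let _ : Fintype Q := Fintype.ofFinite _
  let per : G ⧸ (S : Subgroup G) → ℕ := fun z => Function.minimalPeriod (x • ·) z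
  have hper : ∀ (k : ℕ) (z : G ⧸ (S : Subgroup G)), x ^ k • z = z ↔ per z ∣ k := by
    intro k z
    rw [← Function.isPeriodicPt_iff_minimalPeriod_dvd, Function.IsPeriodicPt, Function.IsFixedPt,
      smul_iterate]
  have hmem : ∀ (y g : G), y • (g : G ⧸ (S : Subgroup G)) = g → g⁻¹ * y * g ∈ (S : Subgroup G) := by
    intro y g h
    rw [MulAction.Quotient.smul_mk, smul_eq_mul, eq_comm, QuotientGroup.eq, ← mul_assoc] at h
    exact h
  -- a value for every representative
  have hval : ∀ (g : G) (k : ℕ), per (g : G ⧸ (S : Subgroup G)) ∣ k →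
      g⁻¹ * x ^ k * g ∈ (S : Subgroup G) := fun g k hk => hmem _ g ((hper k _).2 hk)
  let val : G → Multiplicative (ZMod 2) := fun g => φ ⟨_, hval g _ dvd_rfl⟩
  -- moving the representative
  have hmove : ∀ y : G, Commute y x → ∀ g g' : G,
      (g' : G ⧸ (S : Subgroup G)) = y • (g : G ⧸ (S : Subgroup G)) →
      per (g' : G ⧸ (S : Subgroup G)) = per (g : G ⧸ (S : Subgroup G)) ∧ val g' = val g := by
    intro y hy g g' hg'
    have he : per (g' : G ⧸ (S : Subgroup G)) = per (g : G ⧸ (S : Subgroup G)) := by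
      refine Nat.dvd_antisymm ?_ ?_
      · rw [← hper, hg', smul_smul, ← (hy.pow_right _).eq, ← smul_smul, (hper _ _).2 dvd_rfl]
      · rw [← hper]
        have h := (hper _ (g' : G ⧸ (S : Subgroup G))).2 dvd_rfl
        rw [hg', smul_smul, ← (hy.pow_right _).eq, ← smul_smul] at h
        rw [hg']
        exact smul_left_cancel y h
    refine ⟨he, ?_⟩
    obtain ⟨s, hs, hgs⟩ : ∃ s ∈ (S : Subgroup G), g' = y * g * s := by
      refine ⟨(y * g)⁻¹ * g', ?_, by rw [mul_inv_cancel_left]⟩
      rw [← QuotientGroup.eq, hg']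
      rfl
    have e : (⟨_, hval g' _ dvd_rfl⟩ : (S : Subgroup G)) =
        ⟨s, hs⟩⁻¹ * ⟨_, hval g _ dvd_rfl⟩ * ⟨s, hs⟩ := by
      refine Subtype.ext ?_
      show g'⁻¹ * x ^ per (g' : G ⧸ (S : Subgroup G)) * g' =
        s⁻¹ * (g⁻¹ * x ^ per (g : G ⧸ (S : Subgroup G)) * g) * s
      rw [he, hgs]
      generalize hk : per (g : G ⧸ (S : Subgroup G)) = k
      have hc := (hy.pow_right k).eq
      calc (y * g * s)⁻¹ * x ^ k * (y * g * s)
          = s⁻¹ * g⁻¹ * (y⁻¹ * (x ^ k * y)) * g * s := by group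
        _ = _ := by rw [← hc]; group
    show φ ⟨_, hval g' _ dvd_rfl⟩ = φ ⟨_, hval g _ dvd_rfl⟩
    rw [e, map_mul, map_mul, map_inv, inv_mul_cancel_comm]
  -- `P` permutes the orbits of `x`
  let act : P → Q → Q := fun y => Quotient.map' (fun z => (y : G) • z) (by
    rintro z z' ⟨⟨w, hw⟩, hwz⟩
    obtain ⟨k, rfl⟩ := Subgroup.mem_zpowers_iff.1 hw
    refine ⟨⟨x ^ k, k, rfl⟩, ?_⟩
    show x ^ k • (y : G) • z' = (y : G) • z
    rw [smul_smul, ← ((hPx _ y.2).zpow_right k).eq, ← smul_smul]
    exact congrArg _ hwz)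
  let _ : MulAction P Q :=
    { smul := act
      one_smul := fun q => Quotient.inductionOn' q fun z =>
        congrArg Quotient.mk'' (one_smul G z)
      mul_smul := fun y y' q => Quotient.inductionOn' q fun z =>
        congrArg Quotient.mk'' (mul_smul (y : G) (y' : G) z) }
  let f : Q → Multiplicative (ZMod 2) := fun q => val q.out.out
  have hout : ∀ z : G ⧸ (S : Subgroup G), ∃ k : ℤ, (Quotient.mk'' z : Q).out = x ^ k • z := by
    intro z
    obtain ⟨⟨w, hw⟩, hwz⟩ := Quotient.exact' (Quotient.out_eq' (Quotient.mk'' z : Q))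
    obtain ⟨k, rfl⟩ := Subgroup.mem_zpowers_iff.1 hw
    exact ⟨k, hwz.symm⟩
  have hfinv : ∀ (y : P) (q : Q), f (y • q) = f q := by
    intro y q
    obtain ⟨k, hk⟩ := hout ((y : G) • q.out)
    have hq : y • q = (Quotient.mk'' ((y : G) • q.out) : Q) := by
      conv_lhs => rw [← Quotient.out_eq' q]
      rfl
    show val (y • q).out.out = val q.out.out
    refine (hmove (x ^ k * y) (((Commute.refl x).zpow_left k).mul_left (hPx _ y.2)) q.out.out
      (y • q).out.out ?_).2
    rw [QuotientGroup.out_eq', QuotientGroup.out_eq', hq, hk, mul_smul]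
  have key : MonoidHom.transfer φ x = ∏ q, f q := by
    rw [MonoidHom.transfer_eq_prod_quotient_orbitRel_zpowers_quot]
    refine Finset.prod_congr rfl fun q _ => congrArg φ (Subtype.ext ?_)
    show q.out.out⁻¹ * x ^ per q.out * q.out.out =
      q.out.out⁻¹ * x ^ per ((q.out.out : G) : G ⧸ (S : Subgroup G)) * q.out.out
    rw [QuotientGroup.out_eq']
  have hvals := flag_cases
  -- orbits fixed by `P`
  have hfixed : ∀ q : Q, (∀ y : P, y • q = q) →
      (f q = Multiplicative.ofAdd 1 ↔ ∀ y ∈ P, y • q.out = q.out) := by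
    intro q hq
    have horbit : ∀ y : P, ∃ k : ℤ, (y : G) • q.out = x ^ k • q.out := by
      intro y
      have h : (Quotient.mk'' ((y : G) • q.out) : Q) = Quotient.mk'' q.out := by
        rw [Quotient.out_eq']
        conv_rhs => rw [← hq y, ← Quotient.out_eq' q]
        rfl
      obtain ⟨⟨w, hw⟩, hwz⟩ := Quotient.exact' h
      obtain ⟨k, rfl⟩ := Subgroup.mem_zpowers_iff.1 hw
      exact ⟨k, hwz.symm⟩
    by_cases h1 : per q.out = 1
    · have hx1 : x • q.out = q.out := by
        have := (hper 1 q.out).2 (by rw [h1]); rwa [pow_one] at this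
      have hall : ∀ y ∈ P, y • q.out = q.out := by
        intro y hy
        obtain ⟨k, hk⟩ := horbit ⟨y, hy⟩
        rw [hk]
        exact Subgroup.zpow_mem (MulAction.stabilizer G q.out) hx1 k
      refine iff_of_true ?_ hall
      have hall' : ∀ y ∈ P, q.out.out⁻¹ * y * q.out.out ∈ (S : Subgroup G) := fun y hy =>
        hmem y _ (by rw [QuotientGroup.out_eq']; exact hall y hy)
      show φ ⟨_, hval q.out.out _ dvd_rfl⟩ = _
      have e : (⟨_, hval q.out.out _ dvd_rfl⟩ : (S : Subgroup G)) = ⟨_, hall' x hxP⟩ := by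
        refine Subtype.ext ?_
        show q.out.out⁻¹ * x ^ per ((q.out.out : G) : G ⧸ (S : Subgroup G)) * q.out.out = _
        rw [QuotientGroup.out_eq', h1, pow_one]
      rw [e]
      exact hfix _ hall' _
    · have hnot : ¬ ∀ y ∈ P, y • q.out = q.out := fun h => h1 (Nat.dvd_one.1 ((hper 1 q.out).1 (by
        rw [pow_one]; exact h x hxP)))
      refine iff_of_false ?_ hnot
      have h0 : 0 < per q.out := by
        refine Function.minimalPeriod_pos_of_mem_periodicPts ?_
        refine ⟨orderOf x, orderOf_pos x, ?_⟩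
        show (x • ·)^[orderOf x] q.out = q.out
        rw [smul_iterate, pow_orderOf_eq_one]
        exact one_smul G q.out
      set P₀ := P ⊓ MulAction.stabilizer G q.out with hP₀
      have hcard : Nat.card P = per q.out * Nat.card P₀ := by
        have hs : Nat.card P₀ = Nat.card (MulAction.stabilizer P q.out) :=
          (Nat.card_congr (Equiv.subtypeSubtypeEquivSubtypeInter (fun g => g ∈ P) (fun g => g • q.out = q.out))).symm.trans rfl
        have horb' : (MulAction.orbit P q.out) = MulAction.orbit (Subgroup.zpowers x) q.out := by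
          refine Set.Subset.antisymm ?_ ?_
          · rintro _ ⟨y, rfl⟩
            obtain ⟨k, hk⟩ := horbit y
            exact ⟨⟨x ^ k, k, rfl⟩, hk.symm⟩
          · rintro _ ⟨⟨w, hw⟩, rfl⟩
            exact ⟨⟨w, Subgroup.zpowers_le.2 hxP hw⟩, rfl⟩
        rw [hs, ← Subgroup.index_mul_card (MulAction.stabilizer P q.out), MulAction.index_stabilizer, horb',
          ← Nat.card_coe_set_eq]
        congr 1
        exact (Nat.card_congr (MulAction.orbitZPowersEquiv x q.out)).trans (Nat.card_zmod _)
      intro hf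
      have h := horb q.out.out (per q.out) P₀ inf_le_left
        ⟨P.pow_mem hxP _, (hper _ _).2 dvd_rfl⟩ (by omega) hcard
        (fun y hy => hmem y _ (by rw [QuotientGroup.out_eq']; exact hy.2))
        (hval _ _ (by rw [QuotientGroup.out_eq']))
      have e : (⟨_, hval q.out.out _ dvd_rfl⟩ : (S : Subgroup G)) = ⟨_, hval q.out.out (per q.out)
          (by rw [QuotientGroup.out_eq'])⟩ := by
        refine Subtype.ext ?_
        show q.out.out⁻¹ * x ^ per ((q.out.out : G) : G ⧸ (S : Subgroup G)) * q.out.out =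
          q.out.out⁻¹ * x ^ per q.out * q.out.out
        rw [QuotientGroup.out_eq']
      change φ ⟨_, hval q.out.out _ dvd_rfl⟩ = _ at hf
      rw [e, h] at hf
      exact flag_ne_one hf
  -- parity
  let A : SubMulAction P Q :=
    { carrier := {q | f q = Multiplicative.ofAdd 1}
      smul_mem' := fun y q hq => (hfinv y q).trans hq }
  have hA : Nat.card A ≡ 1 [MOD 2] := by
    refine (hP.card_modEq_card_fixedPoints A).trans ?_
    have e : MulAction.fixedPoints P A ≃ MulAction.fixedPoints P (G ⧸ (S : Subgroup G)) :=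
      { toFun := fun a => ⟨a.1.1.out, fun y => (hfixed a.1.1 (fun y => congrArg Subtype.val (a.2 y))).1
          a.1.2 y y.2⟩
        invFun := fun z => ⟨⟨Quotient.mk'' z.1, by
            show f _ = _
            refine (hfixed _ fun y => congrArg Quotient.mk'' (z.2 y)).2 fun y hy => ?_
            obtain ⟨k, hk⟩ := hout z.1
            rw [hk, smul_smul, ((hPx y hy).zpow_right k).eq, ← smul_smul, show y • z.1 = z.1 from z.2 ⟨y, hy⟩]⟩,
          fun y => Subtype.ext (congrArg Quotient.mk'' (z.2 y))⟩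
        left_inv := fun a => Subtype.ext (Subtype.ext (Quotient.out_eq' _))
        right_inv := fun z => Subtype.ext (by
          obtain ⟨k, hk⟩ := hout z.1
          refine hk.trans ?_
          exact z.2 ⟨x ^ k, P.zpow_mem hxP k⟩) }
    rw [Nat.card_congr e]
    refine (hP.card_modEq_card_fixedPoints _).symm.trans ?_
    rw [← Subgroup.index_eq_card]
    have := S.not_dvd_index
    unfold Nat.ModEq
    omega
  rw [key, Finset.prod_comp (fun c => c) f]
  rw [Finset.prod_eq_single (Multiplicative.ofAdd 1)]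
  · have h : (Finset.univ.filter fun q => f q = Multiplicative.ofAdd 1).card = Nat.card A := by
      rw [← Fintype.card_subtype, ← Nat.card_eq_fintype_card]; rfl
    rw [h, ← Nat.div_add_mod (Nat.card A) 2, show Nat.card A % 2 = 1 from hA, pow_succ, pow_mul]
    rw [flag_sq, one_pow, one_mul]
  · intro c _ hc
    rw [(hvals c).resolve_right hc, one_pow]
  · intro h
    have h0 : (Finset.univ.filter fun q => f q = Multiplicative.ofAdd 1).card = 0 := by
      rw [Finset.card_eq_zero, Finset.filter_eq_empty_iff]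
      exact fun q hq e => h (Finset.mem_image.2 ⟨q, hq, e⟩)
    rw [h0, pow_zero]

end CfsgLib.Recog.G2Sylow
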