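import Cfsg.Agent.Lib.Recog.G2Sylow.Struct
import Cfsg.Agent.Lib.Recog.G2Sylow.Transfer

/-!
# The transfer of a translation

If the first coordinate involution of the model is not fused to the central one, the transfer along the
parity character does not kill the translation by `(1, 0)` (owner: helper28).
-/

set_option autoImplicit false
set_option maxHeartbeats 800000

namespace CfsgLib.Recog.G2Sylow

open W

universe u

variable {G : Type u} [Group G] [Finite G] {S : Sylow 2 G} {a : ℕ} (ι : W (2 ^ a) →* G)

/-- the central involution -/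
def zc (a : ℕ) : W (2 ^ a) := tr (half a) (half a)

theorem zc_ne_one (ha : 2 ≤ a) : zc a ≠ 1 := fun h => half_ne_zero ha (congrArg W.x h)

/-- the model as the Sylow subgroup -/
noncomputable def equivSylow (hinj : Function.Injective ι) (hrange : ι.range = (S : Subgroup G)) :
    W (2 ^ a) ≃* (S : Subgroup G) :=
  (MonoidHom.ofInjective hinj).trans (MulEquiv.subgroupCongr hrange)

/-- the parity character on the Sylow subgroup -/
noncomputable def flagChar (ha : 2 ≤ a) (hinj : Function.Injective ι) (hrange : ι.range = (S : Subgroup G)) :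
    (S : Subgroup G) →* Multiplicative (ZMod 2) :=
  (piHom ha).comp (equivSylow ι hinj hrange).symm.toMonoidHom

/-- The transfer of the translation is the flag. -/
theorem transfer_tr_one (ha : 2 ≤ a) (hinj : Function.Injective ι) (hrange : ι.range = (S : Subgroup G))
    (hcon : ¬ IsConj (ι (tr (half a) 0)) (ι (zc a))) :
    MonoidHom.transfer (flagChar ι ha hinj hrange) (ι (tr 1 0)) = Multiplicative.ofAdd 1 := by
  classical
  let e := equivSylow ι hinj hrange
  let φ := flagChar ι ha hinj hrange
  have hφ : ∀ (y : G) (hy : y ∈ (S : Subgroup G)) (r : W (2 ^ a)), ι r = y → φ ⟨y, hy⟩ = piHom ha r := by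
    intro y hy r hr
    show piHom ha (e.symm ⟨y, hy⟩) = _
    rw [show (⟨y, hy⟩ : (S : Subgroup G)) = e r from Subtype.ext hr.symm, e.symm_apply_apply]
  have hpre : ∀ y ∈ (S : Subgroup G), ∃ r, ι r = y := fun y hy => by rwa [← hrange] at hy
  have hP : IsPGroup 2 ↥((T (2 ^ a)).map ι) :=
    S.isPGroup'.to_le (hrange ▸ Subgroup.map_le_range ι _)
  have hcomm : ∀ y ∈ (T (2 ^ a)).map ι, ∀ y' ∈ (T (2 ^ a)).map ι, Commute y y' := by
    rintro _ ⟨p, hp, rfl⟩ _ ⟨q, hq, rfl⟩
    exact (show Commute p q from T_comm hp hq).map ι
  have hxk : ∀ k : ℕ, tr (1 : ZMod (2 ^ a)) 0 ^ k = tr (k : ZMod (2 ^ a)) 0 := fun k => by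
    rw [tr_pow, mul_one, mul_zero]
  have hhalf : tr (1 : ZMod (2 ^ a)) 0 ^ 2 ^ (a - 1) = tr (half a) 0 := hxk _
  refine transfer_eq_flag S φ (x := ι (tr 1 0)) hP ⟨_, tr_mem_T _ _, rfl⟩
    (fun y hy => hcomm y hy _ ⟨_, tr_mem_T _ _, rfl⟩)
    (fun g hg h => by
      obtain ⟨r, hr⟩ := hpre _ h
      rw [hφ _ h r hr]
      let A : Subgroup (W (2 ^ a)) := (((T (2 ^ a)).map ι).map (MulAut.conj g⁻¹).toMonoidHom).comap ι
      have hAle : ((T (2 ^ a)).map ι).map (MulAut.conj g⁻¹).toMonoidHom ≤ ι.range := by
        rintro _ ⟨y, hy, rfl⟩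
        rw [hrange]; simpa using hg y hy
      have hA : A = T (2 ^ a) := by
        refine W.eq_T ha A (fun p hp q hq => ?_) ?_
        · obtain ⟨y, hy, hyp⟩ := hp
          obtain ⟨y', hy', hyq⟩ := hq
          refine hinj ?_
          rw [map_mul, map_mul, ← hyp, ← hyq, ← map_mul, ← map_mul, (hcomm y hy y' hy').eq]
        · rw [← Subgroup.card_map_of_injective (f := ι) (K := A) hinj, Subgroup.map_comap_eq,
            inf_eq_right.2 hAle, Subgroup.card_map_of_injective (MulEquiv.injective _),
            Subgroup.card_map_of_injective (f := ι) hinj, card_T]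
      have hrT : r ∈ T (2 ^ a) := by
        rw [← hA]
        exact ⟨_, ⟨tr 1 0, tr_mem_T _ _, rfl⟩, by rw [hr]; simp⟩
      refine (flag_cases _).resolve_left fun hpi => hcon ?_
      obtain ⟨rx, ry, ra, rb⟩ := r
      obtain ⟨rfl, rfl⟩ : ra = false ∧ rb = false := hrT
      have hpar : par ha rx + par ha ry = 0 := by
        have h0 : par ha (rx + ry) = 0 := Multiplicative.ofAdd.injective hpi
        rwa [map_add] at h0
      have hpow : IsConj (ι (tr (half a) 0)) (ι (tr (half a * rx) (half a * ry))) := by
        rw [show tr (half a * rx) (half a * ry) = tr rx ry ^ 2 ^ (a - 1) from (tr_pow _ _ _).symm,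
          ← hhalf, map_pow, map_pow]
        refine (isConj_iff.2 ⟨g⁻¹, ?_⟩ : IsConj _ _)
        rw [inv_inv, show ι (tr rx ry) = g⁻¹ * ι (tr 1 0) * g from hr]
        simpa using (conj_pow (a := g⁻¹) (b := ι (tr (1 : ZMod (2 ^ a)) 0)) (i := 2 ^ (a - 1))).symm
      rw [half_mul_of_par ha, half_mul_of_par ha] at hpow
      by_cases hx : par ha rx = 0
      · have hy : par ha ry = 0 := by rwa [hx, zero_add] at hpar
        rw [if_pos hx, if_pos hy, show tr (0 : ZMod (2 ^ a)) 0 = 1 from rfl, map_one, isConj_one_left,
          ← map_one ι] at hpow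
        exact absurd (congrArg W.x (hinj hpow)) (half_ne_zero ha)
      · have hy : par ha ry ≠ 0 := fun hy => hx (by rwa [hy, add_zero] at hpar)
        rw [if_neg hx, if_neg hy] at hpow
        exact hpow)
    (fun g n P₀ hle hn hn2 hcard hg h => by
      obtain ⟨r, hr⟩ := hpre _ h
      rw [hφ _ h r hr]
      refine (flag_cases _).resolve_right fun hpi => ?_
      have hpar : par ha r.x + par ha r.y = 1 := by
        have h0 : par ha (r.x + r.y) = 1 := Multiplicative.ofAdd.injective hpi
        rwa [map_add] at h0
      have hcT : Nat.card ↥((T (2 ^ a)).map ι) = 2 ^ (2 * a) := by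
        rw [Subgroup.card_map_of_injective (f := ι) hinj, card_T, ← pow_mul, mul_comm]
      obtain ⟨k, -, hk⟩ := (Nat.dvd_prime_pow Nat.prime_two).1
        (⟨_, (hcT.symm.trans hcard)⟩ : n ∣ 2 ^ (2 * a))
      have hk1 : 1 ≤ k := by
        rcases Nat.eq_zero_or_pos k with rfl | hk1
        · rw [hk, pow_zero] at hn2; omega
        · exact hk1
      have hrm : ∀ m : ℕ, 2 ^ a ∣ n * m → r ^ m = 1 := by
        intro m ⟨c, hc⟩
        refine hinj ?_
        rw [map_pow, hr, map_one]
        have h0 : (ι (tr (1 : ZMod (2 ^ a)) 0) ^ n) ^ m = 1 := by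
          rw [← pow_mul, hc, pow_mul, ← map_pow, hxk, ZMod.natCast_self,
            show tr (0 : ZMod (2 ^ a)) 0 = 1 from rfl, map_one, one_pow]
        rw [show g⁻¹ * ι (tr 1 0) ^ n * g = MulAut.conj g⁻¹ (ι (tr 1 0) ^ n) by simp, ← map_pow, h0,
          map_one]
      have hr2 : r ^ 2 ^ (a - 1) = 1 := hrm _ (by
        rw [hk, ← pow_add]; exact pow_dvd_pow 2 (by omega))
      obtain ⟨rx, ry, ra, rb⟩ := r
      simp only at hpar
      have hodd : ∀ z : ZMod (2 ^ a), par ha z = 1 → half a * z = half a := fun z hz => by
        rw [half_mul_of_par ha, if_neg (by rw [hz]; exact one_ne_zero)]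
      have hsub : ∀ c d : ZMod 2, c + d = 1 → c - d = 1 := by decide
      cases rb
      · cases ra
        · -- a translation
          have h0 := hr2
          rw [show (⟨rx, ry, false, false⟩ : W (2 ^ a)) = tr rx ry from rfl, tr_pow] at h0
          rcases (by decide : ∀ c d : ZMod 2, c + d = 1 → c = 1 ∨ d = 1) _ _ hpar with hx | hy
          · exact half_ne_zero ha ((hodd rx hx).symm.trans (congrArg W.x h0))
          · exact half_ne_zero ha ((hodd ry hy).symm.trans (congrArg W.y h0))
        · -- an involution inverting the translations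
          let B : Subgroup G := P₀.map (MulAut.conj g⁻¹).toMonoidHom
          have hB : ∀ y ∈ P₀, y * y = 1 := by
            intro y hy
            obtain ⟨q, hq⟩ := hpre _ (hg y hy)
            have hq1 : Commute q ⟨rx, ry, true, false⟩ := by
              refine hinj ?_
              rw [map_mul, map_mul, hq, hr,
                show g⁻¹ * y * g * (g⁻¹ * ι (tr 1 0) ^ n * g) = g⁻¹ * (y * ι (tr 1 0) ^ n) * g by group,
                (hcomm y (hle hy) _ (hle hn)).eq]
              group
            have hq2 : q * q = 1 := by
              obtain ⟨qx, qy, qa, qb⟩ := q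
              have e1 := congrArg W.x hq1.eq
              have e2 := congrArg W.y hq1.eq
              cases qb <;> cases qa <;> simp at e1 e2
              · ext <;> simp
                · linear_combination e1
                · linear_combination e2
              · ext <;> simp
              · exfalso
                have h' := congrArg (par ha) (show rx - ry = 2 * qx by linear_combination -e1)
                rw [map_sub, par_two_mul, hsub _ _ hpar] at h'
                exact one_ne_zero h'
              · exfalso
                have h' := congrArg (par ha) (show rx + ry = 2 * qx by linear_combination -e1)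
                rw [map_add, par_two_mul, hpar] at h'
                exact one_ne_zero h'
            have h0 := congrArg ι hq2
            rw [map_mul, hq, map_one, show g⁻¹ * y * g * (g⁻¹ * y * g) = g⁻¹ * (y * y) * g by group] at h0
            calc y * y = g * (g⁻¹ * (y * y) * g) * g⁻¹ := by group
              _ = 1 := by rw [h0, mul_one, mul_inv_cancel]
          have h4 : Nat.card P₀ ≤ 4 := by
            have hs : (P₀ : Set G) ⊆ (({tr 0 0, tr (half a) 0, tr 0 (half a), tr (half a) (half a)} :
                Finset (W (2 ^ a))).image ι) := by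
              intro y hy
              obtain ⟨p, hp, rfl⟩ := hle hy
              have hp2 : p * p = 1 := hinj (by rw [map_mul, map_one]; exact hB _ hy)
              obtain ⟨hp3, hp4⟩ := hp
              have e1 := congrArg W.x hp2
              have e2 := congrArg W.y hp2
              simp [hp3, hp4] at e1 e2
              rw [Finset.coe_image]
              have hp5 := W.two_elementary ha ⟨hp3, hp4⟩
                (show 2 * p.x = 0 by linear_combination e1) (show 2 * p.y = 0 by linear_combination e2)
              exact ⟨p, by simpa using hp5, rfl⟩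
            exact (Nat.card_mono (Finset.finite_toSet _) hs).trans (by
              rw [Nat.card_coe_set_eq, Set.ncard_coe_finset]
              exact Finset.card_image_le.trans Finset.card_le_four)
          have hka : a ≤ k := by
            by_contra hc
            have : n * Nat.card P₀ ≤ 2 ^ k * 2 ^ 2 := by
              rw [hk]; exact Nat.mul_le_mul_left _ h4
            rw [← hcard, hcT, ← pow_add, Nat.pow_le_pow_iff_right (by norm_num)] at this
            omega
          have h0 := hrm 1 (by rw [hk, mul_one]; exact pow_dvd_pow 2 hka)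
          rw [pow_one] at h0
          exact absurd (congrArg W.a h0) (by simp)
      · -- elements moving the coordinates
        have hsq : (⟨rx, ry, ra, true⟩ : W (2 ^ a)) ^ 2 =
            tr (rx + sg _ ra * ry) (ry + sg _ ra * rx) := by
          rw [pow_two]; ext <;> simp [tr]
        have hr3 : ((⟨rx, ry, ra, true⟩ : W (2 ^ a)) ^ 2) ^ 2 ^ (a - 1) = 1 := by
          rw [← pow_mul, mul_comm, pow_mul, hr2, one_pow]
        rw [hsq, tr_pow] at hr3
        refine half_ne_zero ha ((hodd _ ?_).symm.trans (congrArg W.x hr3))
        cases ra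
        · simpa [map_add] using hpar
        · simp only [sg_true, neg_mul, one_mul, ← sub_eq_add_neg, map_sub]
          exact hsub _ _ hpar)

end CfsgLib.Recog.G2Sylow
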