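import Cfsg.Agent.Lib.Recog.G2Sylow.Struct
import Cfsg.Agent.Lib.Recog.G2Sylow.TransferT
import Cfsg.Agent.Lib.Transfer.ThompsonTransfer

/-!
# Involution classes of a simple group with Sylow 2-subgroup `(C_N × C_N) : ⟨inversion, swap⟩`

All involutions are conjugate, or `N = 4` and there are exactly two classes (owner: helper28).
-/

set_option autoImplicit false
set_option maxHeartbeats 800000

namespace CfsgLib.Recog.G2Sylow

open W

universe u

theorem ofAdd_fl : ∀ c : Bool, Multiplicative.ofAdd (fl c) = (1 : Multiplicative (ZMod 2)) ↔ c = false := by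
  decide

theorem ofAdd_fl_pair : ∀ c d : Bool,
    Multiplicative.ofAdd (fl c) * Multiplicative.ofAdd (fl d) = (1 : Multiplicative (ZMod 2)) → c = d := by
  decide

theorem add_fl_false : ∀ c d : ZMod 2, c + d + fl false = 0 → c = d := by decide

theorem fl_true_ne : (0 : ZMod 2) + fl true ≠ 0 := by decide

variable {G : Type u} [Group G] [Finite G] [IsSimpleGroup G] {S : Sylow 2 G} {a : ℕ}
  (ι : W (2 ^ a) →* G)

theorem not_isMulCommutative (ha : 2 ≤ a) (hinj : Function.Injective ι) : ¬ IsMulCommutative G := by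
  intro h
  have he : tr (half a) 0 * ss = ss * tr (half a) (0 : ZMod (2 ^ a)) :=
    hinj (by rw [map_mul, map_mul]; exact h.is_comm.comm _ _)
  have := congrArg W.x he
  simp [tr, ss] at this
  exact half_ne_zero ha this

theorem orderOf_map (hinj : Function.Injective ι) {p : W (2 ^ a)} (h1 : p ≠ 1) (h2 : p * p = 1) :
    orderOf (ι p) = 2 := by
  rw [orderOf_injective ι hinj]
  exact orderOf_eq_prime (by rw [pow_two]; exact h2) h1

theorem range_rel (hrange : ι.range = (S : Subgroup G)) (p : W (2 ^ a)) : ι p ∈ (S : Subgroup G) :=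
  hrange ▸ ⟨p, rfl⟩

/-- Thompson transfer along a character of the model. -/
theorem fuse (ha : 2 ≤ a) (hinj : Function.Injective ι) (hrange : ι.range = (S : Subgroup G))
    (ψ : W (2 ^ a) →* Multiplicative (ZMod 2)) (hψ : ∃ r, ψ r ≠ 1) {p : W (2 ^ a)} (h1 : p ≠ 1)
    (h2 : p * p = 1) :
    ∃ r, ψ r = 1 ∧ r ≠ 1 ∧ r * r = 1 ∧ IsConj (ι p) (ι r) := by
  have hidx : ψ.ker.index = 2 := by
    have hsur : Function.Surjective ψ := by
      intro c
      obtain ⟨r, hr⟩ := hψ
      rcases flag_cases c with rfl | rfl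
      · exact ⟨1, map_one _⟩
      · exact ⟨r, (flag_cases _).resolve_left hr⟩
    rw [Subgroup.index_ker, MonoidHom.range_eq_top.2 hsur]
    simp
  have hrel : (ψ.ker.map ι).relIndex (S : Subgroup G) = 2 := by
    rw [← hrange, MonoidHom.range_eq_map, Subgroup.relIndex_map_map_of_injective _ _ hinj,
      Subgroup.relIndex_top_right, hidx]
  rcases CfsgLib.Transfer.thompson_transfer S _ hrel (orderOf_map ι hinj h1 h2) with
    ⟨M, hM, hMi, -⟩ | ⟨g, r, hr, hg⟩
  · exfalso
    rcases hM.eq_bot_or_eq_top with h | h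
    · rw [h, Subgroup.index_bot] at hMi
      exact not_isMulCommutative ι ha hinj
        (haveI := isCyclic_of_prime_card (α := G) (p := 2) hMi; inferInstance)
    · rw [h, Subgroup.index_top] at hMi; omega
  · refine ⟨r, hr, ?_, ?_, isConj_iff.2 ⟨g, hg.symm⟩⟩
    · rintro rfl
      rw [map_one, eq_comm, conj_eq_one_iff, ← map_one ι] at hg
      exact h1 (hinj hg)
    · apply hinj
      rw [map_mul, hg, map_one, show g * ι p * g⁻¹ * (g * ι p * g⁻¹) = g * (ι p * ι p) * g⁻¹ by group,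
        ← map_mul, h2, map_one, mul_one, mul_inv_cancel]

/-- the first coordinate involution is fused to the central one -/
theorem conj_half (ha : 2 ≤ a) (hinj : Function.Injective ι) (hrange : ι.range = (S : Subgroup G)) :
    IsConj (ι (tr (half a) 0)) (ι (zc a)) := by
  classical
  by_contra hcon
  have h1 := transfer_tr_one ι ha hinj hrange hcon
  let φ := flagChar ι ha hinj hrange
  refine flag_ne_one ?_
  rw [← h1]
  refine (?_ : (MonoidHom.transfer φ) (ι (tr 1 0)) = 1).symm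
  rcases (MonoidHom.transfer φ).normal_ker.eq_bot_or_eq_top with h | h
  · exact absurd ⟨⟨fun p q => (MonoidHom.transfer φ).ker_eq_bot_iff.1 h
      (by rw [map_mul, map_mul, mul_comm])⟩⟩ (not_isMulCommutative ι ha hinj)
  · exact MonoidHom.mem_ker.1 (h.symm ▸ Subgroup.mem_top _)

/-- All involutions are conjugate, or the Sylow subgroup has order 64 and there are two classes. -/
theorem classes (ha : 2 ≤ a) (hinj : Function.Injective ι) (hrange : ι.range = (S : Subgroup G)) :
    (∀ x y : G, orderOf x = 2 → orderOf y = 2 → IsConj x y) ∨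
      (a = 2 ∧ ∃ x y : G, orderOf x = 2 ∧ orderOf y = 2 ∧ ¬ IsConj x y ∧
        ∀ z : G, orderOf z = 2 → IsConj z x ∨ IsConj z y) := by
  classical
  have : Fact (Nat.Prime 2) := ⟨Nat.prime_two⟩
  let K : W (2 ^ a) → Prop := fun p => IsConj (ι p) (ι (zc a))
  have hW : ∀ {p q : W (2 ^ a)}, IsConj p q → IsConj (ι p) (ι q) := fun h => ι.map_isConj h
  have hz2 : zc a * zc a = 1 := by
    ext <;> simp [zc, tr] <;> linear_combination two_half ha
  have hss : (ss : W (2 ^ a)) ≠ 1 ∧ (ss : W (2 ^ a)) * ss = 1 :=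
    ⟨fun h => by simpa [ss] using congrArg W.b h, by ext <;> simp [ss]⟩
  have hus : (us : W (2 ^ a)) ≠ 1 ∧ (us : W (2 ^ a)) * us = 1 :=
    ⟨fun h => by simpa [us] using congrArg W.b h, by ext <;> simp [us]⟩
  have hhalf : K (tr (half a) 0) := conj_half ι ha hinj hrange
  have hT : ∀ p : W (2 ^ a), p ≠ 1 → p * p = 1 → p.a = false → p.b = false → K p := by
    intro p h1 h2 h3 h4
    have e1 := congrArg W.x h2
    have e2 := congrArg W.y h2
    simp [h3, h4] at e1 e2
    rcases W.two_elementary ha ⟨h3, h4⟩ (by linear_combination e1) (by linear_combination e2) with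
      e | e | e | e <;> rw [e] at h1 ⊢
    · exact absurd rfl h1
    · exact hhalf
    · refine IsConj.trans (hW (isConj_iff.2 ⟨ss, ?_⟩)) hhalf
      ext <;> simp [ss, tr]
    · exact IsConj.refl _
  have hkind : ∀ p : W (2 ^ a), p ≠ 1 → p * p = 1 →
      K p ∨ (p.a = true ∧ p.b = false) ∨ (p.a = false ∧ p.b = true ∧ IsConj (ι p) (ι ss)) ∨
        (p.a = true ∧ p.b = true ∧ IsConj (ι p) (ι us)) := by
    intro p h1 h2
    rcases W.inv_cases ha h2 with ⟨e1, e2, -, -⟩ | h | ⟨e1, e2, e3⟩ | ⟨e1, e2, e3⟩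
    · exact Or.inl (hT p h1 h2 e1 e2)
    · exact Or.inr (Or.inl h)
    · exact Or.inr (Or.inr (Or.inl ⟨e1, e2, hW (W.conj_ss ha e1 e2 e3)⟩))
    · exact Or.inr (Or.inr (Or.inr ⟨e1, e2, hW (W.conj_us ha e1 e2 e3)⟩))
  let ψb : W (2 ^ a) →* Multiplicative (ZMod 2) :=
    MonoidHom.mk' (fun p => Multiplicative.ofAdd (fl p.b)) fun p r =>
      congrArg Multiplicative.ofAdd (fl_xor p.b r.b)
  let ψa : W (2 ^ a) →* Multiplicative (ZMod 2) :=
    MonoidHom.mk' (fun p => Multiplicative.ofAdd (fl p.a)) fun p r =>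
      congrArg Multiplicative.ofAdd (fl_xor p.a r.a)
  have hfl := ofAdd_fl
  -- an involution inverting the translations
  have hu : ∀ p : W (2 ^ a), p.a = true → p.b = false →
      K p ∨ (IsConj (ι p) (ι ss) ∧ IsConj (ι p) (ι us)) := by
    intro p h3 h4
    have h1 : p ≠ 1 := fun h => by simp [h] at h3
    have h2 : p * p = 1 := by ext <;> simp [h3, h4]
    by_cases hK : K p
    · exact Or.inl hK
    refine Or.inr ⟨?_, ?_⟩
    · obtain ⟨r, hr, hr1, hr2, hpr⟩ := fuse ι ha hinj hrange ψa ⟨us, by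
        show Multiplicative.ofAdd (fl (us : W (2 ^ a)).a) ≠ 1; simp [hfl, us]⟩ h1 h2
      have hra : r.a = false := (hfl _).1 hr
      rcases hkind r hr1 hr2 with h | ⟨h, -⟩ | ⟨-, -, h⟩ | ⟨h, -, -⟩
      · exact absurd (hpr.trans h) hK
      · rw [hra] at h; exact absurd h (by simp)
      · exact hpr.trans h
      · rw [hra] at h; exact absurd h (by simp)
    · obtain ⟨r, hr, hr1, hr2, hpr⟩ := fuse ι ha hinj hrange (ψa * ψb) ⟨ss, by
        show Multiplicative.ofAdd (fl (ss : W (2 ^ a)).a) * Multiplicative.ofAdd (fl (ss : W (2 ^ a)).b) ≠ 1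
        simp [fl, ss]⟩ h1 h2
      have hab : r.a = r.b := ofAdd_fl_pair _ _ hr
      rcases hkind r hr1 hr2 with h | ⟨e1, e2⟩ | ⟨e1, e2, -⟩ | ⟨-, -, h⟩
      · exact absurd (hpr.trans h) hK
      · rw [e1, e2] at hab; exact absurd hab (by simp)
      · rw [e1, e2] at hab; exact absurd hab (by simp)
      · exact hpr.trans h
  -- the two outer classes
  have hswap : ∀ p : W (2 ^ a), p ≠ 1 → p * p = 1 →
      K p ∨ ∃ c : W (2 ^ a), IsConj (ι p) (ι c) ∧ IsConj (ι c) (ι ss) ∧ IsConj (ι c) (ι us) := by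
    intro p h1 h2
    by_cases hK : K p
    · exact Or.inl hK
    obtain ⟨r, hr, hr1, hr2, hpr⟩ := fuse ι ha hinj hrange ψb ⟨ss, by
      show Multiplicative.ofAdd (fl (ss : W (2 ^ a)).b) ≠ 1; simp [hfl, ss]⟩ h1 h2
    have hrb : r.b = false := (hfl _).1 hr
    rcases hkind r hr1 hr2 with h | ⟨e1, e2⟩ | ⟨-, h, -⟩ | ⟨-, h, -⟩
    · exact absurd (hpr.trans h) hK
    · rcases hu r e1 e2 with h | h
      · exact absurd (hpr.trans h) hK
      · exact Or.inr ⟨r, hpr, h⟩
    · rw [hrb] at h; exact absurd h (by simp)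
    · rw [hrb] at h; exact absurd h (by simp)
  have hall : ∀ x : G, orderOf x = 2 → IsConj x (ι (zc a)) ∨ IsConj x (ι ss) := by
    intro x hx
    have hxp : IsPGroup 2 (Subgroup.zpowers x) :=
      IsPGroup.of_card (n := 1) (by rw [Nat.card_zpowers, hx, pow_one])
    obtain ⟨R, hR⟩ := hxp.exists_le_sylow
    obtain ⟨g, hg⟩ := MulAction.exists_smul_eq G R S
    have hxS : g * x * g⁻¹ ∈ ι.range := by
      rw [hrange, ← hg, Sylow.coe_subgroup_smul]
      exact Subgroup.smul_mem_pointwise_smul _ (MulAut.conj g) _ (hR (Subgroup.mem_zpowers x))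
    obtain ⟨r, hr⟩ := hxS
    have hxr : IsConj x (ι r) := isConj_iff.2 ⟨g, hr.symm⟩
    have hr1 : r ≠ 1 := by
      rintro rfl
      rw [map_one, eq_comm, conj_eq_one_iff] at hr
      rw [hr, orderOf_one] at hx; omega
    have hr2 : r * r = 1 := hinj (by
      rw [map_mul, map_one, hr, show g * x * g⁻¹ * (g * x * g⁻¹) = g * x ^ 2 * g⁻¹ by rw [pow_two]; group,
        ← hx, pow_orderOf_eq_one, mul_one, mul_inv_cancel])
    rcases hswap r hr1 hr2 with h | ⟨c, hc, hcs, -⟩
    · exact Or.inl (hxr.trans h)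
    · exact Or.inr (hxr.trans (hc.trans hcs))
  by_cases hsK : K ss
  · left
    have h : ∀ x : G, orderOf x = 2 → IsConj x (ι (zc a)) := fun x hx =>
      (hall x hx).elim id fun h => h.trans hsK
    exact fun x y hx hy => (h x hx).trans (h y hy).symm
  refine Or.inr ⟨?_, ι (zc a), ι ss, orderOf_map ι hinj (zc_ne_one ha) hz2,
    orderOf_map ι hinj hss.1 hss.2, fun h => hsK h.symm, hall⟩
  -- the outer classes of a group with two classes force `N = 4`
  by_contra ha2
  have ha3 : 3 ≤ a := by omega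
  have husK : ¬ K us := by
    intro h
    rcases hswap ss hss.1 hss.2 with h' | ⟨c, hc, -, hcu⟩
    · exact hsK h'
    · exact hsK (hc.trans (hcu.trans h))
  obtain ⟨c, hca, hcb, hcxy, hcs⟩ : ∃ c : W (2 ^ a), c.a = true ∧ c.b = false ∧ c.y = c.x ∧
      IsConj (ι c) (ι ss) := by
    obtain ⟨r, hr, hr1, hr2, hpr⟩ := fuse ι ha hinj hrange (piHom ha * ψb) ⟨ss, by
      show Multiplicative.ofAdd (par ha ((ss : W (2 ^ a)).x + (ss : W (2 ^ a)).y)) *
        Multiplicative.ofAdd (fl (ss : W (2 ^ a)).b) ≠ 1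
      simp [fl, ss]⟩ hss.1 hss.2
    have hr' : par ha (r.x + r.y) + fl r.b = 0 := Multiplicative.ofAdd.injective hr
    rcases W.inv_cases ha hr2 with ⟨e1, e2, -, -⟩ | ⟨e1, e2⟩ | ⟨e1, e2, e3⟩ | ⟨e1, e2, e3⟩
    · exact absurd (hpr.trans (hT r hr1 hr2 e1 e2)) hsK
    · rw [e2, map_add] at hr'
      have hxy : par ha r.x = par ha r.y :=
        add_fl_false _ _ hr'
      refine ⟨⟨r.x, r.x, true, false⟩, rfl, rfl, rfl, ?_⟩
      exact (hW (W.conj_of_par ha (p := ⟨r.x, r.x, true, false⟩) (r := r) rfl rfl e1 e2 rfl hxy)).trans hpr.symm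
    · rw [e2, e3, add_neg_cancel, map_zero] at hr'; exact absurd hr' fl_true_ne
    · rw [e2, e3, ← two_mul, par_two_mul] at hr'; exact absurd hr' fl_true_ne
  have hcK : ¬ K c := fun h => hsK (hcs.symm.trans h)
  -- move the centraliser of `c` into `S` with a centraliser of maximal order
  let Cc : Subgroup (W (2 ^ a)) := Subgroup.centralizer {c}
  have hCp : IsPGroup 2 ↥((Cc.map ι).subgroupOf (Subgroup.centralizer {ι c})) :=
    (S.isPGroup'.to_le (hrange ▸ Subgroup.map_le_range ι Cc)).comap_of_injective _ Subtype.val_injective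
  obtain ⟨R, hR⟩ := hCp.exists_le_sylow
  obtain ⟨Q, hQ⟩ := (R.isPGroup'.map (Subgroup.centralizer {ι c}).subtype).exists_le_sylow
  obtain ⟨g, hg⟩ := MulAction.exists_smul_eq G Q S
  have hRS : ∀ y ∈ (R : Subgroup (Subgroup.centralizer {ι c})), g * (y : G) * g⁻¹ ∈ ι.range := fun y hy => by
    rw [hrange, ← hg, Sylow.coe_subgroup_smul]
    exact Subgroup.smul_mem_pointwise_smul _ (MulAut.conj g) _ (hQ ⟨y, hy, rfl⟩)
  have hin : ∀ p : W (2 ^ a), Commute p c → ∃ r, ι r = g * ι p * g⁻¹ := by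
    intro p hp
    refine hRS ⟨ι p, Subgroup.mem_centralizer_singleton_iff.2 (hp.map ι).eq⟩ (hR ?_)
    exact ⟨p, Subgroup.mem_centralizer_singleton_iff.2 hp.eq, rfl⟩
  obtain ⟨y₀, hy₀⟩ := hin c (Commute.refl c)
  have hy₀1 : y₀ ≠ 1 := by
    rintro rfl
    rw [map_one, eq_comm, conj_eq_one_iff, ← map_one ι] at hy₀
    have := congrArg W.a (hinj hy₀); rw [hca] at this; exact absurd this (by simp)
  have hy₀2 : y₀ * y₀ = 1 := hinj (by
    rw [map_mul, hy₀, map_one, show g * ι c * g⁻¹ * (g * ι c * g⁻¹) = g * (ι c * ι c) * g⁻¹ by group,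
      ← map_mul, show c * c = 1 by ext <;> simp [hca, hcb, hcxy], map_one, mul_one, mul_inv_cancel])
  have hcy₀ : IsConj (ι c) (ι y₀) := isConj_iff.2 ⟨g, hy₀.symm⟩
  have hbig : 4 * 2 ^ a ≤ Nat.card R := by
    obtain ⟨h, hh⟩ := isConj_iff.1 hcs.symm
    have hle : ∀ p ∈ Subgroup.centralizer ({ss} : Set (W (2 ^ a))),
        h * ι p * h⁻¹ ∈ Subgroup.centralizer {ι c} := by
      intro p hp
      rw [Subgroup.mem_centralizer_singleton_iff, ← hh]
      have e := congrArg ι (Subgroup.mem_centralizer_singleton_iff.1 hp)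
      rw [map_mul, map_mul] at e
      calc h * ι p * h⁻¹ * (h * ι ss * h⁻¹) = h * (ι p * ι ss) * h⁻¹ := by group
        _ = h * (ι ss * ι p) * h⁻¹ := by rw [e]
        _ = _ := by group
    let f : Subgroup.centralizer ({ss} : Set (W (2 ^ a))) →* Subgroup.centralizer {ι c} :=
      ((MulAut.conj h).toMonoidHom.comp (ι.comp (Subgroup.subtype _))).codRestrict _ fun p => hle p p.2
    have hfinj : Function.Injective f := fun p q e =>
      Subtype.ext (hinj ((MulAut.conj h).injective (congrArg Subtype.val e)))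
    have hWp : IsPGroup 2 (W (2 ^ a)) := by
      refine IsPGroup.of_card (n := 2 + a * 2) ?_
      rw [card_eq, pow_add, pow_mul]; norm_num
    obtain ⟨R', hR'⟩ := ((hWp.to_subgroup _).of_surjective f.rangeRestrict
      f.rangeRestrict_surjective).exists_le_sylow
    have h3 : Nat.card (ZMod (2 ^ a) × Bool × Bool) ≤ Nat.card (Subgroup.centralizer ({ss} : Set (W (2 ^ a)))) :=
      Nat.card_le_card_of_injective (fun t => ⟨⟨t.1, t.1, t.2.1, t.2.2⟩,
        Subgroup.mem_centralizer_singleton_iff.2 (by ext <;> simp [ss, Bool.xor_comm])⟩) (fun t t' e => by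
          simp only [Subtype.mk.injEq, W.mk.injEq] at e
          exact Prod.ext e.1 (Prod.ext e.2.2.1 e.2.2.2))
    rw [Nat.card_prod, Nat.card_prod, Nat.card_zmod] at h3
    simp only [Nat.card_eq_fintype_card, Fintype.card_bool] at h3
    rw [Sylow.card_eq_multiplicity R, ← Sylow.card_eq_multiplicity R']
    refine le_trans ?_ (Subgroup.card_le_of_le hR')
    rw [← Nat.card_congr (MonoidHom.ofInjective hfinj).toEquiv]
    omega
  obtain ⟨g₁, y, hy, hysu, hin₁⟩ : ∃ (g₁ : G) (y : W (2 ^ a)), ι y = g₁ * ι c * g₁⁻¹ ∧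
      (y = ss ∨ y = us) ∧ ∀ p : W (2 ^ a), Commute p c → ∃ r, ι r = g₁ * ι p * g₁⁻¹ := by
    have key : ∀ q : W (2 ^ a), (q = ss ∨ q = us) → IsConj y₀ q →
        ∃ (g₁ : G) (y : W (2 ^ a)), ι y = g₁ * ι c * g₁⁻¹ ∧ (y = ss ∨ y = us) ∧
          ∀ p : W (2 ^ a), Commute p c → ∃ r, ι r = g₁ * ι p * g₁⁻¹ := by
      intro q hq hyq
      obtain ⟨w, hw⟩ := isConj_iff.1 hyq
      refine ⟨ι w * g, q, ?_, hq, fun p hp => ?_⟩
      · rw [← hw, map_mul, map_mul, map_inv, hy₀]; group
      · obtain ⟨r, hr⟩ := hin p hp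
        exact ⟨w * r * w⁻¹, by rw [map_mul, map_mul, map_inv, hr]; group⟩
    rcases W.inv_cases ha hy₀2 with ⟨e1, e2, -, -⟩ | ⟨e1, e2⟩ | ⟨e1, e2, e3⟩ | ⟨e1, e2, e3⟩
    · exact absurd (hcy₀.trans (hT y₀ hy₀1 hy₀2 e1 e2)) hcK
    · exfalso
      let A : Subgroup (W (2 ^ a)) := Subgroup.centralizer {y₀}
      have hA : Nat.card R ≤ Nat.card A := by
        refine Nat.card_le_card_of_injective (fun w : R => (⟨(hRS _ w.2).choose, ?_⟩ : A)) ?_
        · refine Subgroup.mem_centralizer_singleton_iff.2 (hinj ?_)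
          rw [map_mul, map_mul, (hRS _ w.2).choose_spec, hy₀]
          have := Subgroup.mem_centralizer_singleton_iff.1 (w.1).2
          calc g * (w.1 : G) * g⁻¹ * (g * ι c * g⁻¹) = g * ((w.1 : G) * ι c) * g⁻¹ := by group
            _ = g * (ι c * (w.1 : G)) * g⁻¹ := by rw [this]
            _ = _ := by group
        · intro w w' e
          have e' := congrArg ι (congrArg Subtype.val e)
          rw [(hRS _ w.2).choose_spec, (hRS _ w'.2).choose_spec] at e'
          exact Subtype.ext (Subtype.ext ((MulAut.conj g).injective e'))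
      have h4 := card_commutant_le_four ha A (r := y₀)
        (fun p hp => Subgroup.mem_centralizer_singleton_iff.1 hp) e2 e1
      have h4' : Nat.card ↥(A.map (flags (2 ^ a))) ≤ 4 :=
        (Nat.card_le_card_of_injective (Subgroup.subtype _) Subtype.val_injective).trans (by simp)
      have := card_le_inf_mul A
      have := Nat.mul_le_mul h4 h4'
      have : 2 ^ 3 ≤ 2 ^ a := Nat.pow_le_pow_right (by norm_num) ha3
      omega
    · exact key ss (Or.inl rfl) (W.conj_ss ha e1 e2 e3)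
    · exact key us (Or.inr rfl) (W.conj_us ha e1 e2 e3)
  have hysb : y.b = true := by rcases hysu with rfl | rfl <;> rfl
  -- the image of the dihedral group of order eight
  have hcw : ∀ p : W (2 ^ a), Commute p c → ∀ r, ι r = g₁ * ι p * g₁⁻¹ → (K r ↔ K p) := by
    intro p _ r hr
    have h : IsConj (ι p) (ι r) := isConj_iff.2 ⟨g₁, hr.symm⟩
    exact ⟨fun h' => h.trans h', fun h' => h.symm.trans h'⟩
  have hec : Commute (tr (half a) (0 : ZMod (2 ^ a))) c := by
    have := two_half ha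
    show _ = _
    ext <;> simp [tr, hca, hcb]
    linear_combination this
  have hsc : Commute (ss : W (2 ^ a)) c := by
    show _ = _
    ext <;> simp [ss, hca, hcb, hcxy]
  obtain ⟨a', ha'⟩ := hin₁ _ hec
  obtain ⟨b', hb'⟩ := hin₁ _ hsc
  obtain ⟨v, p, hv, hvb, hvK, hp4, hp2, hp1⟩ : ∃ v p : W (2 ^ a), ι v = g₁ * ι p * g₁⁻¹ ∧
      v.b = false ∧ ¬ K v ∧ (tr (half a) 0 * p) ^ 4 = 1 ∧ p * p = 1 ∧ p ≠ 1 := by
    have hpow : ∀ p : W (2 ^ a), p.b = true → p.y = sg _ p.a * p.x * (-1) →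
        (tr (half a) 0 * p) ^ 4 = 1 := by
      intro p h1 h2
      obtain ⟨px, py, pa, pb⟩ := p
      simp only at h1 h2
      subst h1
      have := two_half ha
      rw [show (4 : ℕ) = 2 * 2 from rfl, pow_mul, pow_two, pow_two]
      cases pa <;> ext <;> simp [tr] at h2 ⊢ <;> subst h2 <;>
        first
          | linear_combination 2 * this
          | linear_combination (-2 : ZMod (2 ^ a)) * this
          | linear_combination (-1 : ZMod (2 ^ a)) * this
          | linear_combination this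
    by_cases hb : b'.b = false
    · exact ⟨b', ss, hb', hb, fun h => hsK ((hcw _ hsc b' hb').1 h), hpow ss rfl (by simp [ss]),
        hss.2, hss.1⟩
    · have hsc' : Commute (ss * c : W (2 ^ a)) c := hsc.mul_left (Commute.refl c)
      have hbc : ι (b' * y) = g₁ * ι (ss * c) * g₁⁻¹ := by rw [map_mul, map_mul, hb', hy]; group
      refine ⟨b' * y, ss * c, hbc, by simp [hysb, show b'.b = true by simpa using hb], fun h => ?_,
        hpow _ (by simp [ss, hcb]) (by simp [ss, hca, hcxy]), by ext <;> simp [ss, hca, hcb, hcxy],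
        fun h => by have := congrArg W.b h; simp [ss, hcb] at this⟩
      have h' := (hcw _ hsc' _ hbc).1 h
      exact husK ((hW (W.conj_us ha (by simp [ss, hca]) (by simp [ss, hcb])
        (by simp [ss, hcxy]))).symm.trans h')
  have hv1 : v ≠ 1 := by
    rintro rfl
    rw [map_one, eq_comm, conj_eq_one_iff, ← map_one ι] at hv
    exact hp1 (hinj hv)
  have hv2 : v * v = 1 := hinj (by
    rw [map_mul, hv, map_one, show g₁ * ι p * g₁⁻¹ * (g₁ * ι p * g₁⁻¹) = g₁ * (ι p * ι p) * g₁⁻¹ by group,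
      ← map_mul, hp2, map_one, mul_one, mul_inv_cancel])
  have hva : v.a = true := by
    by_contra h
    exact hvK (hT v hv1 hv2 (by simpa using h) hvb)
  have haK : K a' := (hcw _ hec a' ha').2 hhalf
  have ha'1 : a' ≠ 1 := by
    rintro rfl
    rw [map_one, eq_comm, conj_eq_one_iff, ← map_one ι] at ha'
    exact half_ne_zero ha (congrArg W.x (hinj ha'))
  have ha'2 : a' * a' = 1 := hinj (by
    rw [map_mul, ha', map_one,
      show g₁ * ι (tr (half a) 0) * g₁⁻¹ * (g₁ * ι (tr (half a) 0) * g₁⁻¹) =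
        g₁ * (ι (tr (half a) 0) * ι (tr (half a) 0)) * g₁⁻¹ by group,
      ← map_mul, show tr (half a) (0 : ZMod (2 ^ a)) * tr (half a) 0 = 1 by
        ext <;> simp [tr]; linear_combination two_half ha,
      map_one, mul_one, mul_inv_cancel])
  have ha'ab : a'.a = true ∧ a'.b = false := by
    rcases W.inv_cases ha ha'2 with ⟨e1, e2, e3, e4⟩ | h | ⟨e1, e2, e3⟩ | ⟨e1, e2, e3⟩
    · exfalso
      have hcy : Commute a' y := hinj (by
        rw [map_mul, map_mul, ha', hy,
          show g₁ * ι (tr (half a) 0) * g₁⁻¹ * (g₁ * ι c * g₁⁻¹) =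
            g₁ * (ι (tr (half a) 0) * ι c) * g₁⁻¹ by group, (hec.map ι).eq]
        group)
      have hxy : a'.y = a'.x := by
        have h := (commute_cases ha ⟨e1, e2⟩ hcy).1 hysb
        rcases hysu with rfl | rfl
        · exact h.1 rfl
        · rw [h.2 rfl]; linear_combination -e3
      have hcen : Commute a' b' := by
        obtain ⟨bx, byy, ba, bb⟩ := b'
        obtain ⟨ax, ay, aa, ab⟩ := a'
        simp only at e1 e2 e3 hxy
        subst e1 e2 hxy
        show _ = _
        cases ba <;> cases bb <;> ext <;> simp <;>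
          first
            | linear_combination e3
            | linear_combination -e3
            | linear_combination (0 : ZMod (2 ^ a)) * e3
      have h := congrArg ι hcen.eq
      rw [map_mul, map_mul, ha', hb',
        show g₁ * ι (tr (half a) 0) * g₁⁻¹ * (g₁ * ι ss * g₁⁻¹) = g₁ * (ι (tr (half a) 0) * ι ss) * g₁⁻¹ by group,
        show g₁ * ι ss * g₁⁻¹ * (g₁ * ι (tr (half a) 0) * g₁⁻¹) = g₁ * (ι ss * ι (tr (half a) 0)) * g₁⁻¹ by group,
        ← map_mul, ← map_mul] at h
      have h' := congrArg W.x (hinj (mul_left_cancel (mul_right_cancel h)))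
      simp [tr, ss] at h'
      exact half_ne_zero ha h'
    · exact h
    · exact absurd ((hW (W.conj_ss ha e1 e2 e3)).symm.trans haK) hsK
    · exact absurd ((hW (W.conj_us ha e1 e2 e3)).symm.trans haK) husK
  have hfour : (a' * v) ^ 4 = 1 := hinj (by
    have h : ι (a' * v) = MulAut.conj g₁ (ι (tr (half a) 0 * p)) := by
      rw [map_mul, map_mul, ha', hv, MulAut.conj_apply]; group
    rw [map_pow, h, ← map_pow, ← map_pow, hp4, map_one, map_one])
  obtain ⟨ax, ay, aa, ab⟩ := a'
  obtain ⟨vx, vy, va, vb⟩ := v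
  obtain ⟨rfl, rfl⟩ : aa = true ∧ ab = false := ha'ab
  simp only at hvb hva
  subst hvb hva
  rw [show (⟨ax, ay, true, false⟩ : W (2 ^ a)) * ⟨vx, vy, true, false⟩ = tr (ax - vx) (ay - vy) by
    ext <;> simp [tr, sub_eq_add_neg], tr_pow] at hfour
  have hpx := par_of_four_mul ha3 (show 4 * (ax - vx) = 0 by simpa [tr] using congrArg W.x hfour)
  have hpy := par_of_four_mul ha3 (show 4 * (ay - vy) = 0 by simpa [tr] using congrArg W.y hfour)
  rw [map_sub, sub_eq_zero] at hpx hpy
  exact hvK ((hW (W.conj_of_par ha (p := ⟨ax, ay, true, false⟩) (r := ⟨vx, vy, true, false⟩)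
    rfl rfl rfl rfl hpx hpy)).symm.trans haK)

end CfsgLib.Recog.G2Sylow
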