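import Mathlib

/-!
# The group `(C_N × C_N) : ⟨inversion, swap⟩`

For `N = 2 ^ a`, `a ≥ 2`, this is the Sylow 2-subgroup of `G₂(q)`, `q` odd (owner: helper28).
-/

set_option autoImplicit false

namespace CfsgLib.Recog.G2Sylow

/-- The elements: a pair of residues, an inversion flag and a swap flag. -/
@[ext]
structure W (N : ℕ) where
  /-- first coordinate -/
  x : ZMod N
  /-- second coordinate -/
  y : ZMod N
  /-- inversion flag -/
  a : Bool
  /-- swap flag -/
  b : Bool
  deriving DecidableEq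

namespace W

variable {N : ℕ}

/-- the sign of an inversion flag -/
def sg (N : ℕ) (a : Bool) : ZMod N := if a then -1 else 1

@[simp] theorem sg_false : sg N false = 1 := rfl
@[simp] theorem sg_true : sg N true = -1 := rfl

instance : Mul (W N) :=
  ⟨fun p r => ⟨p.x + sg N p.a * (if p.b then r.y else r.x), p.y + sg N p.a * (if p.b then r.x else r.y),
    xor p.a r.a, xor p.b r.b⟩⟩

instance : One (W N) := ⟨⟨0, 0, false, false⟩⟩

instance : Inv (W N) :=
  ⟨fun p => ⟨-(sg N p.a * (if p.b then p.y else p.x)), -(sg N p.a * (if p.b then p.x else p.y)), p.a, p.b⟩⟩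

@[simp] theorem mul_x (p r : W N) : (p * r).x = p.x + sg N p.a * (if p.b then r.y else r.x) := rfl
@[simp] theorem mul_y (p r : W N) : (p * r).y = p.y + sg N p.a * (if p.b then r.x else r.y) := rfl
@[simp] theorem mul_a (p r : W N) : (p * r).a = xor p.a r.a := rfl
@[simp] theorem mul_b (p r : W N) : (p * r).b = xor p.b r.b := rfl
@[simp] theorem one_x : (1 : W N).x = 0 := rfl
@[simp] theorem one_y : (1 : W N).y = 0 := rfl
@[simp] theorem one_a : (1 : W N).a = false := rfl
@[simp] theorem one_b : (1 : W N).b = false := rfl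
@[simp] theorem inv_x (p : W N) : p⁻¹.x = -(sg N p.a * (if p.b then p.y else p.x)) := rfl
@[simp] theorem inv_y (p : W N) : p⁻¹.y = -(sg N p.a * (if p.b then p.x else p.y)) := rfl
@[simp] theorem inv_a (p : W N) : p⁻¹.a = p.a := rfl
@[simp] theorem inv_b (p : W N) : p⁻¹.b = p.b := rfl

instance : Group (W N) :=
  Group.ofLeftAxioms
    (fun ⟨x, y, a, b⟩ ⟨x', y', a', b'⟩ ⟨x'', y'', a'', b''⟩ => by
      cases a <;> cases b <;> cases a' <;> cases b' <;> ext <;> simp <;> ring)
    (fun ⟨x, y, a, b⟩ => by ext <;> simp)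
    (fun ⟨x, y, a, b⟩ => by cases a <;> cases b <;> ext <;> simp)

/-- coordinates -/
def equivProd : W N ≃ (ZMod N × ZMod N) × Bool × Bool where
  toFun p := ((p.x, p.y), p.a, p.b)
  invFun p := ⟨p.1.1, p.1.2, p.2.1, p.2.2⟩

instance [NeZero N] : Finite (W N) := Finite.of_equiv _ equivProd.symm

theorem card_eq [NeZero N] : Nat.card (W N) = 4 * N ^ 2 := by
  rw [Nat.card_congr equivProd]
  simp [Nat.card_prod]
  ring

/-- translations -/
def tr (x y : ZMod N) : W N := ⟨x, y, false, false⟩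

/-- the inversion -/
def uu : W N := ⟨0, 0, true, false⟩

/-- the swap -/
def ss : W N := ⟨0, 0, false, true⟩

/-- inversion followed by the swap -/
def us : W N := ⟨0, 0, true, true⟩

/-- the abelian normal subgroup -/
def T (N : ℕ) : Subgroup (W N) where
  carrier := {p | p.a = false ∧ p.b = false}
  one_mem' := ⟨rfl, rfl⟩
  mul_mem' := by rintro p r ⟨h1, h2⟩ ⟨h3, h4⟩; simp [h1, h2, h3, h4]
  inv_mem' := by rintro p ⟨h1, h2⟩; simp [h1, h2]

theorem mem_T {p : W N} : p ∈ T N ↔ p.a = false ∧ p.b = false := Iff.rfl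

theorem tr_mem_T (x y : ZMod N) : tr x y ∈ T N := ⟨rfl, rfl⟩

theorem T_comm {p r : W N} (hp : p ∈ T N) (hr : r ∈ T N) : p * r = r * p := by
  obtain ⟨x, y, a, b⟩ := p; obtain ⟨x', y', a', b'⟩ := r
  obtain ⟨rfl, rfl⟩ : a = false ∧ b = false := hp
  obtain ⟨rfl, rfl⟩ : a' = false ∧ b' = false := hr
  ext <;> simp [add_comm]

theorem card_T [NeZero N] : Nat.card (T N) = N ^ 2 := by
  have e : T N ≃ ZMod N × ZMod N :=
    { toFun := fun p => (p.1.x, p.1.y)
      invFun := fun c => ⟨tr c.1 c.2, rfl, rfl⟩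
      left_inv := fun p => Subtype.ext (W.ext rfl rfl p.2.1.symm p.2.2.symm)
      right_inv := fun c => rfl }
  rw [Nat.card_congr e, Nat.card_prod, Nat.card_zmod]; ring

theorem tr_pow (x y : ZMod N) : ∀ k : ℕ, tr x y ^ k = tr ((k : ZMod N) * x) ((k : ZMod N) * y)
  | 0 => by ext <;> simp [tr]
  | k + 1 => by rw [pow_succ, tr_pow x y k]; ext <;> simp [tr] <;> ring

end W

end CfsgLib.Recog.G2Sylow
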