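import Cfsg.Agent.Lib.Recog.G2Sylow.Model

/-!
# Involutions, abelian subgroups and parities of `(C_N × C_N) : ⟨inversion, swap⟩`, `N = 2 ^ a`
(owner: helper28)
-/

set_option autoImplicit false

namespace CfsgLib.Recog.G2Sylow

variable {a : ℕ}

/-- the residue of half the modulus -/
def half (a : ℕ) : ZMod (2 ^ a) := ((2 ^ (a - 1) : ℕ) : ZMod (2 ^ a))

theorem two_half (ha : 2 ≤ a) : 2 * half a = 0 := by
  have h : (((2 * 2 ^ (a - 1) : ℕ)) : ZMod (2 ^ a)) = 0 := by
    rw [← pow_succ', Nat.sub_add_cancel (by omega)]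
    exact ZMod.natCast_self _
  rw [← h]; simp [half]

theorem half_ne_zero (ha : 2 ≤ a) : half a ≠ 0 := by
  rw [half, Ne, ZMod.natCast_eq_zero_iff]
  intro h
  have := Nat.le_of_dvd (Nat.pow_pos (by norm_num : 0 < 2)) h
  have : 2 ^ (a - 1) < 2 ^ a := Nat.pow_lt_pow_right (by norm_num) (by omega)
  omega

theorem eq_zero_or_half (ha : 2 ≤ a) {x : ZMod (2 ^ a)} (h : 2 * x = 0) : x = 0 ∨ x = half a := by
  have hv : ((2 * x.val : ℕ) : ZMod (2 ^ a)) = 0 := by
    push_cast; rw [ZMod.natCast_zmod_val]; exact h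
  rw [ZMod.natCast_eq_zero_iff] at hv
  have hlt := ZMod.val_lt x
  have e : 2 ^ a = 2 * 2 ^ (a - 1) := by rw [← pow_succ', Nat.sub_add_cancel (by omega)]
  have hlt' := lt_of_lt_of_eq hlt e
  obtain ⟨k, hk⟩ := (Nat.mul_dvd_mul_iff_left (by norm_num : 0 < 2)).1 ((dvd_of_eq e.symm).trans hv)
  have hk2 : k < 2 := by
    by_contra hc
    have : 2 ^ (a - 1) * 2 ≤ 2 ^ (a - 1) * k := Nat.mul_le_mul_left _ (by omega)
    omega
  rw [← ZMod.natCast_zmod_val x, hk]
  interval_cases k
  · exact Or.inl (by simp)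
  · exact Or.inr (by simp [half])

/-- parity of a residue -/
def par (ha : 2 ≤ a) : ZMod (2 ^ a) →+* ZMod 2 := ZMod.castHom (dvd_pow_self 2 (by omega)) (ZMod 2)

theorem par_two_mul (ha : 2 ≤ a) (x : ZMod (2 ^ a)) : par ha (2 * x) = 0 := by
  rw [map_mul, show par ha 2 = 0 by rw [map_ofNat]; decide, zero_mul]

theorem exists_two_mul_of_par (ha : 2 ≤ a) {x : ZMod (2 ^ a)} (h : par ha x = 0) : ∃ y, x = 2 * y := by
  have hv : ((x.val : ℕ) : ZMod 2) = 0 := by
    rw [← map_natCast (par ha), ZMod.natCast_zmod_val]; exact h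
  rw [ZMod.natCast_eq_zero_iff] at hv
  obtain ⟨k, hk⟩ := hv
  exact ⟨(k : ZMod (2 ^ a)), by rw [← ZMod.natCast_zmod_val x, hk]; simp⟩

theorem eq_one_of_ne : ∀ {z : ZMod 2}, z ≠ 0 → z = 1 := by decide

theorem half_mul_of_par (ha : 2 ≤ a) (x : ZMod (2 ^ a)) :
    half a * x = if par ha x = 0 then 0 else half a := by
  split_ifs with h
  · obtain ⟨y, rfl⟩ := exists_two_mul_of_par ha h
    rw [show half a * (2 * y) = 2 * half a * y by ring, two_half ha, zero_mul]
  · have h1 : par ha (x - 1) = 0 := by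
      rw [map_sub, map_one]; exact sub_eq_zero.2 (eq_one_of_ne h)
    obtain ⟨y, hy⟩ := exists_two_mul_of_par ha h1
    rw [sub_eq_iff_eq_add.1 hy, show half a * (2 * y + 1) = 2 * half a * y + half a by ring,
      two_half ha, zero_mul, zero_add]

theorem par_half (ha : 3 ≤ a) : par (a := a) (by omega) (half a) = 0 := by
  rw [half, map_natCast, ZMod.natCast_eq_zero_iff]
  exact dvd_pow_self 2 (by omega)

theorem par_of_four_mul (ha : 3 ≤ a) {x : ZMod (2 ^ a)} (h : 4 * x = 0) : par (a := a) (by omega) x = 0 := by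
  have hv : ((4 * x.val : ℕ) : ZMod (2 ^ a)) = 0 := by
    push_cast; rw [ZMod.natCast_zmod_val]; exact h
  rw [ZMod.natCast_eq_zero_iff] at hv
  have e : 4 * 2 ^ (a - 2) = 2 ^ a := by
    rw [show (4 : ℕ) = 2 ^ 2 by norm_num, ← pow_add]; congr 1; omega
  replace hv := (dvd_of_eq e).trans hv
  have h2 : (2 : ℕ) ∣ x.val := (dvd_pow_self 2 (by omega : a - 2 ≠ 0)).trans
    ((Nat.mul_dvd_mul_iff_left (by norm_num : 0 < 4)).1 hv)
  rw [← ZMod.natCast_zmod_val x, map_natCast, ZMod.natCast_eq_zero_iff]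
  exact h2

namespace W

/-- a flag as a residue -/
def fl (c : Bool) : ZMod 2 := if c then 1 else 0

theorem fl_xor : ∀ c d : Bool, fl (xor c d) = fl c + fl d := by decide

theorem fl_eq_zero : ∀ c : Bool, fl c = 0 ↔ c = false := by decide

/-- the two flags -/
def flags (N : ℕ) : W N →* Multiplicative (ZMod 2 × ZMod 2) where
  toFun p := Multiplicative.ofAdd (fl p.a, fl p.b)
  map_one' := rfl
  map_mul' p r := congrArg Multiplicative.ofAdd (Prod.ext (fl_xor p.a r.a) (fl_xor p.b r.b))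

/-- the parity character -/
def piHom (ha : 2 ≤ a) : W (2 ^ a) →* Multiplicative (ZMod 2) where
  toFun p := Multiplicative.ofAdd (par ha (p.x + p.y))
  map_one' := by simp
  map_mul' p r := by
    rw [← ofAdd_add]
    obtain ⟨x, y, c, d⟩ := p; obtain ⟨x', y', c', d'⟩ := r
    have hs : ∀ z : ZMod 2, -z = z := by decide
    cases c <;> cases d <;> simp [hs, ← ofAdd_add] <;> ring

theorem flags_eq_one_iff {N : ℕ} {p : W N} : flags N p = 1 ↔ p ∈ T N := by
  show Multiplicative.ofAdd (fl p.a, fl p.b) = 1 ↔ _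
  rw [← ofAdd_zero, EmbeddingLike.apply_eq_iff_eq, Prod.mk_eq_zero, fl_eq_zero, fl_eq_zero, mem_T]

theorem card_le_inf_mul {N : ℕ} [NeZero N] (A : Subgroup (W N)) :
    Nat.card A = Nat.card ↥(A ⊓ T N) * Nat.card ↥(A.map (flags N)) := by
  have hrange : ((flags N).comp A.subtype).range = A.map (flags N) := by
    rw [MonoidHom.range_eq_map, ← Subgroup.map_map, ← MonoidHom.range_eq_map, Subgroup.range_subtype]
  have e : (((flags N).comp A.subtype).ker : Subgroup A) ≃ ↥(A ⊓ T N) :=
    { toFun := fun p => ⟨p.1.1, p.1.2, flags_eq_one_iff.1 p.2⟩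
      invFun := fun p => ⟨⟨p.1, p.2.1⟩, flags_eq_one_iff.2 p.2.2⟩
      left_inv := fun p => rfl
      right_inv := fun p => rfl }
  rw [← Subgroup.card_mul_index ((flags N).comp A.subtype).ker, Subgroup.index_ker, hrange,
    Nat.card_congr e]

variable (ha : 2 ≤ a)
include ha

theorem two_elementary {p : W (2 ^ a)} (hp : p ∈ T (2 ^ a)) (hx : 2 * p.x = 0) (hy : 2 * p.y = 0) :
    p = tr 0 0 ∨ p = tr (half a) 0 ∨ p = tr 0 (half a) ∨ p = tr (half a) (half a) := by
  obtain ⟨x, y, c, d⟩ := p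
  obtain ⟨rfl, rfl⟩ : c = false ∧ d = false := hp
  rcases eq_zero_or_half ha hx with h1 | h1 <;> rcases eq_zero_or_half ha hy with h2 | h2 <;>
    simp only at h1 h2 <;> subst h1 h2 <;> simp [tr]

/-- An element of `T` commuting with an element outside `T`. -/
theorem commute_cases {p r : W (2 ^ a)} (hp : p ∈ T (2 ^ a)) (h : Commute p r) :
    (r.b = true → (r.a = false → p.y = p.x) ∧ (r.a = true → p.y = -p.x)) ∧
      (r.b = false → r.a = true → 2 * p.x = 0 ∧ 2 * p.y = 0) := by
  obtain ⟨x, y, c, d⟩ := p; obtain ⟨x', y', c', d'⟩ := r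
  obtain ⟨rfl, rfl⟩ : c = false ∧ d = false := hp
  have h1 := congrArg W.x h.eq
  have h2 := congrArg W.y h.eq
  refine ⟨fun e => ⟨fun f => ?_, fun f => ?_⟩, fun e f => ⟨?_, ?_⟩⟩ <;>
    simp only at e f <;> subst e f <;> simp at h1 h2 ⊢
  · linear_combination h2
  · linear_combination h2
  · linear_combination h1
  · linear_combination h2

theorem card_commutant_le_four (A : Subgroup (W (2 ^ a))) {r : W (2 ^ a)} (hr : ∀ p ∈ A, Commute p r)
    (hrb : r.b = false) (hra : r.a = true) : Nat.card ↥(A ⊓ T (2 ^ a)) ≤ 4 := by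
  have hsub : ((A ⊓ T (2 ^ a) : Subgroup _) : Set (W (2 ^ a))) ⊆
      ({tr 0 0, tr (half a) 0, tr 0 (half a), tr (half a) (half a)} : Finset (W (2 ^ a)))
      := by
    intro p hp
    obtain ⟨h1, h2⟩ := (commute_cases ha hp.2 (hr p hp.1)).2 hrb hra
    simpa using two_elementary ha hp.2 h1 h2
  exact (Nat.card_mono (Finset.finite_toSet _) hsub).trans
    (by rw [Nat.card_coe_set_eq, Set.ncard_coe_finset]; exact Finset.card_le_four)

/-- The translations are the only abelian subgroup of order `N²`. -/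
theorem eq_T (A : Subgroup (W (2 ^ a))) (hA : ∀ p ∈ A, ∀ r ∈ A, Commute p r)
    (hc : Nat.card A = (2 ^ a) ^ 2) : A = T (2 ^ a) := by
  classical
  by_cases hle : A ≤ T (2 ^ a)
  · exact Subgroup.eq_of_le_of_card_ge hle (by rw [card_T, hc])
  exfalso
  have h4 : 4 ≤ 2 ^ a := le_trans (by norm_num) (Nat.pow_le_pow_right (by norm_num) ha)
  have h16 : 4 * 2 ^ a ≤ (2 ^ a) ^ 2 := by rw [pow_two]; exact Nat.mul_le_mul_right _ h4
  have hprod := card_le_inf_mul A
  have hF : Nat.card ↥(A.map (flags (2 ^ a))) ≤ 4 := by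
    refine (Nat.card_le_card_of_injective (Subgroup.subtype _) Subtype.val_injective).trans ?_
    simp
  have hboole : ∀ (v : Multiplicative (ZMod 2 × ZMod 2)), (∀ f ∈ A.map (flags (2 ^ a)), f = 1 ∨ f = v) →
      Nat.card ↥(A.map (flags (2 ^ a))) ≤ 2 := by
    intro v hv
    have hsub : ((A.map (flags (2 ^ a)) : Subgroup _) : Set (Multiplicative (ZMod 2 × ZMod 2))) ⊆
        ({1, v} : Finset (Multiplicative (ZMod 2 × ZMod 2))) :=
      fun f hf => by simpa using hv f hf
    exact (Nat.card_mono (Finset.finite_toSet _) hsub).trans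
      (by rw [Nat.card_coe_set_eq, Set.ncard_coe_finset]; exact Finset.card_le_two)
  by_cases hb : ∃ r ∈ A, r.b = true
  · obtain ⟨r, hrA, hrb⟩ := hb
    have hfix : ∀ p ∈ A ⊓ T (2 ^ a), (r.a = false → p.y = p.x) ∧ (r.a = true → p.y = -p.x) := fun p hp =>
      (commute_cases ha hp.2 (hA p hp.1 r hrA)).1 hrb
    have hinj : Function.Injective (fun p : ↥(A ⊓ T (2 ^ a)) => (p : W (2 ^ a)).x) := by
      intro p p' h
      refine Subtype.ext (W.ext h ?_ (p.2.2.1.trans p'.2.2.1.symm) (p.2.2.2.trans p'.2.2.2.symm))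
      cases hra : r.a
      · rw [(hfix _ p.2).1 hra, (hfix _ p'.2).1 hra]; exact h
      · rw [(hfix _ p.2).2 hra, (hfix _ p'.2).2 hra]; exact congrArg Neg.neg h
    by_cases hu : ∃ s ∈ A, s.b = false ∧ s.a = true
    · obtain ⟨s, hsA, hsb, hsa⟩ := hu
      have hsub : ((A ⊓ T (2 ^ a) : Subgroup _) : Set (W (2 ^ a))) ⊆
          ({tr 0 0, tr (half a) (half a)} : Finset (W (2 ^ a))) := by
        intro p hp
        obtain ⟨h1, h2⟩ := (commute_cases ha hp.2 (hA p hp.1 s hsA)).2 hsb hsa
        have hyx : p.y = p.x := by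
          cases hra : r.a
          · exact (hfix p hp).1 hra
          · rw [(hfix p hp).2 hra]; linear_combination -h1
        rcases two_elementary ha hp.2 h1 h2 with e | e | e | e <;> rw [e] at hyx <;>
          simp [tr] at hyx <;>
          first
            | (simp [e]; done)
            | exact absurd hyx (half_ne_zero ha)
            | exact absurd hyx.symm (half_ne_zero ha)
      have hle2 : Nat.card ↥(A ⊓ T (2 ^ a)) ≤ 2 :=
        (Nat.card_mono (Finset.finite_toSet _) hsub).trans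
          (by rw [Nat.card_coe_set_eq, Set.ncard_coe_finset]; exact Finset.card_le_two)
      have := Nat.mul_le_mul hle2 hF
      omega
    · push Not at hu
      have hFle := hboole (flags _ r) (by
        rintro f ⟨p, hp, rfl⟩
        have key : ∀ s ∈ A, s.b = false → s.a = false := fun s hs h => by simpa using hu s hs h
        rcases Bool.eq_false_or_eq_true p.b with hpb | hpb
        · right
          have hpr := key _ (A.mul_mem hp hrA) (by simp [hpb, hrb])
          simp only [W.mul_a] at hpr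
          show Multiplicative.ofAdd (fl p.a, fl p.b) = Multiplicative.ofAdd (fl r.a, fl r.b)
          rw [hpb, hrb, show p.a = r.a by revert hpr; cases p.a <;> cases r.a <;> simp]
        · left
          exact flags_eq_one_iff.2 ⟨key p hp hpb, hpb⟩)
      have hle2 := Nat.card_le_card_of_injective _ hinj
      rw [Nat.card_zmod] at hle2
      have := Nat.mul_le_mul hle2 hFle
      omega
  · push Not at hb
    obtain ⟨r, hrA, hrT⟩ := Set.not_subset.1 hle
    have hrb : r.b = false := by simpa using hb r hrA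
    have hra : r.a = true := by simpa [mem_T, hrb] using hrT
    have hFle := hboole (flags _ r) (by
      rintro f ⟨p, hp, rfl⟩
      have hpb : p.b = false := by simpa using hb p hp
      rcases Bool.eq_false_or_eq_true p.a with hpa | hpa
      · right; show Multiplicative.ofAdd (fl p.a, fl p.b) = Multiplicative.ofAdd (fl r.a, fl r.b); rw [hpb, hpa, hrb, hra]
      · left; exact flags_eq_one_iff.2 ⟨hpa, hpb⟩)
    have hle4 := card_commutant_le_four ha A (fun p hp => hA p hp r hrA) hrb hra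
    have := Nat.mul_le_mul hle4 hFle
    omega

theorem inv_cases {p : W (2 ^ a)} (hp : p * p = 1) :
    (p.a = false ∧ p.b = false ∧ 2 * p.x = 0 ∧ 2 * p.y = 0) ∨ (p.a = true ∧ p.b = false) ∨
      (p.a = false ∧ p.b = true ∧ p.y = -p.x) ∨ (p.a = true ∧ p.b = true ∧ p.y = p.x) := by
  obtain ⟨x, y, c, d⟩ := p
  have h1 := congrArg W.x hp
  have h2 := congrArg W.y hp
  cases c <;> cases d <;> simp at h1 h2 ⊢
  · exact ⟨by linear_combination h1, by linear_combination h2⟩
  · linear_combination h1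
  · linear_combination -h1

theorem conj_ss {p : W (2 ^ a)} (h1 : p.a = false) (h2 : p.b = true) (h3 : p.y = -p.x) : IsConj p ss := by
  refine (isConj_iff.2 ⟨tr p.x 0, ?_⟩).symm
  ext <;> simp [tr, ss, h1, h2, h3]

theorem conj_us {p : W (2 ^ a)} (h1 : p.a = true) (h2 : p.b = true) (h3 : p.y = p.x) : IsConj p us := by
  refine (isConj_iff.2 ⟨tr p.x 0, ?_⟩).symm
  ext <;> simp [tr, us, h1, h2, h3]

theorem conj_of_par {p r : W (2 ^ a)} (h1 : p.a = true) (h2 : p.b = false) (h3 : r.a = true)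
    (h4 : r.b = false) (hx : par ha p.x = par ha r.x) (hy : par ha p.y = par ha r.y) : IsConj p r := by
  obtain ⟨i, hi⟩ := exists_two_mul_of_par ha (show par ha (r.x - p.x) = 0 by rw [map_sub, hx, sub_self])
  obtain ⟨j, hj⟩ := exists_two_mul_of_par ha (show par ha (r.y - p.y) = 0 by rw [map_sub, hy, sub_self])
  refine isConj_iff.2 ⟨tr i j, ?_⟩
  ext <;> simp [tr, h1, h2, h3, h4]
  · linear_combination -hi
  · linear_combination -hj

end W

end CfsgLib.Recog.G2Sylow
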